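import Mathlib
import Cfsg.Agent.Lib.GLClass.CommSim
import Cfsg.Agent.Lib.GLClass.CommTri

/-!
Products of conjugates with prescribed determinants, Krylov matrices, and the effect of a rank-one
change on the characteristic polynomial of a cyclic matrix.
-/

set_option autoImplicit false

namespace CfsgLib.GLClass.Cover

open Polynomial Matrix Module
open CfsgLib.GLClass.CommSL

variable {F : Type*} [Field F] {ι κ : Type*} [Fintype ι] [DecidableEq ι] [Fintype κ] [DecidableEq κ]

/-- `y` is conjugate to `x` by a matrix of determinant `δ`. -/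
def ConjD (δ : F) (x y : Matrix ι ι F) : Prop :=
  ∃ U V : Matrix ι ι F, U * V = 1 ∧ U.det = δ ∧ y = U * x * V

theorem ConjD.refl (x : Matrix ι ι F) : ConjD 1 x x := ⟨1, 1, mul_one 1, det_one, by simp⟩

theorem ConjD.ne_zero {δ : F} {x y : Matrix ι ι F} (h : ConjD δ x y) : δ ≠ 0 := by
  obtain ⟨U, V, h1, rfl, -⟩ := h
  exact det_ne_zero_of_right_inverse h1

theorem ConjD.det_eq {δ : F} {x y : Matrix ι ι F} (h : ConjD δ x y) : y.det = x.det := by
  obtain ⟨U, V, h1, -, rfl⟩ := h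
  exact Matrix.det_conj_of_mul_eq_one h1 (mul_eq_one_comm.1 h1)

theorem ConjD.trans {δ ε : F} {x y z : Matrix ι ι F} (h : ConjD δ x y) (h' : ConjD ε y z) : ConjD (ε * δ) x z := by
  obtain ⟨U, V, h1, rfl, rfl⟩ := h
  obtain ⟨U', V', k1, rfl, rfl⟩ := h'
  refine ⟨U' * U, V * V', ?_, det_mul _ _, by simp only [Matrix.mul_assoc]⟩
  rw [Matrix.mul_assoc, ← Matrix.mul_assoc U, h1, Matrix.one_mul, k1]

theorem ConjD.symm {δ : F} {x y : Matrix ι ι F} (h : ConjD δ x y) : ConjD δ⁻¹ y x := by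
  obtain ⟨U, V, h1, rfl, rfl⟩ := h
  have h2 := mul_eq_one_comm.1 h1
  refine ⟨V, U, h2, eq_inv_of_mul_eq_one_left ?_, ?_⟩
  · rw [← det_mul, h2, det_one]
  · rw [← Matrix.mul_assoc, ← Matrix.mul_assoc, h2, Matrix.one_mul, Matrix.mul_assoc, h2, Matrix.mul_one]

theorem ConjD.blocks {δ ε : F} {x y : Matrix ι ι F} {x' y' : Matrix κ κ F} (h : ConjD δ x y) (h' : ConjD ε x' y') :
    ConjD (δ * ε) (fromBlocks x 0 0 x') (fromBlocks y 0 0 y') := by
  obtain ⟨U, V, h1, rfl, rfl⟩ := h
  obtain ⟨U', V', k1, rfl, rfl⟩ := h'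
  refine ⟨fromBlocks U 0 0 U', fromBlocks V 0 0 V', ?_, det_fromBlocks_zero₁₂ _ _ _, ?_⟩ <;>
    simp [fromBlocks_multiply, h1, k1]

theorem ConjD.transport {δ : F} {x y : Matrix κ κ F} (h : ConjD δ x y) {U : Matrix ι κ F} {V : Matrix κ ι F}
    (h1 : U * V = 1) (h2 : V * U = 1) : ConjD δ (U * x * V) (U * y * V) := by
  obtain ⟨P, Q, k1, rfl, rfl⟩ := h
  refine ⟨U * P * V, U * Q * V, ?_, Matrix.det_conj_of_mul_eq_one h1 h2, ?_⟩
  · calc U * P * V * (U * Q * V) = U * (P * (V * U) * Q) * V := by simp only [Matrix.mul_assoc]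
      _ = 1 := by rw [h2, Matrix.mul_one, k1, Matrix.mul_one, h1]
  · calc U * (P * x * Q) * V = U * (P * (V * U) * x * (V * U) * Q) * V := by rw [h2]; simp
      _ = U * P * V * (U * x * V) * (U * Q * V) := by simp only [Matrix.mul_assoc]

theorem exists_conjD_of_sim {x y : Matrix ι ι F} (h : Sim x y) : ∃ δ, ConjD δ y x := by
  obtain ⟨U, V, h1, -, rfl⟩ := h
  exact ⟨U.det, U, V, h1, rfl, rfl⟩

theorem sim_of_conjD {δ : F} {x y : Matrix ι ι F} (h : ConjD δ x y) : Sim y x := by
  obtain ⟨U, V, h1, -, rfl⟩ := h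
  exact ⟨U, V, h1, mul_eq_one_comm.1 h1, rfl⟩

/-- `M` is a product of conjugates of `x` by matrices with the listed determinants. -/
def Pr (x : Matrix ι ι F) : List F → Matrix ι ι F → Prop
  | [], M => M = 1
  | δ :: l, M => ∃ y N, ConjD δ x y ∧ Pr x l N ∧ M = y * N

theorem pr_singleton {x y : Matrix ι ι F} {δ : F} (h : ConjD δ x y) : Pr x [δ] y :=
  ⟨y, 1, h, rfl, (mul_one y).symm⟩

theorem pr_singleton_self (x : Matrix ι ι F) : Pr x [1] x := pr_singleton (ConjD.refl x)

theorem Pr.append {x : Matrix ι ι F} : ∀ {l l' : List F} {M M' : Matrix ι ι F},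
    Pr x l M → Pr x l' M' → Pr x (l ++ l') (M * M')
  | [], l', M, M', h, h' => by
    rw [show M = 1 from h, Matrix.one_mul]; exact h'
  | δ :: l, l', M, M', ⟨y, N, hy, hN, e⟩, h' =>
    ⟨y, N * M', hy, hN.append h', by rw [e, Matrix.mul_assoc]⟩

theorem Pr.ne_zero {x : Matrix ι ι F} : ∀ {l : List F} {M : Matrix ι ι F}, Pr x l M → ∀ δ ∈ l, δ ≠ 0
  | [], _, _ => by simp
  | δ :: l, M, ⟨y, N, hy, hN, _⟩ => by
    intro ε hε
    rcases List.mem_cons.1 hε with rfl | hε
    · exact hy.ne_zero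
    · exact hN.ne_zero ε hε

theorem Pr.det_eq {x : Matrix ι ι F} : ∀ {l : List F} {M : Matrix ι ι F}, Pr x l M → M.det = x.det ^ l.length
  | [], M, h => by rw [show M = 1 from h]; simp
  | δ :: l, M, ⟨y, N, hy, hN, e⟩ => by
    rw [e, det_mul, hy.det_eq, hN.det_eq, List.length_cons, pow_succ']

theorem Pr.blocks {x : Matrix ι ι F} {x' : Matrix κ κ F} : ∀ {l l' : List F} {M : Matrix ι ι F} {M' : Matrix κ κ F},
    Pr x l M → Pr x' l' M' → l.length = l'.length →
      Pr (fromBlocks x 0 0 x') (List.zipWith (· * ·) l l') (fromBlocks M 0 0 M')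
  | [], [], M, M', h, h', _ => by
    rw [show M = 1 from h, show M' = 1 from h']
    exact fromBlocks_one
  | [], _ :: _, _, _, _, _, hl => by simp at hl
  | _ :: _, [], _, _, _, _, hl => by simp at hl
  | δ :: l, ε :: l', M, M', ⟨y, N, hy, hN, e⟩, ⟨y', N', hy', hN', e'⟩, hl =>
    ⟨fromBlocks y 0 0 y', fromBlocks N 0 0 N', hy.blocks hy', hN.blocks hN' (by simpa using hl),
      by subst e; subst e'; simp [fromBlocks_multiply]⟩

theorem Pr.transport {x : Matrix κ κ F} {U : Matrix ι κ F} {V : Matrix κ ι F} (h1 : U * V = 1) (h2 : V * U = 1) :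
    ∀ {l : List F} {M : Matrix κ κ F}, Pr x l M → Pr (U * x * V) l (U * M * V)
  | [], M, h => by rw [show M = 1 from h, Matrix.mul_one, h1]; rfl
  | δ :: l, M, ⟨y, N, hy, hN, e⟩ => by
    refine ⟨U * y * V, U * N * V, hy.transport h1 h2, hN.transport h1 h2, ?_⟩
    calc U * M * V = U * (y * (V * U) * N) * V := by rw [h2, Matrix.mul_one, e]
      _ = U * y * V * (U * N * V) := by simp only [Matrix.mul_assoc]

/-- Conjugating the product multiplies every determinant. -/
theorem Pr.conj {x : Matrix ι ι F} {U V : Matrix ι ι F} (h1 : U * V = 1) :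
    ∀ {l : List F} {M : Matrix ι ι F}, Pr x l M → Pr x (l.map (U.det * ·)) (U * M * V)
  | [], M, h => by rw [show M = 1 from h, Matrix.mul_one, h1]; rfl
  | δ :: l, M, ⟨y, N, hy, hN, e⟩ => by
    refine ⟨U * y * V, U * N * V, hy.trans ⟨U, V, h1, rfl, rfl⟩, hN.conj h1, ?_⟩
    calc U * M * V = U * (y * (V * U) * N) * V := by rw [mul_eq_one_comm.1 h1, Matrix.mul_one, e]
      _ = U * y * V * (U * N * V) := by simp only [Matrix.mul_assoc]

/-- `M` is a product of `a` conjugates of `x` in the general linear group. -/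
def GPr (x : Matrix ι ι F) (a : ℕ) (M : Matrix ι ι F) : Prop := ∃ l : List F, l.length = a ∧ Pr x l M

theorem GPr.append {x : Matrix ι ι F} {a b : ℕ} {M N : Matrix ι ι F} (h : GPr x a M) (h' : GPr x b N) :
    GPr x (a + b) (M * N) := by
  obtain ⟨l, rfl, h⟩ := h
  obtain ⟨l', rfl, h'⟩ := h'
  exact ⟨l ++ l', List.length_append, h.append h'⟩

theorem GPr.blocks {x : Matrix ι ι F} {x' : Matrix κ κ F} {a : ℕ} {M : Matrix ι ι F} {M' : Matrix κ κ F}
    (h : GPr x a M) (h' : GPr x' a M') : GPr (fromBlocks x 0 0 x') a (fromBlocks M 0 0 M') := by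
  obtain ⟨l, rfl, h⟩ := h
  obtain ⟨l', hl, h'⟩ := h'
  exact ⟨_, by rw [List.length_zipWith, hl, min_self], h.blocks h' hl.symm⟩

theorem GPr.det_eq {x : Matrix ι ι F} {a : ℕ} {M : Matrix ι ι F} (h : GPr x a M) : M.det = x.det ^ a := by
  obtain ⟨l, rfl, h⟩ := h
  exact h.det_eq

theorem GPr.of_sim_left {x : Matrix ι ι F} {x' : Matrix κ κ F} (hs : Sim x x') {a : ℕ} {M : Matrix κ κ F}
    (h : GPr x' a M) : ∃ M' : Matrix ι ι F, Sim M' M ∧ GPr x a M' := by
  obtain ⟨U, V, h1, h2, rfl⟩ := hs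
  obtain ⟨l, rfl, h⟩ := h
  exact ⟨U * M * V, ⟨U, V, h1, h2, rfl⟩, l, rfl, h.transport h1 h2⟩

theorem GPr.of_sim_right {x : Matrix ι ι F} {a : ℕ} {M M' : Matrix ι ι F} (hs : Sim M' M) (h : GPr x a M) :
    GPr x a M' := by
  obtain ⟨U, V, h1, -, rfl⟩ := hs
  obtain ⟨l, rfl, h⟩ := h
  exact ⟨_, List.length_map _, h.conj h1⟩

/-- The centraliser of `x` contains matrices of every determinant. -/
def Flex (x : Matrix ι ι F) : Prop := ∀ δ : F, δ ≠ 0 → ConjD δ x x

theorem Flex.conjD {x y : Matrix ι ι F} (hx : Flex x) {δ ε : F} (h : ConjD δ x y) (hε : ε ≠ 0) : ConjD ε x y := by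
  have h0 := h.ne_zero
  have := (hx (δ⁻¹ * ε) (mul_ne_zero (inv_ne_zero h0) hε)).trans h
  rwa [← mul_assoc, mul_inv_cancel₀ h0, one_mul] at this

theorem Flex.pr {x : Matrix ι ι F} (hx : Flex x) : ∀ {l l' : List F} {M : Matrix ι ι F},
    Pr x l M → l'.length = l.length → (∀ δ ∈ l', δ ≠ 0) → Pr x l' M
  | [], [], M, h, _, _ => h
  | [], _ :: _, _, _, hl, _ => by simp at hl
  | _ :: _, [], _, _, hl, _ => by simp at hl
  | δ :: l, ε :: l', M, ⟨y, N, hy, hN, e⟩, hl, h0 =>
    ⟨y, N, hx.conjD hy (h0 ε (by simp)), hx.pr hN (by simpa using hl) (fun d hd => h0 d (by simp [hd])), e⟩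

theorem Flex.of_sim {x : Matrix ι ι F} {x' : Matrix κ κ F} (hs : Sim x x') (h : Flex x') : Flex x := by
  obtain ⟨U, V, h1, h2, rfl⟩ := hs
  exact fun δ hδ => (h δ hδ).transport h1 h2

theorem Flex.blocks_left {x : Matrix ι ι F} (x' : Matrix κ κ F) (h : Flex x) : Flex (fromBlocks x 0 0 x') := by
  intro δ hδ
  have := (h δ hδ).blocks (ConjD.refl x')
  rwa [mul_one] at this

theorem flex_scalar [Nonempty ι] (c : F) : Flex (c • (1 : Matrix ι ι F)) := by
  intro δ hδ
  obtain ⟨i⟩ := ‹Nonempty ι›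
  refine ⟨diagonal fun j => if j = i then δ else 1, diagonal fun j => if j = i then δ⁻¹ else 1, ?_, ?_, ?_⟩
  · rw [diagonal_mul_diagonal, ← diagonal_one]
    congr 1
    funext j
    by_cases hj : j = i <;> simp [hj, hδ]
  · rw [det_diagonal, Finset.prod_ite_eq' Finset.univ i (fun _ => δ)]
    simp
  · rw [Matrix.mul_smul, Matrix.smul_mul, Matrix.mul_one, diagonal_mul_diagonal, ← diagonal_one]
    congr 2
    funext j
    by_cases hj : j = i <;> simp [hj, hδ]

/-- A monic polynomial with a simple root. -/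
def SimpleRoot (g : F[X]) : Prop :=
  ∃ (d : F) (g₁ : F[X]), g₁.Monic ∧ g₁.eval d ≠ 0 ∧ g = (X - Polynomial.C d) * g₁

theorem flex_of_simpleRoot {g : F[X]} {S : Matrix ι ι F} (hS : Cyc g S) (hg : SimpleRoot g) : Flex S := by
  obtain ⟨d, g₁, h1, h2, rfl⟩ := hg
  have hco : IsCoprime (X - Polynomial.C d) g₁ :=
    ((irreducible_X_sub_C d).coprime_iff_not_dvd).2 fun h => h2 (dvd_iff_isRoot.1 h)
  refine Flex.of_sim (hS.sim (cyc_blocks hco (cyc_unit d) (cyc_comp h1))) ?_
  exact (flex_scalar d).blocks_left _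

section Inverse

theorem cyc_det_eq {φ : F[X]} {M : Matrix ι ι F} (h : Cyc φ M) :
    M.det = (-1) ^ Fintype.card ι * φ.coeff 0 := by
  rw [Matrix.det_eq_sign_charpoly_coeff, h.charpoly_eq]

theorem cyc_coeff_zero_ne {φ : F[X]} {M : Matrix ι ι F} (h : Cyc φ M) (hM : M.det ≠ 0) : φ.coeff 0 ≠ 0 :=
  fun h0 => hM (by rw [cyc_det_eq h, h0, mul_zero])

theorem cyc_inv {φ : F[X]} {A B : Matrix ι ι F} (h : Cyc φ A) (hAB : A * B = 1) : Cyc B.charpoly B := by
  classical
  obtain ⟨hφ, hd, v, hv⟩ := h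
  set n := Fintype.card ι
  refine cyc_of_indep (v := v) B.charpoly_monic B.charpoly_natDegree_eq_dim
    (by rw [aeval_self_charpoly, Matrix.zero_mulVec]) fun p hp hz => ?_
  rw [B.charpoly_natDegree_eq_dim] at hp
  let q : F[X] := ∑ i ∈ Finset.range n, Polynomial.C (p.coeff i) * X ^ (n - 1 - i)
  have hq : aeval A q = A ^ (n - 1) * aeval B p := by
    rw [aeval_eq_sum_range' (show p.natDegree < n from hp), Finset.mul_sum, map_sum]
    refine Finset.sum_congr rfl fun i hi => ?_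
    have hin := Finset.mem_range.1 hi
    rw [map_mul, aeval_C, map_pow, aeval_X, Matrix.mul_smul, Algebra.smul_def]
    congr 1
    conv_rhs => rw [show n - 1 = (n - 1 - i) + i by omega, pow_add, mul_assoc]
    rw [← (show Commute A B from hAB.trans (mul_eq_one_comm.1 hAB).symm).mul_pow, hAB, one_pow, mul_one]
  have h0 : aeval A q *ᵥ v = 0 := by rw [hq, ← Matrix.mulVec_mulVec, hz, Matrix.mulVec_zero]
  have hq0 : q = 0 := by
    refine eq_zero_of_dvd_of_degree_lt ((hv q).1 h0) ?_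
    rw [degree_eq_natDegree hφ.ne_zero, hd]
    refine lt_of_le_of_lt (degree_sum_le _ _) ((Finset.sup_lt_iff (WithBot.bot_lt_coe n)).2 fun i hi => ?_)
    refine lt_of_le_of_lt (degree_C_mul_X_pow_le _ _) ?_
    have := Finset.mem_range.1 hi
    exact Nat.cast_lt.2 (show n - 1 - i < n by omega)
  ext i
  rw [coeff_zero]
  by_cases hi : i < n
  · have := congrArg (fun r => r.coeff (n - 1 - i)) hq0
    simp only [q, finsetSum_coeff, coeff_C_mul_X_pow, coeff_zero] at this
    rwa [Finset.sum_eq_single i (fun j hj hji => if_neg (by have := Finset.mem_range.1 hj; omega))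
      (fun h => absurd (Finset.mem_range.2 hi) h), if_pos rfl] at this
  · exact coeff_eq_zero_of_natDegree_lt (by omega)

end Inverse

section Krylov

variable {n : ℕ}

/-- The matrix of the iterates of `v`. -/
def kry (A : Matrix (Fin n) (Fin n) F) (v : Fin n → F) : Matrix (Fin n) (Fin n) F :=
  Matrix.of fun i j => ((A ^ (j : ℕ)) *ᵥ v) i

/-- The span of the first `k` iterates of `v`. -/
def krySpan (A : Matrix ι ι F) (v : ι → F) (k : ℕ) : Submodule F (ι → F) :=
  Submodule.span F ((fun i : ℕ => (A ^ i) *ᵥ v) '' Set.Iio k)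

theorem pow_mem_krySpan (A : Matrix ι ι F) (v : ι → F) {i k : ℕ} (h : i < k) : (A ^ i) *ᵥ v ∈ krySpan A v k :=
  Submodule.subset_span ⟨i, h, rfl⟩

theorem krySpan_mono (A : Matrix ι ι F) (v : ι → F) {j k : ℕ} (h : j ≤ k) : krySpan A v j ≤ krySpan A v k :=
  Submodule.span_mono (Set.image_mono (Set.Iio_subset_Iio h))

theorem mulVec_mem_krySpan {A : Matrix ι ι F} {v z : ι → F} {k : ℕ} (h : z ∈ krySpan A v k) :
    A *ᵥ z ∈ krySpan A v (k + 1) := by
  induction h using Submodule.span_induction with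
  | mem x hx =>
    obtain ⟨i, hi, rfl⟩ := hx
    have := pow_mem_krySpan A v (show i + 1 < k + 1 by simpa using hi)
    rwa [pow_succ', ← Matrix.mulVec_mulVec] at this
  | zero => simp
  | add x y _ _ hx hy => rw [Matrix.mulVec_add]; exact add_mem hx hy
  | smul c x _ hx => rw [Matrix.mulVec_smul]; exact Submodule.smul_mem _ c hx

theorem aeval_mem_krySpan (A : Matrix ι ι F) (v : ι → F) {p : F[X]} {k : ℕ} (h : p.natDegree < k) :
    aeval A p *ᵥ v ∈ krySpan A v k := by
  rw [aeval_eq_sum_range, Matrix.sum_mulVec]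
  refine sum_mem fun i hi => ?_
  rw [Matrix.smul_mulVec]
  exact Submodule.smul_mem _ _ (pow_mem_krySpan A v (by have := Finset.mem_range.1 hi; omega))

theorem kry_mulVec (A : Matrix (Fin n) (Fin n) F) (v : Fin n → F) (c : Fin n → F) :
    kry A v *ᵥ c = ∑ i, c i • ((A ^ (i : ℕ)) *ᵥ v) := by
  funext i
  simp only [kry, Matrix.mulVec, dotProduct, Matrix.of_apply, Finset.sum_apply, Pi.smul_apply, smul_eq_mul]
  exact Finset.sum_congr rfl fun j _ => mul_comm _ _

theorem kry_det_ne {A : Matrix (Fin n) (Fin n) F} {φ : F[X]} {v : Fin n → F} (hφ : φ.Monic) (hd : φ.natDegree = n)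
    (hv : ∀ p : F[X], aeval A p *ᵥ v = 0 ↔ φ ∣ p) : (kry A v).det ≠ 0 := by
  intro h0
  obtain ⟨c, hc, hz⟩ := Matrix.exists_mulVec_eq_zero_iff.2 h0
  rw [kry_mulVec] at hz
  have hli := linearIndependent_pow hφ hv
  have hli' : LinearIndependent F fun j : Fin n => (A ^ (j : ℕ)) *ᵥ v :=
    hli.comp (Fin.cast hd.symm) (Fin.cast_injective _)
  exact hc (funext (Fintype.linearIndependent_iff.1 hli' c hz))

theorem cyc_of_kry {A : Matrix (Fin n) (Fin n) F} {v : Fin n → F} (h : (kry A v).det ≠ 0) :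
    Cyc A.charpoly A ∧ ∀ p : F[X], aeval A p *ᵥ v = 0 ↔ A.charpoly ∣ p := by
  have key : ∀ p : F[X], aeval A p *ᵥ v = 0 ↔ A.charpoly ∣ p := by
    intro p
    constructor
    · intro hp
      rw [← modByMonic_eq_zero_iff_dvd A.charpoly_monic]
      set r := p %ₘ A.charpoly with hr
      have hz : aeval A r *ᵥ v = 0 := by
        rw [hr, aeval_modByMonic_eq_self_of_root (aeval_self_charpoly A)]
        exact hp
      rcases Nat.eq_zero_or_pos n with rfl | hn
      · have h1 : A.charpoly = 1 :=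
          eq_one_of_monic_natDegree_zero A.charpoly_monic (by rw [A.charpoly_natDegree_eq_dim, Fintype.card_fin])
        rw [hr, h1, modByMonic_one]
      have hdeg : r.natDegree < n := by
        have := natDegree_modByMonic_lt p A.charpoly_monic (fun he => by
          have := congrArg natDegree he
          rw [A.charpoly_natDegree_eq_dim, Fintype.card_fin, natDegree_one] at this
          omega)
        rwa [A.charpoly_natDegree_eq_dim, Fintype.card_fin] at this
      rw [aeval_eq_sum_range' hdeg, Matrix.sum_mulVec, Finset.sum_range] at hz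
      simp only [Matrix.smul_mulVec] at hz
      rw [← kry_mulVec A v fun i => r.coeff i] at hz
      have hc : (fun i : Fin n => r.coeff i) = 0 := by
        by_contra hne
        exact h (Matrix.exists_mulVec_eq_zero_iff.1 ⟨_, hne, hz⟩)
      ext i
      rw [coeff_zero]
      by_cases hi : i < n
      · exact congrFun hc ⟨i, hi⟩
      · exact coeff_eq_zero_of_natDegree_lt (by omega)
    · rintro ⟨q, rfl⟩
      rw [map_mul, aeval_self_charpoly, zero_mul, Matrix.zero_mulVec]
  exact ⟨⟨A.charpoly_monic, A.charpoly_natDegree_eq_dim, v, key⟩, key⟩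

/-- Cyclic matrices with equal polynomials are conjugate by the quotient of the Krylov matrices. -/
theorem conjD_kry {A B : Matrix (Fin n) (Fin n) F} {φ : F[X]} {v w : Fin n → F} (hφ : φ.Monic) (hd : φ.natDegree = n)
    (hv : ∀ p : F[X], aeval A p *ᵥ v = 0 ↔ φ ∣ p) (hw : ∀ p : F[X], aeval B p *ᵥ w = 0 ↔ φ ∣ p) :
    ConjD ((kry B w).det / (kry A v).det) A B := by
  have hA := kry_det_ne hφ hd hv
  have hu : IsUnit (kry A v).det := isUnit_iff_ne_zero.2 hA
  set P := kry B w * (kry A v)⁻¹ with hP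
  have hPdet : P.det = (kry B w).det / (kry A v).det := by
    rw [hP, det_mul, det_nonsing_inv, Ring.inverse_eq_inv', div_eq_mul_inv]
  have key : ∀ p : F[X], P *ᵥ (aeval A p *ᵥ v) = aeval B p *ᵥ w := by
    intro p
    rcases Nat.eq_zero_or_pos n with rfl | hn
    · exact Subsingleton.elim _ _
    set r := p %ₘ φ with hr
    have hdeg : r.natDegree < n := by
      rw [hr, ← hd]
      exact natDegree_modByMonic_lt p hφ (fun he => by
        rw [he, natDegree_one] at hd; omega)
    have e1 : ∀ (C : Matrix (Fin n) (Fin n) F) (u : Fin n → F), (∀ q : F[X], aeval C q *ᵥ u = 0 ↔ φ ∣ q) →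
        aeval C p *ᵥ u = kry C u *ᵥ fun i => r.coeff i := by
      intro C u hu
      have : aeval C p *ᵥ u = aeval C r *ᵥ u := by
        rw [← sub_eq_zero, ← Matrix.sub_mulVec, ← map_sub, hu, hr]
        exact ⟨p /ₘ φ, by rw [sub_eq_iff_eq_add, add_comm, modByMonic_add_div]⟩
      rw [this, aeval_eq_sum_range' hdeg, Matrix.sum_mulVec, Finset.sum_range, kry_mulVec]
      simp only [Matrix.smul_mulVec]
    rw [e1 A v hv, e1 B w hw, Matrix.mulVec_mulVec, hP, Matrix.mul_assoc, nonsing_inv_mul _ hu, Matrix.mul_one]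
  have hBP : B * P = P * A := by
    have h2 : B * P * kry A v = P * A * kry A v := by
      refine Matrix.ext_iff_mulVec.2 fun c => ?_
      rw [← Matrix.mulVec_mulVec c (B * P) (kry A v), ← Matrix.mulVec_mulVec c (P * A) (kry A v)]
      obtain ⟨p, hp⟩ : ∃ p : F[X], aeval A p *ᵥ v = kry A v *ᵥ c :=
        ⟨∑ i : Fin n, Polynomial.C (c i) * X ^ (i : ℕ), by
          rw [kry_mulVec, map_sum, Matrix.sum_mulVec]
          exact Finset.sum_congr rfl fun i _ => by
            rw [map_mul, aeval_C, map_pow, aeval_X, ← Algebra.smul_def, Matrix.smul_mulVec]⟩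
      have e2 : A *ᵥ (aeval A p *ᵥ v) = aeval A (X * p) *ᵥ v := by
        rw [map_mul, aeval_X, Matrix.mulVec_mulVec]
      rw [← hp, ← Matrix.mulVec_mulVec _ B P, ← Matrix.mulVec_mulVec _ P A, key, e2, key, map_mul, aeval_X,
        Matrix.mulVec_mulVec]
    have h3 := congrArg (· * (kry A v)⁻¹) h2
    simpa [Matrix.mul_assoc, mul_nonsing_inv _ hu] using h3
  have hPu : IsUnit P.det := by
    rw [hPdet]
    exact isUnit_iff_ne_zero.2 (div_ne_zero (kry_det_ne hφ hd hw) hA)
  refine ⟨P, P⁻¹, mul_nonsing_inv _ hPu, hPdet, ?_⟩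
  rw [← hBP, Matrix.mul_assoc, mul_nonsing_inv _ hPu, Matrix.mul_one]

/-- An upper Hessenberg matrix with non-zero subdiagonal has triangular Krylov matrix. -/
theorem kry_hess {A : Matrix (Fin n) (Fin n) F} (h0 : 0 < n) (hz : ∀ i j : Fin n, (j : ℕ) + 1 < i → A i j = 0) :
    (kry A (Pi.single ⟨0, h0⟩ 1)).det = ∏ j : Fin n, ∏ i ∈ Finset.univ.filter (fun i : Fin n => (i : ℕ) < j),
      (if h : (i : ℕ) + 1 < n then A ⟨i + 1, h⟩ i else 0) := by
  set μ : Fin n → F := fun i => if h : (i : ℕ) + 1 < n then A ⟨i + 1, h⟩ i else 0 with hμ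
  have key : ∀ j : ℕ, ∀ hj : j < n, (∀ i : Fin n, j < i → ((A ^ j) *ᵥ Pi.single ⟨0, h0⟩ 1) i = 0) ∧
      ((A ^ j) *ᵥ Pi.single ⟨0, h0⟩ 1) ⟨j, hj⟩ =
        ∏ i ∈ Finset.univ.filter (fun i : Fin n => (i : ℕ) < j), μ i := by
    intro j
    induction j with
    | zero =>
      intro hj
      refine ⟨fun i hi => ?_, by simp⟩
      rw [pow_zero, Matrix.one_mulVec, Pi.single_apply, if_neg]
      intro h; rw [h] at hi; exact lt_irrefl _ hi
    | succ j ih =>
      intro hj
      obtain ⟨hv, hd⟩ := ih (by omega)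
      rw [pow_succ', ← Matrix.mulVec_mulVec]
      set u := (A ^ j) *ᵥ Pi.single ⟨0, h0⟩ 1
      refine ⟨fun i hi => ?_, ?_⟩
      on_goal 1 => rw [show (A *ᵥ u) i = ∑ k, A i k * u k from rfl]
      on_goal 1 => refine Finset.sum_eq_zero fun k _ => ?_
      · rcases lt_or_ge j (k : ℕ) with hk | hk
        · rw [hv k hk, mul_zero]
        · rw [hz i k (by omega), zero_mul]
      · rw [show (A *ᵥ u) ⟨j + 1, hj⟩ = ∑ k, A ⟨j + 1, hj⟩ k * u k from rfl,
          Finset.sum_eq_single (⟨j, by omega⟩ : Fin n) (fun k _ hk => ?_) (by simp)]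
        · rw [hd, show Finset.univ.filter (fun i : Fin n => (i : ℕ) < j + 1) =
              insert (⟨j, by omega⟩ : Fin n) (Finset.univ.filter fun i : Fin n => (i : ℕ) < j) by
            ext i; simp [Fin.ext_iff]; omega, Finset.prod_insert (by simp)]
          simp [hμ, hj]
        · rcases lt_or_ge j (k : ℕ) with hk' | hk'
          · rw [hv k hk', mul_zero]
          · have : (k : ℕ) ≠ j := fun h => hk (Fin.ext h)
            rw [hz _ k (by simp; omega), zero_mul]
  rw [Matrix.det_of_isUpperTriangular]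
  · refine Finset.prod_congr rfl fun j _ => ?_
    exact (key j j.isLt).2
  · intro i j hij
    exact (key j j.isLt).1 i hij

end Krylov

section Feedback

variable {n : ℕ}

theorem vmv (b s z : ι → F) : vecMulVec b s *ᵥ z = (s ⬝ᵥ z) • b := by
  rw [Matrix.vecMulVec_mulVec, op_smul_eq_smul]

theorem feedback_mem {A : Matrix ι ι F} {b z : ι → F} {k : ℕ} (s : ι → F) (hz : z ∈ krySpan A b k) :
    (A + vecMulVec b s) *ᵥ z ∈ krySpan A b (k + 1) := by
  rw [Matrix.add_mulVec, vmv]
  refine add_mem (mulVec_mem_krySpan hz) ?_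
  have h0 := pow_mem_krySpan A b (show 0 < k + 1 by omega)
  rw [pow_zero, Matrix.one_mulVec] at h0
  exact Submodule.smul_mem _ _ h0

theorem feedback_pow_sub (A : Matrix ι ι F) (b s : ι → F) (j : ℕ) :
    ((A + vecMulVec b s) ^ j) *ᵥ b - (A ^ j) *ᵥ b ∈ krySpan A b j := by
  induction j with
  | zero => simp
  | succ j ih =>
    have e : ((A + vecMulVec b s) ^ (j + 1)) *ᵥ b - (A ^ (j + 1)) *ᵥ b =
        (A + vecMulVec b s) *ᵥ (((A + vecMulVec b s) ^ j) *ᵥ b - (A ^ j) *ᵥ b) + vecMulVec b s *ᵥ ((A ^ j) *ᵥ b) := by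
      rw [pow_succ', pow_succ', ← Matrix.mulVec_mulVec, ← Matrix.mulVec_mulVec, Matrix.mulVec_sub]
      simp only [Matrix.add_mulVec]
      abel
    rw [e]
    refine add_mem (feedback_mem s ih) ?_
    rw [vmv]
    have h0 := pow_mem_krySpan A b (show 0 < j + 1 by omega)
    rw [pow_zero, Matrix.one_mulVec] at h0
    exact Submodule.smul_mem _ _ h0

theorem kry_feedback (A : Matrix (Fin n) (Fin n) F) (b s : Fin n → F) :
    (kry (A + vecMulVec b s) b).det = (kry A b).det := by
  classical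
  have h : ∀ j : Fin n, ∃ c : Fin n → F, (∀ i, j ≤ i → c i = 0) ∧
      ((A + vecMulVec b s) ^ (j : ℕ)) *ᵥ b - (A ^ (j : ℕ)) *ᵥ b = kry A b *ᵥ c := by
    intro j
    have hle : krySpan A b j ≤ (Submodule.span F ((fun i : Fin n => Pi.single i (1 : F)) '' Set.Iio j)).map
        (kry A b).mulVecLin := by
      rw [krySpan, Submodule.span_le]
      rintro _ ⟨i, hi, rfl⟩
      refine ⟨Pi.single ⟨i, (lt_trans hi j.isLt)⟩ 1, Submodule.subset_span ⟨⟨i, _⟩, hi, rfl⟩, ?_⟩
      rw [Matrix.mulVecLin_apply, Matrix.mulVec_single_one]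
      rfl
    obtain ⟨c, hc, he⟩ := hle (feedback_pow_sub A b s j)
    refine ⟨c, fun i hi => ?_, he.symm⟩
    clear he
    induction hc using Submodule.span_induction with
    | mem x hx =>
      obtain ⟨k, hk, rfl⟩ := hx
      exact Pi.single_eq_of_ne (ne_of_gt (lt_of_lt_of_le hk hi)) _
    | zero => rfl
    | add x y _ _ hx hy =>
      show x i + y i = 0
      rw [hx, hy, add_zero]
    | smul a x _ hx =>
      show a * x i = 0
      rw [hx, mul_zero]
  choose c hc he using h
  set U : Matrix (Fin n) (Fin n) F := 1 + Matrix.of fun i j => c j i with hU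
  have hKU : kry (A + vecMulVec b s) b = kry A b * U := by
    ext i j
    have := congrFun (he j) i
    simp only [Pi.sub_apply] at this
    rw [hU, Matrix.mul_add, Matrix.mul_one, Matrix.add_apply]
    show ((A + vecMulVec b s) ^ (j : ℕ) *ᵥ b) i = ((A ^ (j : ℕ)) *ᵥ b) i + (kry A b *ᵥ c j) i
    linear_combination this
  rw [hKU, det_mul, show U.det = 1 from ?_, mul_one]
  rw [Matrix.det_of_isUpperTriangular, Finset.prod_eq_one]
  · intro j _
    simp [hU, hc j j le_rfl]
  · intro i j hij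
    have hne : i ≠ j := ne_of_gt hij
    simp [hU, hne, hc j i (le_of_lt hij)]

theorem feedback_unique {A : Matrix (Fin n) (Fin n) F} {b t : Fin n → F} (hK : (kry A b).det ≠ 0)
    (h : (A + vecMulVec b t).charpoly = A.charpoly) : t = 0 := by
  classical
  set A' := A + vecMulVec b t with hA'
  have hind : LinearIndependent F fun j : Fin n => (A ^ (j : ℕ)) *ᵥ b := by
    obtain ⟨hc, hiff⟩ := cyc_of_kry hK
    exact (linearIndependent_pow hc.1 hiff).comp (Fin.cast (by rw [A.charpoly_natDegree_eq_dim, Fintype.card_fin]))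
      (Fin.cast_injective _)
  suffices hall : ∀ j : ℕ, j < n → t ⬝ᵥ ((A ^ j) *ᵥ b) = 0 by
    have h0 : t ᵥ* kry A b = 0 := by
      funext j
      exact hall j j.isLt
    by_contra hne
    exact hK (Matrix.exists_vecMul_eq_zero_iff.1 ⟨t, hne, h0⟩)
  intro j
  induction j using Nat.strong_induction_on with
  | _ j ih =>
  intro hj
  have heq : ∀ i ≤ j, (A' ^ i) *ᵥ b = (A ^ i) *ᵥ b := by
    intro i hi
    induction i with
    | zero => rfl
    | succ i ihi =>
      rw [pow_succ', pow_succ', ← Matrix.mulVec_mulVec, ← Matrix.mulVec_mulVec, ihi (by omega), hA',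
        Matrix.add_mulVec, vmv, ih i (by omega) (by omega)]
      simp
  set τ := t ⬝ᵥ ((A ^ j) *ᵥ b) with hτ
  have hstep : ∀ k : ℕ, (A' ^ (j + 1 + k)) *ᵥ b - (A ^ (j + 1 + k)) *ᵥ b - τ • (A ^ k) *ᵥ b ∈ krySpan A b k := by
    intro k
    induction k with
    | zero =>
      rw [add_zero, pow_succ', pow_succ', ← Matrix.mulVec_mulVec, ← Matrix.mulVec_mulVec, heq j le_rfl, hA',
        Matrix.add_mulVec, vmv, pow_zero, Matrix.one_mulVec, ← hτ]
      simp
    | succ k ihk =>
      have e : (A' ^ (j + 1 + (k + 1))) *ᵥ b - (A ^ (j + 1 + (k + 1))) *ᵥ b - τ • (A ^ (k + 1)) *ᵥ b =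
          A' *ᵥ ((A' ^ (j + 1 + k)) *ᵥ b - (A ^ (j + 1 + k)) *ᵥ b - τ • (A ^ k) *ᵥ b) +
            vecMulVec b t *ᵥ ((A ^ (j + 1 + k)) *ᵥ b + τ • (A ^ k) *ᵥ b) := by
        rw [← add_assoc, pow_succ', pow_succ', pow_succ', ← Matrix.mulVec_mulVec, ← Matrix.mulVec_mulVec,
          ← Matrix.mulVec_mulVec, hA']
        simp only [Matrix.mulVec_sub, Matrix.add_mulVec, Matrix.mulVec_add, Matrix.mulVec_smul]
        module
      rw [e]
      refine add_mem (feedback_mem t ihk) ?_
      rw [vmv]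
      have h0 := pow_mem_krySpan A b (show 0 < k + 1 by omega)
      rw [pow_zero, Matrix.one_mulVec] at h0
      exact Submodule.smul_mem _ _ h0
  obtain ⟨k, hk⟩ : ∃ k, n = j + 1 + k := ⟨n - (j + 1), by omega⟩
  set χ := A.charpoly with hχ
  have hdeg : χ.natDegree = n := by rw [hχ, A.charpoly_natDegree_eq_dim, Fintype.card_fin]
  have hlow : ∀ i < n, (A' ^ i) *ᵥ b - (A ^ i) *ᵥ b ∈ krySpan A b k := by
    intro i hi
    rcases le_or_gt i j with hij | hij
    · rw [heq i hij, sub_self]; exact zero_mem _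
    · obtain ⟨l, rfl⟩ : ∃ l, i = j + 1 + l := ⟨i - (j + 1), by omega⟩
      have := add_mem (krySpan_mono A b (show l ≤ k by omega) (hstep l))
        (Submodule.smul_mem _ τ (pow_mem_krySpan A b (show l < k by omega)))
      simpa using this
  have hdiff : aeval A' χ *ᵥ b - aeval A χ *ᵥ b = 0 := by
    have hh : aeval A' χ = 0 := by rw [← h]; exact aeval_self_charpoly A'
    rw [hh, hχ, aeval_self_charpoly, sub_self]
  rw [aeval_eq_sum_range, aeval_eq_sum_range, Matrix.sum_mulVec, Matrix.sum_mulVec, ← Finset.sum_sub_distrib, hdeg,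
    Finset.sum_range_succ] at hdiff
  simp only [Matrix.smul_mulVec, ← smul_sub] at hdiff
  rw [show χ.coeff n = 1 by rw [← hdeg]; exact A.charpoly_monic.coeff_natDegree, one_smul] at hdiff
  have hsum : ∑ i ∈ Finset.range n, χ.coeff i • ((A' ^ i) *ᵥ b - (A ^ i) *ᵥ b) ∈ krySpan A b k :=
    sum_mem fun i hi => Submodule.smul_mem _ _ (hlow i (Finset.mem_range.1 hi))
  have hn := hstep k
  rw [← hk, eq_neg_of_add_eq_zero_right hdiff] at hn
  have hmem : τ • (A ^ k) *ᵥ b ∈ krySpan A b k := by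
    have := sub_mem (neg_mem hsum) hn
    simpa using this
  by_contra hne
  have hmem' : (A ^ k) *ᵥ b ∈ krySpan A b k := by
    have := Submodule.smul_mem _ τ⁻¹ hmem
    rwa [smul_smul, inv_mul_cancel₀ hne, one_smul] at this
  refine hind.notMem_span_image (s := {i : Fin n | (i : ℕ) < k}) (x := ⟨k, by omega⟩) (by simp) ?_
  refine (Submodule.span_le.2 ?_) hmem'
  rintro _ ⟨i, hi, rfl⟩
  exact Submodule.subset_span ⟨⟨i, lt_trans hi (by omega)⟩, hi, rfl⟩

theorem exists_feedback [Fintype F] {A : Matrix (Fin n) (Fin n) F} {b : Fin n → F} (hK : (kry A b).det ≠ 0)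
    {f : F[X]} (hf : f.Monic) (hfd : f.natDegree = n) :
    ∃ s : Fin n → F, (A + vecMulVec b s).charpoly = f := by
  classical
  let Φ : (Fin n → F) → (Fin n → F) := fun s i => (A + vecMulVec b s).charpoly.coeff i
  have hdeg : ∀ s, (A + vecMulVec b s).charpoly.natDegree = n := fun s => by
    rw [Matrix.charpoly_natDegree_eq_dim, Fintype.card_fin]
  have hinj : Function.Injective Φ := by
    intro s s' h
    have he : (A + vecMulVec b s).charpoly = (A + vecMulVec b s').charpoly := by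
      ext i
      rcases lt_trichotomy i n with hi | rfl | hi
      · exact congrFun h ⟨i, hi⟩
      · have e1 := (Matrix.charpoly_monic (A + vecMulVec b s)).coeff_natDegree
        have e2 := (Matrix.charpoly_monic (A + vecMulVec b s')).coeff_natDegree
        rw [hdeg] at e1 e2
        rw [e1, e2]
      · rw [coeff_eq_zero_of_natDegree_lt (by rw [hdeg]; exact hi),
          coeff_eq_zero_of_natDegree_lt (by rw [hdeg]; exact hi)]
    have hK' : (kry (A + vecMulVec b s') b).det ≠ 0 := by rwa [kry_feedback]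
    have e : A + vecMulVec b s = A + vecMulVec b s' + vecMulVec b (s - s') := by
      rw [add_assoc, ← Matrix.vecMulVec_add, add_sub_cancel]
    exact sub_eq_zero.1 (feedback_unique hK' (by rw [← e]; exact he))
  obtain ⟨s, hs⟩ := (Finite.injective_iff_surjective.1 hinj) fun i => f.coeff i
  refine ⟨s, ?_⟩
  ext i
  rcases lt_trichotomy i n with hi | rfl | hi
  · exact congrFun hs ⟨i, hi⟩
  · have e1 := (Matrix.charpoly_monic (A + vecMulVec b s)).coeff_natDegree
    have e2 := hf.coeff_natDegree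
    rw [hdeg] at e1
    rw [hfd] at e2
    rw [e1, e2]
  · rw [coeff_eq_zero_of_natDegree_lt (by rw [hdeg]; exact hi),
      coeff_eq_zero_of_natDegree_lt (by rw [hfd]; exact hi)]

end Feedback

end CfsgLib.GLClass.Cover
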