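import Mathlib
import Cfsg.Agent.Lib.GLClass.Cover.Basic

/-!
A form of an invertible matrix adapted to a flag of cyclic subspaces: inside a block each basis vector
goes to the next one, and the last vector of a block goes back to the first one, modulo earlier vectors.
-/

set_option autoImplicit false

namespace CfsgLib.GLClass.Cover

open Matrix Module
open CfsgLib.GLClass.CommSL

variable {F : Type*} [Field F] {n : ℕ}

/-- The block-flag form with block ends `E`. -/
structure NF (M : Matrix (Fin n) (Fin n) F) (E : ℕ → Prop) : Prop where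
  last : 0 < n → E (n - 1)
  first : ¬ E 0
  step_zero : ∀ i j : Fin n, ¬ E j → (j : ℕ) + 1 < i → M i j = 0
  step_ne : ∀ i j : Fin n, ¬ E j → (i : ℕ) = j + 1 → M i j ≠ 0
  end_zero : ∀ i j : Fin n, E j → 0 < (i : ℕ) → (∀ k : ℕ, E k → k < j → k + 1 < i) → M i j = 0
  end_ne : ∀ i j : Fin n, ∀ k : ℕ, E k → E j → k < j → (∀ l, k < l → l < j → ¬ E l) → (i : ℕ) = k + 1 → M i j ≠ 0

/-- The span of the first `k` vectors of a sequence. -/
def flag (u : ℕ → Fin n → F) (k : ℕ) : Submodule F (Fin n → F) := Submodule.span F (u '' Set.Iio k)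

theorem mem_flag (u : ℕ → Fin n → F) {i k : ℕ} (h : i < k) : u i ∈ flag u k := Submodule.subset_span ⟨i, h, rfl⟩

theorem flag_mono (u : ℕ → Fin n → F) {j k : ℕ} (h : j ≤ k) : flag u j ≤ flag u k :=
  Submodule.span_mono (Set.image_mono (Set.Iio_subset_Iio h))

theorem flag_zero (u : ℕ → Fin n → F) : flag u 0 = ⊥ := by
  rw [flag, Submodule.span_eq_bot]
  rintro x ⟨i, hi, rfl⟩
  exact absurd hi (Nat.not_lt_zero i)

theorem krySpan_zero (M : Matrix (Fin n) (Fin n) F) (v : Fin n → F) : krySpan M v 0 = ⊥ :=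
  flag_zero fun i => (M ^ i) *ᵥ v

theorem flag_congr {u u' : ℕ → Fin n → F} {k : ℕ} (h : ∀ i < k, u i = u' i) : flag u k = flag u' k := by
  exact congrArg (Submodule.span F) (Set.image_congr fun i hi => h i hi)

theorem flag_succ (u : ℕ → Fin n → F) (k : ℕ) : flag u (k + 1) = flag u k ⊔ Submodule.span F {u k} := by
  rw [flag, flag, ← Submodule.span_union]
  congr 1
  ext x
  simp only [Set.mem_image, Set.mem_Iio, Set.mem_union, Set.mem_singleton_iff]
  constructor
  · rintro ⟨i, hi, rfl⟩
    rcases Nat.lt_succ_iff_lt_or_eq.1 hi with h | rfl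
    · exact Or.inl ⟨i, h, rfl⟩
    · exact Or.inr rfl
  · rintro (⟨i, hi, rfl⟩ | rfl)
    · exact ⟨i, by omega, rfl⟩
    · exact ⟨k, by omega, rfl⟩

/-- A partial flag with the properties of the form. -/
structure Partial (M : Matrix (Fin n) (Fin n) F) (k : ℕ) (u : ℕ → Fin n → F) (E : ℕ → Prop) : Prop where
  indep : ∀ i < k, u i ∉ flag u i
  first : ¬ E 0
  last : 0 < k → E (k - 1)
  step : ∀ i < k, ¬ E i → i + 1 < k ∧ ∃ c : F, c ≠ 0 ∧ M *ᵥ u i - c • u (i + 1) ∈ flag u (i + 1)
  stop : ∀ i < k, E i → ∃ f ≤ i, (f = 0 ∨ E (f - 1)) ∧ (∀ l, f ≤ l → l < i → ¬ E l) ∧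
    ∃ c : F, c ≠ 0 ∧ M *ᵥ u i - c • u f ∈ flag u f

theorem Partial.invariant {M : Matrix (Fin n) (Fin n) F} {k : ℕ} {u : ℕ → Fin n → F} {E : ℕ → Prop}
    (h : Partial M k u E) : ∀ z ∈ flag u k, M *ᵥ z ∈ flag u k := by
  intro z hz
  induction hz using Submodule.span_induction with
  | mem x hx =>
    obtain ⟨i, hi, rfl⟩ := hx
    have key : ∀ f < k, ∀ c : F, M *ᵥ u i - c • u f ∈ flag u f → M *ᵥ u i ∈ flag u k := by
      intro f hf c hm
      have := add_mem (flag_mono u hf.le hm) (Submodule.smul_mem _ c (mem_flag u hf))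
      simpa using this
    by_cases hE : E i
    · obtain ⟨f, hf, -, -, c, -, hm⟩ := h.stop i hi hE
      exact key f (lt_of_le_of_lt hf hi) c hm
    · obtain ⟨hi1, c, -, hm⟩ := h.step i hi hE
      exact key (i + 1) hi1 c hm
  | zero => simp
  | add x y _ _ hx hy => rw [Matrix.mulVec_add]; exact add_mem hx hy
  | smul c x _ hx => rw [Matrix.mulVec_smul]; exact Submodule.smul_mem _ c hx

theorem flag_finrank {u : ℕ → Fin n → F} : ∀ {k : ℕ}, (∀ i < k, u i ∉ flag u i) → finrank F (flag u k) = k
  | 0, _ => by simp [flag_zero]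
  | k + 1, h => by
    have hne : u k ≠ 0 := fun h0 => h k (Nat.lt_succ_self k) (h0 ▸ zero_mem _)
    have hd : Disjoint (flag u k) (Submodule.span F {u k}) := by
      rw [Submodule.disjoint_span_singleton]
      exact fun hm => absurd hm (h k (Nat.lt_succ_self k))
    have := Submodule.finrank_sup_add_finrank_inf_eq (flag u k) (Submodule.span F {u k})
    rw [hd.eq_bot, finrank_bot, add_zero, finrank_span_singleton hne, ← flag_succ,
      flag_finrank fun i hi => h i (Nat.lt_succ_of_lt hi)] at this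
    exact this

theorem mem_of_mulVec_mem {M : Matrix (Fin n) (Fin n) F} (hM : M.det ≠ 0) {S : Submodule F (Fin n → F)}
    (hS : ∀ z ∈ S, M *ᵥ z ∈ S) {z : Fin n → F} (hz : M *ᵥ z ∈ S) : z ∈ S := by
  have hinj : Function.Injective M.mulVec :=
    Matrix.mulVec_injective_iff_isUnit.2 ((Matrix.isUnit_iff_isUnit_det M).2 (isUnit_iff_ne_zero.2 hM))
  let g : S →ₗ[F] S := M.mulVecLin.restrict fun z hz => hS z hz
  have hg : Function.Surjective g :=
    LinearMap.injective_iff_surjective.1 fun a b h => Subtype.ext (hinj (congrArg Subtype.val h))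
  obtain ⟨y, hy⟩ := hg ⟨_, hz⟩
  rw [← hinj (congrArg Subtype.val hy)]
  exact y.2

theorem Partial.extend {M : Matrix (Fin n) (Fin n) F} (hM : M.det ≠ 0) {k : ℕ} {u : ℕ → Fin n → F} {E : ℕ → Prop}
    (h : Partial M k u E) {v : Fin n → F} (hv : v ∉ flag u k) (hv0 : k = 0 → ∀ c : F, M *ᵥ v ≠ c • v) :
    ∃ k' u' E', k < k' ∧ Partial M k' u' E' ∧ v ∈ flag u' k' ∧ flag u k ≤ flag u' k' ∧
      ∀ l, E' l → (l < k ∧ E l) ∨ l + 1 = k' := by
  classical
  set S := flag u k with hSdef
  have hS := h.invariant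
  let T : ℕ → Submodule F (Fin n → F) := fun i => S ⊔ krySpan M v i
  have hT0 : T 0 = S := by simp [T, krySpan_zero]
  have hTmono : ∀ {i j}, i ≤ j → T i ≤ T j := fun hij => sup_le_sup_left (krySpan_mono M v hij) _
  have hTmem : ∀ {i j}, i < j → (M ^ i) *ᵥ v ∈ T j := fun hij => Submodule.mem_sup_right (pow_mem_krySpan M v hij)
  have hTsucc : ∀ i, T (i + 1) = T i ⊔ Submodule.span F {(M ^ i) *ᵥ v} := fun i => by
    have := flag_succ (fun j => (M ^ j) *ᵥ v) i
    simp only [T]
    rw [sup_assoc]
    exact congrArg _ this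
  have hex : ∃ m, (M ^ m) *ᵥ v ∈ T m := by
    refine ⟨n, Submodule.mem_sup_right ?_⟩
    have h0 : Polynomial.aeval M M.charpoly *ᵥ v = 0 := by rw [Matrix.aeval_self_charpoly, Matrix.zero_mulVec]
    have hd : M.charpoly.natDegree = n := by rw [M.charpoly_natDegree_eq_dim, Fintype.card_fin]
    rw [Polynomial.aeval_eq_sum_range, Matrix.sum_mulVec, hd, Finset.sum_range_succ] at h0
    simp only [Matrix.smul_mulVec] at h0
    have hc := M.charpoly_monic.coeff_natDegree
    rw [hd] at hc
    rw [hc, one_smul] at h0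
    rw [eq_neg_of_add_eq_zero_right h0]
    exact neg_mem (sum_mem fun i hi => Submodule.smul_mem _ _ (pow_mem_krySpan M v (Finset.mem_range.1 hi)))
  set m := Nat.find hex with hmdef
  have hm : (M ^ m) *ᵥ v ∈ T m := Nat.find_spec hex
  have hmin : ∀ i < m, (M ^ i) *ᵥ v ∉ T i := fun i hi => Nat.find_min hex hi
  have hm1 : 1 ≤ m := by
    by_contra h0
    have he : m = 0 := by omega
    rw [he, pow_zero, Matrix.one_mulVec, hT0] at hm
    exact hv hm
  have hTinv : ∀ z ∈ T m, M *ᵥ z ∈ T m := by
    intro z hz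
    obtain ⟨a, ha, b, hb, rfl⟩ := Submodule.mem_sup.1 hz
    rw [Matrix.mulVec_add]
    refine add_mem (Submodule.mem_sup_left (hS a ha)) ?_
    have h2 := hTsucc m
    have h1 : M *ᵥ b ∈ T (m + 1) := Submodule.mem_sup_right (mulVec_mem_krySpan hb)
    rwa [h2, sup_eq_left.2 (Submodule.span_le.2 (Set.singleton_subset_iff.2 hm))] at h1
  rcases Nat.lt_or_ge m 2 with hm2 | hm2
  · -- a block of size one
    have he : m = 1 := by omega
    rw [he, pow_one, hTsucc, hT0, pow_zero, Matrix.one_mulVec] at hm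
    obtain ⟨s, hs, y, hy, he2⟩ := Submodule.mem_sup.1 hm
    obtain ⟨c, rfl⟩ := Submodule.mem_span_singleton.1 hy
    have hk : k ≠ 0 := by
      intro hk0
      refine hv0 hk0 c ?_
      have : s = 0 := by
        rw [hSdef, hk0] at hs
        simpa [flag_zero] using hs
      rw [← he2, this, zero_add]
    have hc : c ≠ 0 := by
      intro hc
      rw [hc, zero_smul, add_zero] at he2
      exact hv (mem_of_mulVec_mem hM hS (he2 ▸ hs))
    set u' := Function.update u k v with hu'
    have hu : ∀ i < k, u' i = u i := fun i hi => Function.update_of_ne (Nat.ne_of_lt hi) _ _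
    have hflag : ∀ i ≤ k, flag u' i = flag u i := fun i hi => flag_congr fun j hj => hu j (lt_of_lt_of_le hj hi)
    refine ⟨k + 1, u', fun i => i = k ∨ (i < k ∧ E i), Nat.lt_succ_self k, ⟨?_, ?_, ?_, ?_, ?_⟩, ?_, ?_,
      fun l hl => hl.elim (fun h => Or.inr (by rw [h])) Or.inl⟩
    rotate_left 5
    · simpa [hu'] using mem_flag u' (Nat.lt_succ_self k)
    · rw [hSdef, ← hflag k le_rfl]; exact flag_mono u' (Nat.le_succ k)
    · intro i hi
      rcases Nat.lt_succ_iff_lt_or_eq.1 hi with hi' | rfl
      · rw [hflag i hi'.le, hu i hi']; exact h.indep i hi'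
      · rw [hflag i le_rfl]; simpa [hu'] using hv
    · rintro (h0 | ⟨-, h0⟩)
      · exact hk h0.symm
      · exact h.first h0
    · exact fun _ => Or.inl rfl
    · intro i hi hE
      have hi' : i < k := by
        rcases Nat.lt_succ_iff_lt_or_eq.1 hi with h' | rfl
        · exact h'
        · exact absurd (Or.inl rfl) hE
      obtain ⟨h1, c', hc', hm'⟩ := h.step i hi' fun he => hE (Or.inr ⟨hi', he⟩)
      exact ⟨by omega, c', hc', by rwa [hflag _ h1.le, hu _ h1, hu _ hi']⟩
    · intro i hi hE
      rcases Nat.lt_succ_iff_lt_or_eq.1 hi with hi' | rfl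
      · have hEi : E i := by
          rcases hE with h' | ⟨-, h'⟩
          · omega
          · exact h'
        obtain ⟨f, hf, hf0, hfl, c', hc', hm'⟩ := h.stop i hi' hEi
        refine ⟨f, hf, ?_, fun l hl hl' => ?_, c', hc', ?_⟩
        · rcases hf0 with h0 | h0
          · exact Or.inl h0
          · exact Or.inr (Or.inr ⟨by omega, h0⟩)
        · rintro (h' | ⟨-, h'⟩)
          · omega
          · exact hfl l hl hl' h'
        · rwa [hflag f (by omega), hu f (by omega), hu i hi']
      · refine ⟨i, le_rfl, Or.inr (Or.inr ⟨by omega, h.last (by omega)⟩), fun l hl hl' => by omega, c, hc, ?_⟩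
        rw [hflag i le_rfl, show u' i = v by simp [hu'], ← he2]
        simpa using hs
  · -- a block of size at least two
    have hMu : IsUnit M.det := isUnit_iff_ne_zero.2 hM
    set w := M⁻¹ *ᵥ v with hw
    have hMw : M *ᵥ w = v := by rw [hw, Matrix.mulVec_mulVec, mul_nonsing_inv _ hMu, Matrix.one_mulVec]
    obtain ⟨q, hq⟩ : ∃ q, m = q + 2 := ⟨m - 2, by omega⟩
    have hwm : w ∈ T m := mem_of_mulVec_mem hM hTinv (by
      rw [hMw]
      simpa using hTmem (i := 0) (j := m) (by omega))
    have hwn : w ∉ T (q + 1) := by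
      intro hmem
      set R := (T (q + 1)).map M.mulVecLin with hR
      have hpow : ∀ i, i < q + 2 → (M ^ i) *ᵥ v ∈ R := by
        intro i hi
        cases i with
        | zero => exact ⟨w, hmem, by simpa using hMw⟩
        | succ i =>
          refine ⟨(M ^ i) *ᵥ v, hTmem (by omega), ?_⟩
          rw [Matrix.mulVecLin_apply, Matrix.mulVec_mulVec, ← pow_succ']
      have hle : T (q + 2) ≤ R := by
        refine sup_le (fun z hz => ?_) (Submodule.span_le.2 ?_)
        · have hMu' : M *ᵥ (M⁻¹ *ᵥ z) = z := by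
            rw [Matrix.mulVec_mulVec, mul_nonsing_inv _ hMu, Matrix.one_mulVec]
          exact ⟨M⁻¹ *ᵥ z, Submodule.mem_sup_left (mem_of_mulVec_mem hM hS (by rw [hMu']; exact hz)), hMu'⟩
        · rintro _ ⟨i, hi, rfl⟩
          exact hpow i hi
      have hlt : T (q + 1) < T (q + 2) := lt_of_le_of_ne (hTmono (by omega)) fun he =>
        hmin (q + 1) (by omega) (he ▸ hTmem (by omega))
      exact absurd (Submodule.finrank_lt_finrank_of_lt hlt)
        (not_lt.2 ((Submodule.finrank_mono hle).trans (Submodule.finrank_map_le _ _)))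
    rw [hq, hTsucc] at hwm
    obtain ⟨t, ht, y, hy, hwe⟩ := Submodule.mem_sup.1 hwm
    obtain ⟨a, rfl⟩ := Submodule.mem_span_singleton.1 hy
    have ha : a ≠ 0 := by
      intro ha
      rw [ha, zero_smul, add_zero] at hwe
      exact hwn (hwe ▸ ht)
    let e := k + q + 1
    let u' : ℕ → Fin n → F := fun i => if i < k then u i else if i = e then w else (M ^ (i - k)) *ᵥ v
    have hu : ∀ i < k, u' i = u i := fun i hi => by simp [u', hi]
    have hu1 : ∀ i ≤ q, u' (k + i) = (M ^ i) *ᵥ v := fun i hi => by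
      simp [u', e, show ¬ k + i < k by omega, show k + i ≠ k + q + 1 by omega]
    have hue : u' e = w := by simp [u', e, show ¬ k + q + 1 < k by omega]
    have hflag : ∀ i ≤ k, flag u' i = flag u i := fun i hi => flag_congr fun j hj => hu j (lt_of_lt_of_le hj hi)
    have hflag2 : ∀ i ≤ q + 1, flag u' (k + i) = T i := by
      intro i
      induction i with
      | zero => intro _; rw [add_zero, hflag k le_rfl, hT0]
      | succ i ih =>
        intro hi
        rw [← add_assoc, flag_succ, ih (by omega), hu1 i (by omega), hTsucc]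
    refine ⟨e + 1, u', fun i => i = e ∨ (i < k ∧ E i), by omega, ⟨?_, ?_, ?_, ?_, ?_⟩, ?_, ?_,
      fun l hl => hl.elim (fun h => Or.inr (by rw [h])) Or.inl⟩
    rotate_left 5
    · have := hu1 0 (by omega)
      rw [add_zero, pow_zero, Matrix.one_mulVec] at this
      exact this ▸ mem_flag u' (by omega)
    · rw [hSdef, ← hflag k le_rfl]; exact flag_mono u' (by omega)
    · intro i hi
      rcases Nat.lt_or_ge i k with hik | hik
      · rw [hflag i hik.le, hu i hik]; exact h.indep i hik
      obtain ⟨j, rfl⟩ : ∃ j, i = k + j := ⟨i - k, by omega⟩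
      rw [hflag2 j (by omega)]
      rcases Nat.lt_or_ge j (q + 1) with hj | hj
      · rw [hu1 j (by omega)]; exact hmin j (by omega)
      · obtain rfl : j = q + 1 := by omega
        rw [show k + (q + 1) = e by omega, hue]; exact hwn
    · rintro (h0 | ⟨-, h0⟩)
      · simp [e] at h0
      · exact h.first h0
    · exact fun _ => Or.inl (by omega)
    · intro i hi hE
      rcases Nat.lt_or_ge i k with hik | hik
      · obtain ⟨h1, c', hc', hm'⟩ := h.step i hik fun he => hE (Or.inr ⟨hik, he⟩)
        exact ⟨by omega, c', hc', by rwa [hflag _ h1.le, hu _ h1, hu _ hik]⟩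
      have hne : i ≠ e := fun he => hE (Or.inl he)
      obtain ⟨j, rfl⟩ : ∃ j, i = k + j := ⟨i - k, by omega⟩
      refine ⟨by omega, ?_⟩
      rw [hu1 j (by omega), Matrix.mulVec_mulVec, ← pow_succ', add_assoc, hflag2 (j + 1) (by omega)]
      rcases Nat.lt_or_ge j q with hj | hj
      · exact ⟨1, one_ne_zero, by rw [one_smul, hu1 (j + 1) (by omega), sub_self]; exact zero_mem _⟩
      · obtain rfl : j = q := by omega
        refine ⟨a⁻¹, inv_ne_zero ha, ?_⟩
        rw [show k + (j + 1) = e by omega, hue, ← hwe, smul_add, smul_smul, inv_mul_cancel₀ ha, one_smul,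
          sub_add_cancel_right]
        exact neg_mem (Submodule.smul_mem _ _ ht)
    · intro i hi hE
      rcases hE with rfl | ⟨hik, hEi⟩
      · refine ⟨k, by omega, ?_, fun l hl hl' => ?_, 1, one_ne_zero, ?_⟩
        · rcases Nat.eq_zero_or_pos k with hk | hk
          · exact Or.inl hk
          · exact Or.inr (Or.inr ⟨by omega, h.last hk⟩)
        · rintro (h' | ⟨h', -⟩) <;> omega
        · have := hu1 0 (by omega)
          rw [add_zero, pow_zero, Matrix.one_mulVec] at this
          rw [hue, hMw, one_smul, this, sub_self]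
          exact zero_mem _
      · obtain ⟨f, hf, hf0, hfl, c', hc', hm'⟩ := h.stop i hik hEi
        refine ⟨f, hf, ?_, fun l hl hl' => ?_, c', hc', ?_⟩
        · rcases hf0 with h0 | h0
          · exact Or.inl h0
          · exact Or.inr (Or.inr ⟨by omega, h0⟩)
        · rintro (h' | ⟨-, h'⟩)
          · omega
          · exact hfl l hl hl' h'
        · rwa [hflag f (by omega), hu f (by omega), hu i hik]

/-- A full partial flag gives the form. -/
theorem Partial.to_nf {k : ℕ} {M : Matrix (Fin k) (Fin k) F} {u : ℕ → Fin k → F} {E : ℕ → Prop}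
    (hP : Partial M k u E) :
    ∃ M' : Matrix (Fin k) (Fin k) F, (∃ δ, ConjD δ M M') ∧ NF M' E := by
  classical
  set P : Matrix (Fin k) (Fin k) F := Matrix.of fun i j => u j i with hP0
  have hPs : ∀ j : Fin k, P *ᵥ Pi.single j 1 = u j := fun j => by
    rw [Matrix.mulVec_single_one]; rfl
  have hPtop : ∀ z, ∃ c, P *ᵥ c = z := by
    intro z
    have htop : flag u k = ⊤ := Submodule.eq_top_of_finrank_eq (by
      rw [flag_finrank hP.indep, Module.finrank_fin_fun])
    have hz : z ∈ flag u k := by rw [htop]; trivial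
    refine Submodule.span_le (p := LinearMap.range P.mulVecLin).2 ?_ hz
    rintro _ ⟨i, hi, rfl⟩
    exact ⟨Pi.single ⟨i, hi⟩ 1, by rw [Matrix.mulVecLin_apply, hPs]⟩
  have hinj : Function.Injective P.mulVec := by
    have := LinearMap.injective_iff_surjective.2 (show Function.Surjective P.mulVecLin from hPtop)
    exact this
  have hPd : IsUnit P.det := (Matrix.isUnit_iff_isUnit_det P).1 (Matrix.mulVec_injective_iff_isUnit.1 hinj)
  have hflag : ∀ t, t ≤ k → ∀ c, P *ᵥ c ∈ flag u t → ∀ i : Fin k, t ≤ i → c i = 0 := by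
    intro t ht c hc i hi
    let W : Submodule F (Fin k → F) :=
      { carrier := {c | ∀ i : Fin k, t ≤ i → c i = 0}
        add_mem' := fun {a b} ha hb i hi => by simp [ha i hi, hb i hi]
        zero_mem' := fun i _ => rfl
        smul_mem' := fun r a ha i hi => by simp [ha i hi] }
    have hle : flag u t ≤ W.map P.mulVecLin := by
      rw [flag, Submodule.span_le]
      rintro _ ⟨j, hj, rfl⟩
      refine ⟨Pi.single ⟨j, lt_of_lt_of_le hj ht⟩ 1, fun i hi => Pi.single_eq_of_ne ?_ _, by
        rw [Matrix.mulVecLin_apply, hPs]⟩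
      intro h
      rw [h] at hi
      exact absurd hj (not_lt.2 hi)
    obtain ⟨c', hc', he⟩ := hle hc
    rw [← hinj he]
    exact hc' i hi
  set M' := P⁻¹ * M * P with hM'
  have hcol : ∀ (j : Fin k) (f : ℕ), f < k → ∀ c : F, M *ᵥ u j - c • u f ∈ flag u f →
      (∀ i : Fin k, f < i → M' i j = 0) ∧ ∀ i : Fin k, (i : ℕ) = f → M' i j = c := by
    intro j f hf c hm
    have h1 : P *ᵥ (M' *ᵥ Pi.single j 1 - c • Pi.single (⟨f, hf⟩ : Fin k) 1) = M *ᵥ u j - c • u f := by
      rw [Matrix.mulVec_sub, Matrix.mulVec_smul, hPs, hM', Matrix.mulVec_mulVec, ← Matrix.mul_assoc,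
        ← Matrix.mul_assoc, mul_nonsing_inv _ hPd, Matrix.one_mul, ← Matrix.mulVec_mulVec, hPs]
    have h2 : ∀ i : Fin k, f ≤ i → M' i j = c * Pi.single (M := fun _ => F) (⟨f, hf⟩ : Fin k) 1 i := by
      intro i hi
      have := hflag f hf.le _ (h1 ▸ hm) i hi
      rw [Pi.sub_apply, Pi.smul_apply, smul_eq_mul, sub_eq_zero, Matrix.mulVec_single_one] at this
      exact this
    refine ⟨fun i hi => ?_, fun i hi => ?_⟩
    · rw [h2 i hi.le, Pi.single_eq_of_ne (fun h => by rw [h] at hi; exact lt_irrefl _ hi), mul_zero]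
    · rw [h2 i hi.ge, show i = ⟨f, hf⟩ from Fin.ext hi, Pi.single_eq_same, mul_one]
  refine ⟨M', ⟨(P⁻¹).det, P⁻¹, P, nonsing_inv_mul _ hPd, rfl, rfl⟩,
    ⟨hP.last, hP.first, fun i j hE hij => ?_, fun i j hE hij => ?_, fun i j hE hi0 hall => ?_,
      fun i j l hEl hEj hlj hno hij => ?_⟩⟩
  · obtain ⟨h1, c, -, hm⟩ := hP.step j j.isLt hE
    exact (hcol j (j + 1) h1 c hm).1 i hij
  · obtain ⟨h1, c, hc, hm⟩ := hP.step j j.isLt hE
    rw [(hcol j (j + 1) h1 c hm).2 i hij]; exact hc
  · obtain ⟨f, hf, hf0, -, c, -, hm⟩ := hP.stop j j.isLt hE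
    refine (hcol j f (by omega) c hm).1 i ?_
    rcases Nat.eq_zero_or_pos f with hf' | hf'
    · omega
    · rcases hf0 with h0 | h0
      · omega
      · have := hall (f - 1) h0 (by omega); omega
  · obtain ⟨f, hf, hf0, hfl, c, hc, hm⟩ := hP.stop j j.isLt hEj
    have hlf : f ≤ l + 1 := by
      by_contra hlt
      rcases hf0 with h0 | h0
      · omega
      · exact hno (f - 1) (by omega) (by omega) h0
    have hfl' : ¬ f ≤ l := fun h => hfl l h hlj hEl
    rw [(hcol j f (by omega) c hm).2 i (by omega)]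
    exact hc

theorem exists_nf {M : Matrix (Fin n) (Fin n) F} (hM : M.det ≠ 0) (hns : ∀ c : F, M ≠ c • 1) :
    ∃ (M' : Matrix (Fin n) (Fin n) F) (E : ℕ → Prop), (∃ δ, ConjD δ M M') ∧ NF M' E := by
  classical
  obtain ⟨v, hv⟩ : ∃ v : Fin n → F, ∀ c : F, M *ᵥ v ≠ c • v := by
    by_contra hcon
    push Not at hcon
    obtain ⟨c, hc⟩ := LinearMap.exists_eq_smul_id_of_forall_notLinearIndependent (f := M.mulVecLin)
      (fun v => by
        obtain ⟨c, hc⟩ := hcon v
        intro hli
        have := (LinearIndependent.pair_iff.1 hli) c (-1) (by simp [hc])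
        exact one_ne_zero (neg_eq_zero.1 this.2))
    refine hns c (Matrix.ext_iff_mulVec.2 fun w => ?_)
    have := LinearMap.congr_fun hc w
    simpa [Matrix.smul_mulVec] using this
  have key : ∀ N : ℕ, ∃ k u E, min N n ≤ k ∧ Partial M k u E := by
    intro N
    induction N with
    | zero =>
      exact ⟨0, fun _ => 0, fun _ => False, by simp,
        ⟨fun i hi => by omega, id, fun h => by omega, fun i hi => by omega, fun i hi => by omega⟩⟩
    | succ N ih =>
      obtain ⟨k, u, E, hk, hP⟩ := ih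
      by_cases hkn : min (N + 1) n ≤ k
      · exact ⟨k, u, E, hkn, hP⟩
      rcases Nat.eq_zero_or_pos k with rfl | hk0
      · obtain ⟨k', u', E', hk', hP', -⟩ := hP.extend hM (v := v) (by
          intro h
          simp [flag_zero] at h
          exact hv 0 (by simp [h])) (fun _ => hv)
        exact ⟨k', u', E', by omega, hP'⟩
      · obtain ⟨w, hw⟩ : ∃ w, w ∉ flag u k := by
          by_contra hcon
          push Not at hcon
          have := flag_finrank hP.indep
          rw [Submodule.eq_top_iff'.2 hcon, finrank_top, Module.finrank_fin_fun] at this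
          omega
        obtain ⟨k', u', E', hk', hP', -⟩ := hP.extend hM hw (fun h => by omega)
        exact ⟨k', u', E', by omega, hP'⟩
  obtain ⟨k, u, E, hk, hP⟩ := key n
  rw [min_self] at hk
  have hkle : k ≤ n := by
    have := flag_finrank hP.indep
    have h2 := Submodule.finrank_le (flag u k)
    rw [this, Module.finrank_fin_fun] at h2
    exact h2
  obtain rfl : k = n := le_antisymm hkle hk
  obtain ⟨M', hM', hNF⟩ := hP.to_nf
  exact ⟨M', E, hM', hNF⟩

/-- `t` vectors lie in no proper invariant subspace. -/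
def Gen {ι : Type*} [Fintype ι] (M : Matrix ι ι F) (t : ℕ) : Prop :=
  ∃ v : Fin t → ι → F, ∀ S : Submodule F (ι → F), (∀ z ∈ S, M *ᵥ z ∈ S) → (∀ i, v i ∈ S) → S = ⊤

open Classical in
/-- The form with at most as many blocks as there are generators. -/
theorem exists_nf_gen {M : Matrix (Fin n) (Fin n) F} (hM : M.det ≠ 0) {t : ℕ} (hg : Gen M t) (ht : t < n) :
    ∃ (M' : Matrix (Fin n) (Fin n) F) (E : ℕ → Prop), (∃ δ, ConjD δ M M') ∧ NF M' E ∧
      ((Finset.range n).filter E).card ≤ t := by
  obtain ⟨v, hv⟩ := hg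
  obtain ⟨i0, hi0⟩ : ∃ i0, ∀ c : F, M *ᵥ v i0 ≠ c • v i0 := by
    by_contra hcon
    push Not at hcon
    set S := Submodule.span F (Set.range v) with hS
    have htop : S = ⊤ := hv S (fun z hz => by
      induction hz using Submodule.span_induction with
      | mem x hx =>
        obtain ⟨i, rfl⟩ := hx
        obtain ⟨c, hc⟩ := hcon i
        rw [hc]
        exact Submodule.smul_mem _ _ (Submodule.subset_span ⟨i, rfl⟩)
      | zero => simp
      | add x y _ _ hx hy => rw [Matrix.mulVec_add]; exact add_mem hx hy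
      | smul c x _ hx => rw [Matrix.mulVec_smul]; exact Submodule.smul_mem _ c hx)
      fun i => Submodule.subset_span ⟨i, rfl⟩
    have h1 : finrank F S ≤ Fintype.card (Fin t) := finrank_range_le_card v
    rw [htop, finrank_top, Module.finrank_fin_fun, Fintype.card_fin] at h1
    omega
  have hv0 : v i0 ≠ 0 := fun h => hi0 0 (by simp [h])
  let e : Fin t ≃ Fin t := Equiv.swap ⟨0, Fin.pos i0⟩ i0
  have key : ∀ N : ℕ, N ≤ t → ∃ k u E, Partial M k u E ∧ (∀ i : Fin t, (i : ℕ) < N → v (e i) ∈ flag u k) ∧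
      ((Finset.range k).filter E).card ≤ N ∧ (0 < N → 0 < k) := by
    intro N
    induction N with
    | zero =>
      exact fun _ => ⟨0, fun _ => 0, fun _ => False,
        ⟨fun i hi => by omega, id, fun h => by omega, fun i hi => by omega, fun i hi => by omega⟩,
        fun i hi => by omega, by simp, fun h => h⟩
    | succ N ih =>
      intro hN
      obtain ⟨k, u, E, hP, hmem, hcard, hpos⟩ := ih (by omega)
      by_cases hin : v (e ⟨N, by omega⟩) ∈ flag u k
      · refine ⟨k, u, E, hP, fun i hi => ?_, by omega, fun _ => ?_⟩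
        · rcases Nat.lt_succ_iff_lt_or_eq.1 hi with h | h
          · exact hmem i h
          · rwa [show i = ⟨N, by omega⟩ from Fin.ext h]
        · by_contra hk
          obtain rfl : k = 0 := by omega
          obtain rfl : N = 0 := by
            by_contra hN0
            exact absurd (hpos (by omega)) (lt_irrefl 0)
          simp [flag_zero, e, Equiv.swap_apply_left, hv0] at hin
      · obtain ⟨k', u', E', hk', hP', hvm, hle, hE'⟩ := hP.extend hM hin (fun hk0 => by
          obtain rfl : N = 0 := by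
            by_contra hN0
            exact absurd (hk0 ▸ hpos (by omega)) (lt_irrefl 0)
          simpa [e, Equiv.swap_apply_left] using hi0)
        refine ⟨k', u', E', hP', fun i hi => ?_, ?_, fun _ => by omega⟩
        · rcases Nat.lt_succ_iff_lt_or_eq.1 hi with h | h
          · exact hle (hmem i h)
          · rwa [show i = ⟨N, by omega⟩ from Fin.ext h]
        · refine (Finset.card_le_card (t := insert (k' - 1) ((Finset.range k).filter E)) fun l hl => ?_).trans
            ((Finset.card_insert_le _ _).trans (by omega))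
          rw [Finset.mem_filter, Finset.mem_range] at hl
          rw [Finset.mem_insert, Finset.mem_filter, Finset.mem_range]
          rcases hE' l hl.2 with h | h
          · exact Or.inr h
          · exact Or.inl (by omega)
  obtain ⟨k, u, E, hP, hmem, hcard, -⟩ := key t le_rfl
  have htop := hv (flag u k) hP.invariant fun i => by simpa [e] using hmem (e i) (e i).isLt
  have hk := flag_finrank hP.indep
  rw [htop, finrank_top, Module.finrank_fin_fun] at hk
  subst hk
  obtain ⟨M', hM', hNF⟩ := hP.to_nf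
  exact ⟨M', E, hM', hNF, hcard⟩

end CfsgLib.GLClass.Cover
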