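import Mathlib
import Cfsg.Agent.Lib.GLClass.Cover.Normal

/-!
Two cyclic classes, one of them with a simple eigenvalue, multiply to every non-scalar matrix of the
right determinant.
-/

set_option autoImplicit false

namespace CfsgLib.GLClass.Cover

open Polynomial Matrix Module
open CfsgLib.GLClass.CommSL

variable {F : Type*} [Field F] {m : ℕ}

/-- The index equivalence splitting off the first coordinate. -/
def splitFirst (m : ℕ) : Fin (m + 1) ≃ Fin m ⊕ PUnit.{1} :=
  (finSuccEquiv m).trans (Equiv.optionEquivSumPUnit _)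

/-- Border a matrix by a scalar in the first coordinate. -/
def full (d : F) (C : Matrix (Fin m) (Fin m) F) : Matrix (Fin (m + 1)) (Fin (m + 1)) F :=
  Matrix.reindex (splitFirst m).symm (splitFirst m).symm (fromBlocks C 0 0 (d • 1))

theorem full_zero_zero (d : F) (C : Matrix (Fin m) (Fin m) F) : full d C 0 0 = d := by
  simp [full, splitFirst]

theorem full_zero_succ (d : F) (C : Matrix (Fin m) (Fin m) F) (j : Fin m) : full d C 0 j.succ = 0 := by
  simp [full, splitFirst]

theorem full_succ_zero (d : F) (C : Matrix (Fin m) (Fin m) F) (i : Fin m) : full d C i.succ 0 = 0 := by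
  simp [full, splitFirst]

theorem full_succ_succ (d : F) (C : Matrix (Fin m) (Fin m) F) (i j : Fin m) : full d C i.succ j.succ = C i j := by
  simp [full, splitFirst]

theorem full_mul (d d' : F) (C C' : Matrix (Fin m) (Fin m) F) : full d C * full d' C' = full (d * d') (C * C') := by
  simp [full, Matrix.submatrix_mul_equiv, fromBlocks_multiply, smul_smul, mul_comm d' d]

theorem full_one : full (1 : F) (1 : Matrix (Fin m) (Fin m) F) = 1 := by
  simp [full, fromBlocks_one]

theorem det_full (d : F) (C : Matrix (Fin m) (Fin m) F) : (full d C).det = d * C.det := by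
  rw [full, Matrix.det_reindex_self, det_fromBlocks_zero₁₂, det_smul, det_one, Fintype.card_punit, pow_one, mul_one,
    mul_comm]

theorem cyc_full {d : F} {g₁ : F[X]} {C : Matrix (Fin m) (Fin m) F} (hC : Cyc g₁ C) (hd : g₁.eval d ≠ 0) :
    Cyc ((X - Polynomial.C d) * g₁) (full d C) := by
  have hco : IsCoprime g₁ (X - Polynomial.C d) :=
    (((irreducible_X_sub_C d).coprime_iff_not_dvd).2 fun h => hd (dvd_iff_isRoot.1 h)).symm
  rw [mul_comm]
  exact Cyc.of_sim (sim_reindex _ _) (cyc_blocks hco hC (cyc_unit d))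

/-- Adding a row supported on the first coordinate does not change the class of a bordered matrix
whose corner is not an eigenvalue of the rest. -/
theorem sim_shear {d : F} {C : Matrix (Fin m) (Fin m) F} (hCd : (C - d • 1).det ≠ 0) {s : Fin (m + 1) → F}
    (hs0 : s 0 = 0) : Sim (full d C + vecMulVec (Pi.single 0 1) s) (full d C) := by
  set w' : Fin m → F := Fin.tail s ᵥ* (C - d • 1)⁻¹ with hw'
  have hw'eq : w' ᵥ* (C - d • 1) = Fin.tail s := by
    rw [hw', Matrix.vecMul_vecMul, nonsing_inv_mul _ (isUnit_iff_ne_zero.2 hCd), Matrix.vecMul_one]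
  set W : Fin (m + 1) → F := Fin.cons 0 w' with hW
  set Z : Matrix (Fin (m + 1)) (Fin (m + 1)) F := vecMulVec (Pi.single 0 1) W with hZ
  have hcons : ∀ r : Fin (m + 1) → F, r 0 = 0 → r ᵥ* full d C = Fin.cons 0 (Fin.tail r ᵥ* C) := by
    intro r hr
    funext j
    rcases Fin.eq_zero_or_eq_succ j with rfl | ⟨j, rfl⟩
    · simp [Matrix.vecMul, dotProduct, Fin.sum_univ_succ, hr, full_succ_zero]
    · simp [Matrix.vecMul, dotProduct, Fin.sum_univ_succ, hr, full_succ_succ, Fin.tail]
  have he0 : full d C *ᵥ Pi.single 0 1 = d • Pi.single 0 1 := by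
    rw [Matrix.mulVec_single_one]
    funext i
    rcases Fin.eq_zero_or_eq_succ i with rfl | ⟨i, rfl⟩
    · simp [full_zero_zero]
    · simp [full_succ_zero]
  have hZZ : Z * Z = 0 := by
    rw [hZ, Matrix.vecMulVec_mul_vecMulVec]
    simp [hW]
  have e1 : full d C * Z = d • Z := by
    rw [hZ, Matrix.mul_vecMulVec, he0, Matrix.smul_vecMulVec]
  have e2 : Z * full d C = d • Z + vecMulVec (Pi.single 0 1) s := by
    rw [hZ, Matrix.vecMulVec_mul, ← Matrix.vecMulVec_smul, ← Matrix.vecMulVec_add, hcons W (by simp [hW])]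
    congr 1
    funext j
    rcases Fin.eq_zero_or_eq_succ j with rfl | ⟨j, rfl⟩
    · simp [hW, hs0]
    · have h3 := congrFun hw'eq j
      rw [Matrix.vecMul_sub, Pi.sub_apply, Matrix.vecMul_smul, Matrix.vecMul_one, Pi.smul_apply, smul_eq_mul] at h3
      simp only [hW, Fin.cons_succ, Fin.tail_cons, Pi.add_apply, Pi.smul_apply, smul_eq_mul]
      unfold Fin.tail at h3
      linear_combination h3
  refine ⟨1 + Z, 1 - Z, ?_, ?_, ?_⟩
  · rw [Matrix.add_mul, Matrix.mul_sub, Matrix.mul_sub, Matrix.mul_one, Matrix.one_mul, Matrix.mul_one, hZZ]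
    abel
  · rw [Matrix.sub_mul, Matrix.mul_add, Matrix.mul_add, Matrix.mul_one, Matrix.one_mul, Matrix.mul_one, hZZ]
    abel
  · have hvZ : vecMulVec (Pi.single (0 : Fin (m + 1)) (1 : F)) s * Z = 0 := by
      rw [hZ, Matrix.vecMulVec_mul_vecMulVec]; ext i j; simp [hs0, Matrix.vecMulVec_apply]
    have e3 : (1 + Z) * full d C = full d C + (d • Z + vecMulVec (Pi.single 0 1) s) := by
      rw [Matrix.add_mul, Matrix.one_mul, e2]
    have e4 : (1 + Z) * full d C * Z = d • Z := by
      rw [e3, Matrix.add_mul, Matrix.add_mul, e1, hvZ, Matrix.smul_mul, hZZ, smul_zero, add_zero, add_zero]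
    rw [Matrix.mul_sub, Matrix.mul_one, e4, e3]
    abel

theorem krySpan_invariant {n : ℕ} {A : Matrix (Fin n) (Fin n) F} {b z : Fin n → F} (hz : z ∈ krySpan A b n) :
    A *ᵥ z ∈ krySpan A b n := by
  have h := mulVec_mem_krySpan hz
  refine (Submodule.span_le.2 ?_) h
  rintro _ ⟨i, hi, rfl⟩
  rcases Nat.lt_succ_iff_lt_or_eq.1 hi with h' | rfl
  · exact pow_mem_krySpan A b h'
  · have h0 : aeval A A.charpoly *ᵥ b = 0 := by rw [aeval_self_charpoly, Matrix.zero_mulVec]
    have hd : A.charpoly.natDegree = i := by rw [A.charpoly_natDegree_eq_dim, Fintype.card_fin]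
    have hc := A.charpoly_monic.coeff_natDegree
    rw [hd] at hc
    rw [aeval_eq_sum_range, Matrix.sum_mulVec, hd, Finset.sum_range_succ] at h0
    simp only [Matrix.smul_mulVec] at h0
    rw [hc, one_smul] at h0
    show (A ^ i) *ᵥ b ∈ _
    rw [eq_neg_of_add_eq_zero_right h0]
    exact neg_mem (sum_mem fun j hj => Submodule.smul_mem _ _ (pow_mem_krySpan A b (Finset.mem_range.1 hj)))

theorem kry_det_ne_of_single {n : ℕ} {A : Matrix (Fin n) (Fin n) F} {b : Fin n → F}
    (h : ∀ i, Pi.single i (1 : F) ∈ krySpan A b n) : (kry A b).det ≠ 0 := by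
  intro h0
  obtain ⟨t, ht, hz⟩ := Matrix.exists_vecMul_eq_zero_iff.2 h0
  refine ht (funext fun i => ?_)
  have key : ∀ z ∈ krySpan A b n, t ⬝ᵥ z = 0 := by
    intro z hz'
    induction hz' using Submodule.span_induction with
    | mem x hx =>
      obtain ⟨j, hj, rfl⟩ := hx
      exact congrFun hz ⟨j, hj⟩
    | zero => simp
    | add x y _ _ hx hy => rw [dotProduct_add, hx, hy, add_zero]
    | smul c x _ hx => rw [dotProduct_smul, hx, smul_zero]
  simpa using key _ (h i)

/-- A product of the subdiagonal products changes linearly in its last entry. -/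
theorem prod_prod_scale {n : ℕ} (hn : 2 ≤ n) (μ : Fin n → F) (t : F) :
    (∏ j : Fin n, ∏ i ∈ Finset.univ.filter (fun i : Fin n => (i : ℕ) < j), μ i * (if (i : ℕ) + 2 = n then t else 1)) =
      t * ∏ j : Fin n, ∏ i ∈ Finset.univ.filter (fun i : Fin n => (i : ℕ) < j), μ i := by
  simp_rw [Finset.prod_mul_distrib]
  rw [mul_comm t]
  congr 1
  have h : ∀ j : Fin n, (∏ i ∈ Finset.univ.filter (fun i : Fin n => (i : ℕ) < j), if (i : ℕ) + 2 = n then t else 1) =
      if (j : ℕ) + 1 = n then t else 1 := by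
    intro j
    by_cases hj : (j : ℕ) + 1 = n
    · rw [if_pos hj, Finset.prod_eq_single (⟨n - 2, by omega⟩ : Fin n), if_pos (by simp; omega)]
      · intro b _ hb
        rw [if_neg]
        exact fun h => hb (Fin.ext (by simp; omega))
      · intro h
        refine absurd ?_ h
        rw [Finset.mem_filter]
        exact ⟨Finset.mem_univ _, show n - 2 < (j : ℕ) by omega⟩
    · rw [if_neg hj]
      refine Finset.prod_eq_one fun i hi => if_neg ?_
      have := (Finset.mem_filter.1 hi).2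
      omega
  simp_rw [h]
  rw [Finset.prod_eq_single (⟨n - 1, by omega⟩ : Fin n), if_pos (by simp; omega)]
  · intro b _ hb
    rw [if_neg]
    exact fun h => hb (Fin.ext (by simp; omega))
  · simp

section Core

variable {M : Matrix (Fin (m + 1)) (Fin (m + 1)) F} {E : ℕ → Prop}

/-- Next block end. -/
noncomputable def nxt (E : ℕ → Prop) (j : ℕ) : ℕ := sInf {k | j < k ∧ E k}

open Classical in
/-- The target of the chain at a column. -/
noncomputable def tgt (E : ℕ → Prop) (m j : ℕ) : ℕ :=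
  if E j ∧ j < m then nxt E j else Nat.findGreatest (fun l => ¬ E l) (j - 1)

open Classical in
/-- The chain matrix, with one free non-zero scalar in every column. -/
noncomputable def chainMat (E : ℕ → Prop) (c : Fin m → F) : Matrix (Fin m) (Fin m) F :=
  Matrix.of fun i j => (if i = j ∧ ¬ E (j + 1) then c j else 0) +
    (if (i : ℕ) + 1 = tgt E m (j + 1) then (if E (j + 1) then c j else 1) else 0)

theorem nxt_spec (hlast : E m) {j : ℕ} (hj : j < m) :
    j < nxt E j ∧ E (nxt E j) ∧ nxt E j ≤ m ∧ ∀ l, j < l → l < nxt E j → ¬ E l := by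
  have hne : {k | j < k ∧ E k}.Nonempty := ⟨m, hj, hlast⟩
  refine ⟨(Nat.sInf_mem hne).1, (Nat.sInf_mem hne).2, Nat.sInf_le ⟨hj, hlast⟩, fun l hl hl' hE => ?_⟩
  exact absurd (Nat.sInf_le (s := {k | j < k ∧ E k}) ⟨hl, hE⟩) (not_le.2 hl')

theorem prv_spec (hfirst : ¬ E 0) (j : ℕ) [DecidablePred fun l => ¬ E l] (hj : 1 ≤ j) :
    Nat.findGreatest (fun l => ¬ E l) (j - 1) < j ∧ ¬ E (Nat.findGreatest (fun l => ¬ E l) (j - 1)) :=
  ⟨lt_of_le_of_lt (Nat.findGreatest_le _) (by omega),
    Nat.findGreatest_spec (P := fun l => ¬ E l) (m := 0) (Nat.zero_le _) hfirst⟩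

theorem chain_cyclic (hlast : E m) (hfirst : ¬ E 0) {c : Fin m → F} (hc : ∀ j, c j ≠ 0) {b : Fin m}
    (hb : E (b + 1)) (hmin : ∀ l, l < (b : ℕ) + 1 → ¬ E l) :
    (kry (chainMat E c) (Pi.single b 1)).det ≠ 0 := by
  classical
  set P := chainMat E c with hP
  set W := krySpan P (Pi.single b 1) m with hW
  have hcol : ∀ j : Fin m, P *ᵥ Pi.single j 1 = fun i => (if i = j ∧ ¬ E (j + 1) then c j else 0) +
      (if (i : ℕ) + 1 = tgt E m (j + 1) then (if E (j + 1) then c j else 1) else 0) := fun j => by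
    rw [Matrix.mulVec_single_one]; rfl
  have hb0 : Pi.single b (1 : F) ∈ W := by
    have := pow_mem_krySpan P (Pi.single b (1 : F)) (i := 0) (k := m) (by have := b.isLt; omega)
    rwa [pow_zero, Matrix.one_mulVec] at this
  -- the block ends
  have hends : ∀ k : ℕ, ∀ j : Fin m, (j : ℕ) = k → E (k + 1) → Pi.single j (1 : F) ∈ W := by
    intro k
    induction k using Nat.strong_induction_on with
    | _ k ih =>
    intro j hjk hE
    rcases Nat.lt_or_ge (b : ℕ) k with hbk | hbk
    · set p := Nat.findGreatest (fun l => E (l + 1)) (k - 1) with hp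
      have hpE : E (p + 1) := Nat.findGreatest_spec (P := fun l => E (l + 1)) (m := (b : ℕ)) (by omega) hb
      have hple : p < k := lt_of_le_of_lt (Nat.findGreatest_le _) (by omega)
      have hj := j.isLt
      obtain ⟨h1, h2, h3, h4⟩ := nxt_spec hlast (show p + 1 < m by omega)
      have hnx : nxt E (p + 1) = k + 1 := by
        refine le_antisymm ?_ ?_
        · by_contra hlt
          exact h4 (k + 1) (by omega) (by omega) hE
        · by_contra hlt
          obtain ⟨l, hl⟩ : ∃ l, nxt E (p + 1) = l + 1 := ⟨nxt E (p + 1) - 1, by omega⟩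
          have := Nat.le_findGreatest (P := fun l => E (l + 1)) (show l ≤ k - 1 by omega) (hl ▸ h2)
          omega
      have hmem := ih p hple ⟨p, by omega⟩ rfl hpE
      have := krySpan_invariant hmem
      rw [hcol] at this
      have e : (fun i : Fin m => (if i = (⟨p, by omega⟩ : Fin m) ∧ ¬ E (p + 1) then c ⟨p, by omega⟩ else 0) +
          (if (i : ℕ) + 1 = tgt E m (p + 1) then (if E (p + 1) then c ⟨p, by omega⟩ else 1) else 0)) =
          c ⟨p, by omega⟩ • Pi.single j (1 : F) := by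
        funext i
        rw [if_neg (fun h => h.2 hpE), zero_add, if_pos hpE, show tgt E m (p + 1) = k + 1 by
          rw [tgt, if_pos ⟨hpE, by omega⟩, hnx]]
        by_cases hij : i = j
        · subst hij; simp [hjk]
        · have : (i : ℕ) ≠ k := fun h => hij (Fin.ext (by omega))
          simp [hij, this]
      rw [e] at this
      have := Submodule.smul_mem _ (c ⟨p, by omega⟩)⁻¹ this
      rwa [smul_smul, inv_mul_cancel₀ (hc _), one_smul] at this
    · rcases Nat.lt_or_ge k b with hkb | hkb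
      · exact absurd hE (hmin _ (by omega))
      · rw [show j = b from Fin.ext (by omega)]; exact hb0
  -- the other indices
  have hrest : ∀ r : ℕ, ∀ j : Fin m, m - (j : ℕ) = r → Pi.single j (1 : F) ∈ W := by
    intro r
    induction r using Nat.strong_induction_on with
    | _ r ih =>
    intro j hj
    by_cases hE : E (j + 1)
    · exact hends j j rfl hE
    have hjlt := j.isLt
    have hj1 : (j : ℕ) + 1 < m := by
      rcases Nat.lt_or_ge ((j : ℕ) + 1) m with h | h
      · exact h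
      · exact absurd (by rw [show (j : ℕ) + 1 = m by omega]; exact hlast) hE
    -- the least larger column pointing to j
    have hex : ∃ l, (j : ℕ) + 1 ≤ l ∧ (¬ E (l + 1) ∨ l + 1 = m) := ⟨m - 1, by omega, Or.inr (by omega)⟩
    set l := Nat.find hex with hl
    obtain ⟨hjl, hlE⟩ := Nat.find_spec hex
    have hlm : l + 1 ≤ m := by
      have := Nat.find_min' hex (m := m - 1) ⟨by omega, Or.inr (by omega)⟩
      omega
    have hbetween : ∀ i, (j : ℕ) + 1 ≤ i → i < l → E (i + 1) := fun i hi hi' => by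
      by_contra h
      exact Nat.find_min hex hi' ⟨hi, Or.inl h⟩
    have htgt : tgt E m (l + 1) = j + 1 := by
      rw [tgt, if_neg]
      · refine le_antisymm ?_ (Nat.le_findGreatest (by omega) hE)
        by_contra hlt
        set q := Nat.findGreatest (fun i => ¬ E i) (l + 1 - 1)
        have hq1 : ¬ E q := Nat.findGreatest_spec (P := fun i => ¬ E i) (m := (j : ℕ) + 1) (by omega) hE
        have hq2 : q ≤ l + 1 - 1 := Nat.findGreatest_le _
        obtain ⟨q', rfl'⟩ : ∃ q', q = q' + 1 := ⟨q - 1, by omega⟩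
        rw [rfl'] at hq1
        exact hq1 (hbetween q' (by omega) (by omega))
      · rintro ⟨h1, h2⟩
        rcases hlE with h | h
        · exact h h1
        · omega
    have hmem : Pi.single (⟨l, by omega⟩ : Fin m) (1 : F) ∈ W := ih (m - l) (by omega) ⟨l, by omega⟩ rfl
    have himg := krySpan_invariant hmem
    rw [hcol] at himg
    set α : F := if ¬ E (l + 1) then c ⟨l, by omega⟩ else 0
    set β : F := if E (l + 1) then c ⟨l, by omega⟩ else 1
    have e : (fun i : Fin m => (if i = (⟨l, by omega⟩ : Fin m) ∧ ¬ E (l + 1) then c ⟨l, by omega⟩ else 0) +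
        (if (i : ℕ) + 1 = tgt E m (l + 1) then β else 0)) =
        α • Pi.single (⟨l, by omega⟩ : Fin m) (1 : F) + β • Pi.single j (1 : F) := by
      funext i
      rw [htgt, Pi.add_apply, Pi.smul_apply, Pi.smul_apply, smul_eq_mul, smul_eq_mul]
      congr 1
      · by_cases hi : i = (⟨l, by omega⟩ : Fin m) <;> simp [α, hi]
      · by_cases hi : i = j
        · subst hi; simp
        · have : (i : ℕ) ≠ j := fun h => hi (Fin.ext h)
          simp [hi, this]
    rw [e] at himg
    have hβ : β ≠ 0 := by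
      simp only [β]; split_ifs
      · exact hc _
      · exact one_ne_zero
    have := Submodule.smul_mem _ β⁻¹ (sub_mem himg (Submodule.smul_mem _ α hmem))
    rwa [add_sub_cancel_left, smul_smul, inv_mul_cancel₀ hβ, one_smul] at this
  exact kry_det_ne_of_single fun j => hrest _ j rfl

/-- The product of the normal form and the bordered chain matrix is upper Hessenberg. -/
theorem hess_mul (h : NF M E) {c : Fin m → F} {e : F} {w : Fin m → F} {b : Fin m} (hb : E (b + 1))
    (hmin : ∀ l, l < (b : ℕ) + 1 → ¬ E l) :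
    (∀ i j : Fin (m + 1), (j : ℕ) + 1 < i → (M * full e (chainMat E c + vecMulVec (Pi.single b 1) w)) i j = 0) ∧
    ∃ ν : Fin m → F, (∀ j : Fin m, (j : ℕ) + 1 < m → ν j ≠ 0) ∧
      (∀ j : Fin m, ∀ i : Fin (m + 1), (i : ℕ) = (j : ℕ) + 2 →
        (M * full e (chainMat E c + vecMulVec (Pi.single b 1) w)) i j.succ = c j * ν j) ∧
      (∀ i : Fin (m + 1), (i : ℕ) = 1 → (M * full e (chainMat E c + vecMulVec (Pi.single b 1) w)) i 0 = e * M i 0) ∧
      ∀ c' : Fin m → F, ∀ w' : Fin m → F, ∀ e' : F, ∀ j : Fin m, ∀ i : Fin (m + 1), (i : ℕ) = (j : ℕ) + 2 →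
        (M * full e' (chainMat E c' + vecMulVec (Pi.single b 1) w')) i j.succ = c' j * ν j := by
  classical
  have hlast : E m := by simpa using h.last (Nat.succ_pos m)
  have hzero : ∀ (e : F) (C : Matrix (Fin m) (Fin m) F) (i : Fin (m + 1)), (M * full e C) i 0 = e * M i 0 := by
    intro e C i
    rw [Matrix.mul_apply, Fin.sum_univ_succ, full_zero_zero, Finset.sum_eq_zero fun k _ => ?_, add_zero, mul_comm]
    rw [full_succ_zero, mul_zero]
  have hsucc : ∀ (e : F) (c w : Fin m → F) (i : Fin (m + 1)) (j : Fin m),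
      (M * full e (chainMat E c + vecMulVec (Pi.single b 1) w)) i j.succ =
        (if E ((j : ℕ) + 1) then 0 else c j * M i j.succ) +
        (∑ k : Fin m, if (k : ℕ) + 1 = tgt E m (j + 1) then M i k.succ * (if E (j + 1) then c j else 1) else 0) +
        M i b.succ * w j := by
    intro e c w i j
    rw [Matrix.mul_apply, Fin.sum_univ_succ, full_zero_succ, mul_zero, zero_add]
    simp only [full_succ_succ, Matrix.add_apply, chainMat, Matrix.of_apply, Matrix.vecMulVec_apply, mul_add,
      Finset.sum_add_distrib]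
    refine congrArg₂ (· + ·) (congrArg₂ (· + ·) ?_ ?_) ?_
    · rw [Finset.sum_eq_single j (fun k _ hk => by simp [hk]) (by simp)]
      by_cases hE : E ((j : ℕ) + 1) <;> simp [hE, mul_comm]
    · exact Finset.sum_congr rfl fun k _ => by split_ifs <;> simp
    · rw [Finset.sum_eq_single b (fun k _ hk => by simp [hk]) (by simp)]
      simp
  have hb0 : ∀ i : Fin (m + 1), 0 < (i : ℕ) → M i b.succ = 0 := fun i hi =>
    h.end_zero i b.succ (by simpa using hb) hi fun k hk hkb => absurd hk (hmin k (by simpa using hkb))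
  -- the entries on and below the subdiagonal
  let ν : Fin m → F := fun j => if hj : (j : ℕ) + 1 < m then
    (if E ((j : ℕ) + 1) then M ⟨j + 2, by omega⟩ ⟨nxt E (j + 1), Nat.lt_succ_of_le (nxt_spec hlast hj).2.2.1⟩
      else M ⟨j + 2, by omega⟩ j.succ) else 0
  have hkey : ∀ (c w : Fin m → F) (e : F) (j : Fin m) (i : Fin (m + 1)), (j : ℕ) + 2 ≤ i →
      (M * full e (chainMat E c + vecMulVec (Pi.single b 1) w)) i j.succ =
        if (i : ℕ) = (j : ℕ) + 2 then c j * ν j else 0 := by
    intro c w e j i hij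
    have hi := i.isLt
    have hjm : (j : ℕ) + 1 < m := by omega
    rw [hsucc, hb0 i (by omega), zero_mul, add_zero]
    by_cases hE : E ((j : ℕ) + 1)
    · obtain ⟨h1, h2, h3, h4⟩ := nxt_spec hlast hjm
      rw [if_pos hE, zero_add, tgt, if_pos ⟨hE, hjm⟩,
        Finset.sum_eq_single (⟨nxt E ((j : ℕ) + 1) - 1, by omega⟩ : Fin m) (fun k _ hk => ?_) (by simp),
        if_pos (show nxt E ((j : ℕ) + 1) - 1 + 1 = nxt E ((j : ℕ) + 1) by omega), if_pos hE]
      · have hk : (⟨nxt E ((j : ℕ) + 1) - 1, by omega⟩ : Fin m).succ = ⟨nxt E ((j : ℕ) + 1), by omega⟩ :=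
          Fin.ext (by simp; omega)
        rw [hk]
        by_cases he : (i : ℕ) = (j : ℕ) + 2
        · rw [if_pos he, mul_comm]
          simp only [ν, dif_pos hjm, if_pos hE]
          congr 2
          exact Fin.ext he
        · rw [if_neg he, h.end_zero i _ h2 (by omega) (fun k hk hkn => ?_), zero_mul]
          rcases Nat.lt_or_ge ((j : ℕ) + 1) k with hk' | hk'
          · exact absurd hk (h4 k hk' hkn)
          · omega
      · rw [if_neg]
        intro hk'
        exact hk (Fin.ext (by simp; omega))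
    · rw [if_neg hE, tgt, if_neg (fun h => hE h.1),
        Finset.sum_eq_zero (fun k _ => ?_), add_zero]
      · by_cases he : (i : ℕ) = (j : ℕ) + 2
        · rw [if_pos he]
          simp only [ν, dif_pos hjm, if_neg hE]
          rw [show i = ⟨(j : ℕ) + 2, by omega⟩ from Fin.ext he]
        · rw [if_neg he, h.step_zero i j.succ (by simpa using hE) (by simp; omega), mul_zero]
      · split_ifs with hk
        · obtain ⟨h1, h2⟩ := prv_spec h.first ((j : ℕ) + 1) (by omega)
          rw [← hk] at h1 h2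
          rw [h.step_zero i k.succ (by simpa using h2) (by simp; omega), zero_mul]
        · rfl
  refine ⟨fun i j hij => ?_, ν, fun j hj => ?_, fun j i hi => ?_, fun i _ => hzero _ _ i,
    fun c' w' e' j i hi => ?_⟩
  · refine Fin.cases (fun hij => ?_) (fun j hij => ?_) j hij
    · rw [hzero, h.step_zero i 0 h.first (by simpa using hij), mul_zero]
    · simp only [Fin.val_succ] at hij
      rw [hkey c w e j i (by omega), if_neg (by omega)]
  · simp only [ν, dif_pos hj]
    split_ifs with hE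
    · obtain ⟨h1, h2, h3, h4⟩ := nxt_spec hlast hj
      exact h.end_ne _ _ ((j : ℕ) + 1) hE h2 h1 h4 rfl
    · exact h.step_ne _ _ (by simpa using hE) (by simp)
  · rw [hkey c w e j i hi.ge, if_pos hi]
  · rw [hkey c' w' e' j i hi.ge, if_pos hi]

theorem core [Fintype F] (hm : 1 ≤ m) (h : NF M E) (hdet : M.det ≠ 0) {d : F} {g₁ : F[X]}
    (hg : g₁.Monic) (hgd : g₁.natDegree = m) (hroot : g₁.eval d ≠ 0) (hd : d ≠ 0)
    (hg0 : g₁.coeff 0 ≠ 0) {f : F[X]} (hf : f.Monic) (hfd : f.natDegree = m + 1)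
    (hc : M.det = (-1) ^ (m + 1) * f.coeff 0 * (d * ((-1) ^ m * g₁.coeff 0))) {μ : F} (hμ : μ ≠ 0) :
    ∃ (A S : Matrix (Fin (m + 1)) (Fin (m + 1)) F) (v : Fin (m + 1) → F), M = A * S ∧ A.charpoly = f ∧
      (kry A v).det ≠ 0 ∧ (2 ≤ m → (kry A v).det = μ) ∧ Cyc ((X - Polynomial.C d) * g₁) S := by
  classical
  subst hgd
  have hlast : E g₁.natDegree := by simpa using h.last (Nat.succ_pos g₁.natDegree)
  -- the inverse of the lower block
  have hD : (CommSL.comp g₁).det ≠ 0 := by
    rw [det_comp hg]; exact mul_ne_zero (pow_ne_zero _ (neg_ne_zero.2 one_ne_zero)) hg0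
  set D := (CommSL.comp g₁)⁻¹ with hDdef
  have hDu : CommSL.comp g₁ * D = 1 := mul_nonsing_inv _ (isUnit_iff_ne_zero.2 hD)
  have hDcyc := cyc_inv (cyc_comp hg) hDu
  have hDdeg : D.charpoly.natDegree = g₁.natDegree := by
    rw [Matrix.charpoly_natDegree_eq_dim, Fintype.card_fin]
  have hex : ∃ l, E l := ⟨g₁.natDegree, hlast⟩
  set b1 := Nat.find hex with hb1
  have hb1pos : 1 ≤ b1 := by
    by_contra h0
    exact h.first ((show b1 = 0 by omega) ▸ Nat.find_spec hex)
  have hb1le : b1 ≤ g₁.natDegree := Nat.find_min' hex hlast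
  set b : Fin g₁.natDegree := ⟨b1 - 1, by omega⟩ with hbdef
  have hb : E ((b : ℕ) + 1) := by
    rw [show (b : ℕ) + 1 = b1 by simp [hbdef]; omega]; exact Nat.find_spec hex
  have hmin : ∀ l, l < (b : ℕ) + 1 → ¬ E l := fun l hl => Nat.find_min hex (by simp [hbdef] at hl; omega)
  -- for every choice of scalars, a feedback row
  have hfb : ∀ c : Fin g₁.natDegree → F, (∀ j, c j ≠ 0) → ∃ w : Fin g₁.natDegree → F,
      Cyc g₁ (chainMat E c + vecMulVec (Pi.single b 1) w)⁻¹ ∧
        (chainMat E c + vecMulVec (Pi.single b 1) w).det * (CommSL.comp g₁).det = 1 := by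
    intro c hc'
    have hK := chain_cyclic hlast h.first hc' hb hmin
    obtain ⟨w, hw⟩ := exists_feedback hK D.charpoly_monic hDdeg
    have hK' : (kry (chainMat E c + vecMulVec (Pi.single b 1) w) (Pi.single b 1)).det ≠ 0 := by
      rwa [kry_feedback]
    have hB := (cyc_of_kry hK').1
    rw [hw] at hB
    obtain ⟨U, V, h1, h2, hUV⟩ := hB.sim hDcyc
    refine ⟨w, ?_, ?_⟩
    · have hinv : (chainMat E c + vecMulVec (Pi.single b 1) w)⁻¹ = U * CommSL.comp g₁ * V := by
        refine inv_eq_right_inv ?_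
        calc _ = U * (D * (V * U) * CommSL.comp g₁) * V := by rw [hUV]; simp only [Matrix.mul_assoc]
          _ = 1 := by rw [h2, Matrix.mul_one, mul_eq_one_comm.1 hDu, Matrix.mul_one, h1]
      rw [hinv]
      exact Cyc.of_sim ⟨U, V, h1, h2, rfl⟩ (cyc_comp hg)
    · rw [hUV, Matrix.det_conj_of_mul_eq_one h1 h2, mul_comm, ← det_mul, hDu, det_one]
  -- the Krylov determinant as a function of the free scalar
  have he : (d⁻¹ : F) ≠ 0 := inv_ne_zero hd
  obtain ⟨w1, hw1, hw1d⟩ := hfb 1 fun _ => one_ne_zero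
  obtain ⟨hz1, ν, hν, hsub1, hsub0, hall⟩ := hess_mul (c := 1) (e := d⁻¹) (w := w1) h hb hmin
  set X1 := M * full d⁻¹ (chainMat E 1 + vecMulVec (Pi.single b 1) w1) with hX1
  let sub1 : Fin (g₁.natDegree + 1) → F := fun i => if hi : (i : ℕ) + 1 < g₁.natDegree + 1 then X1 ⟨i + 1, hi⟩ i else 0
  have hsub_ne : ∀ i : Fin (g₁.natDegree + 1), (i : ℕ) + 1 < g₁.natDegree + 1 → sub1 i ≠ 0 := by
    intro i hi
    simp only [sub1, dif_pos hi]
    rcases Fin.eq_zero_or_eq_succ i with rfl | ⟨j, rfl⟩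
    · rw [hsub0 _ rfl]
      exact mul_ne_zero he (h.step_ne _ _ h.first rfl)
    · simp only [Fin.val_succ] at hi
      rw [hsub1 j _ (by simp), Pi.one_apply, one_mul]
      exact hν j (by omega)
  set K1 := (kry X1 (Pi.single ⟨0, Nat.succ_pos g₁.natDegree⟩ 1)).det with hK1
  have hK1f : K1 = ∏ j : Fin (g₁.natDegree + 1), ∏ i ∈ Finset.univ.filter (fun i : Fin (g₁.natDegree + 1) => (i : ℕ) < j), sub1 i :=
    kry_hess (Nat.succ_pos g₁.natDegree) hz1
  have hK1ne : K1 ≠ 0 := by
    rw [hK1f]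
    refine Finset.prod_ne_zero_iff.2 fun j _ => Finset.prod_ne_zero_iff.2 fun i hi => hsub_ne i ?_
    have := (Finset.mem_filter.1 hi).2
    have := j.isLt
    omega
  have hX1d : X1.det ≠ 0 := by
    rw [hX1, det_mul, det_full]
    refine mul_ne_zero hdet (mul_ne_zero he fun h0 => ?_)
    rw [h0, zero_mul] at hw1d
    exact zero_ne_one hw1d
  -- choose the scalar
  set t := μ / (X1.det * K1) with ht
  have htne : t ≠ 0 := div_ne_zero hμ (mul_ne_zero hX1d hK1ne)
  let c : Fin g₁.natDegree → F := fun j => if (j : ℕ) + 2 = g₁.natDegree then t else 1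
  have hcne : ∀ j, c j ≠ 0 := fun j => by simp only [c]; split_ifs <;> simp [htne]
  obtain ⟨w, hw, hwd⟩ := hfb c hcne
  obtain ⟨hz, -, -, -, hsubz, -⟩ := hess_mul (c := c) (e := d⁻¹) (w := w) h hb hmin
  set B := chainMat E c + vecMulVec (Pi.single b 1) w with hB
  set X := M * full d⁻¹ B with hX
  have hBu : IsUnit B.det := isUnit_iff_ne_zero.2 fun h0 => by rw [h0, zero_mul] at hwd; exact zero_ne_one hwd
  have hXdet : X.det = X1.det := by
    rw [hX, hX1, det_mul, det_mul, det_full, det_full]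
    congr 2
    exact mul_right_cancel₀ hD (hwd.trans hw1d.symm)
  have hKX : (kry X (Pi.single ⟨0, Nat.succ_pos g₁.natDegree⟩ 1)).det ≠ 0 ∧
      (2 ≤ g₁.natDegree → (kry X (Pi.single ⟨0, Nat.succ_pos g₁.natDegree⟩ 1)).det = t * K1) := by
    rw [kry_hess (Nat.succ_pos g₁.natDegree) hz]
    have hsub : ∀ i : Fin (g₁.natDegree + 1), (if hi : (i : ℕ) + 1 < g₁.natDegree + 1 then X ⟨i + 1, hi⟩ i else 0) =
        sub1 i * if 2 ≤ g₁.natDegree ∧ (i : ℕ) + 2 = g₁.natDegree + 1 then t else 1 := by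
      intro i
      by_cases hi : (i : ℕ) + 1 < g₁.natDegree + 1
      · simp only [sub1, dif_pos hi]
        rcases Fin.eq_zero_or_eq_succ i with rfl | ⟨j, rfl⟩
        · rw [hsubz _ rfl, hsub0 _ rfl, if_neg (by simp; omega), mul_one]
        · simp only [Fin.val_succ] at hi
          rw [hX, hall c w d⁻¹ j _ (by simp), hsub1 j _ (by simp), Pi.one_apply, one_mul, mul_comm]
          congr 1
          simp only [c, Fin.val_succ]
          by_cases hj : (j : ℕ) + 2 = g₁.natDegree
          · rw [if_pos hj, if_pos ⟨by omega, by omega⟩]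
          · rw [if_neg hj, if_neg (fun h => hj (by omega))]
      · simp only [sub1, dif_neg hi, zero_mul]
    simp only [hsub]
    refine ⟨Finset.prod_ne_zero_iff.2 fun j _ => Finset.prod_ne_zero_iff.2 fun i hi =>
      mul_ne_zero (hsub_ne i ?_) (by split_ifs <;> simp [htne]), fun h2 => ?_⟩
    · have := (Finset.mem_filter.1 hi).2
      have := j.isLt
      omega
    · have e : ∀ i : Fin (g₁.natDegree + 1), (if 2 ≤ g₁.natDegree ∧ (i : ℕ) + 2 = g₁.natDegree + 1 then t else 1) =
          if (i : ℕ) + 2 = g₁.natDegree + 1 then t else 1 := fun i => by simp [h2]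
      simp only [e]
      rw [prod_prod_scale (by omega), hK1f]
  -- feedback in the first factor
  set u := X *ᵥ Pi.single ⟨0, Nat.succ_pos g₁.natDegree⟩ 1 with hu
  have hKu : (kry X u).det = X.det * (kry X (Pi.single ⟨0, Nat.succ_pos g₁.natDegree⟩ 1)).det := by
    rw [← det_mul]
    congr 1
    ext i j
    show ((X ^ (j : ℕ)) *ᵥ u) i = (X *ᵥ ((X ^ (j : ℕ)) *ᵥ Pi.single ⟨0, Nat.succ_pos g₁.natDegree⟩ 1)) i
    rw [hu, Matrix.mulVec_mulVec, Matrix.mulVec_mulVec, ← pow_succ, ← pow_succ']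
  have hKune : (kry X u).det ≠ 0 := by rw [hKu, hXdet]; exact mul_ne_zero hX1d hKX.1
  obtain ⟨s, hs⟩ := exists_feedback hKune hf hfd
  set A := X + vecMulVec u s with hA
  set Y : Matrix (Fin (g₁.natDegree + 1)) (Fin (g₁.natDegree + 1)) F := vecMulVec (Pi.single 0 1) s with hY
  have hAmul : A = X * (1 + Y) := by
    rw [hA, hY, Matrix.mul_add, Matrix.mul_one, Matrix.mul_vecMulVec, hu]
    rfl
  have hAdet : A.det = X.det := by
    have e1 : A.det = (-1) ^ (g₁.natDegree + 1) * f.coeff 0 := by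
      rw [Matrix.det_eq_sign_charpoly_coeff, hs, Fintype.card_fin]
    have e2 : B.det * ((-1) ^ g₁.natDegree * g₁.coeff 0) = 1 := by
      rw [det_comp hg] at hwd; exact hwd
    rw [e1, hX, det_mul, det_full, hc]
    calc _ = (-1) ^ (g₁.natDegree + 1) * f.coeff 0 * (d * d⁻¹) * (B.det * ((-1) ^ g₁.natDegree * g₁.coeff 0)) := by
          rw [mul_inv_cancel₀ hd, e2, mul_one, mul_one]
      _ = _ := by ring
  have hs0 : s 0 = 0 := by
    rw [hAmul, det_mul, hY, Matrix.vecMulVec_eq Unit, Matrix.det_one_add_replicateCol_mul_replicateRow] at hAdet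
    have := mul_left_cancel₀ (hXdet ▸ hX1d) (hAdet.trans (mul_one _).symm)
    simpa using this
  have hYY : Y * Y = 0 := by
    rw [hY, Matrix.vecMulVec_mul_vecMulVec]
    simp [hs0]
  refine ⟨A, (1 - Y) * full d B⁻¹, u, ?_, hs, ?_, fun h2 => ?_, ?_⟩
  · rw [hAmul, hX]
    calc M = M * full d⁻¹ B * ((1 + Y) * (1 - Y)) * full d B⁻¹ := by
          rw [show (1 + Y) * (1 - Y) = 1 by
            rw [Matrix.add_mul, Matrix.mul_sub, Matrix.mul_sub, Matrix.mul_one, Matrix.one_mul, Matrix.mul_one, hYY]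
            abel, Matrix.mul_one, Matrix.mul_assoc, full_mul, inv_mul_cancel₀ hd, mul_nonsing_inv _ hBu, full_one,
            Matrix.mul_one]
      _ = _ := by simp only [Matrix.mul_assoc]
  · rw [hA, kry_feedback]; exact hKune
  · rw [hA, kry_feedback, hKu, hKX.2 h2, hXdet, ht]
    field_simp
  · set C := B⁻¹ with hCdef
    have hCd : (C - d • 1).det ≠ 0 := by
      have := Matrix.eval_charpoly C d
      rw [hw.charpoly_eq, Matrix.scalar_apply, ← Matrix.smul_one_eq_diagonal] at this
      rw [← neg_sub, det_neg]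
      refine mul_ne_zero (pow_ne_zero _ (neg_ne_zero.2 one_ne_zero)) ?_
      rw [← this]; exact hroot
    have e : (1 - Y) * full d C = full d C + vecMulVec (Pi.single 0 1) (-(s ᵥ* full d C)) := by
      rw [Matrix.sub_mul, Matrix.one_mul, hY, Matrix.vecMulVec_mul, Matrix.vecMulVec_neg, ← sub_eq_add_neg]
    rw [e]
    refine Cyc.of_sim (sim_shear hCd ?_) (cyc_full hw hroot)
    simp [Matrix.vecMul, dotProduct, Fin.sum_univ_succ, hs0, full_succ_zero]

end Core

section TwoClass

variable [Fintype F] {n : ℕ}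

/-- Two cyclic classes, the second with a simple eigenvalue, cover every non-scalar matrix. -/
theorem two_class (hn : 2 ≤ n) {M A₀ S₀ : Matrix (Fin n) (Fin n) F} (hns : ∀ c : F, M ≠ c • 1) {f g : F[X]}
    (hA : Cyc f A₀) (hS : Cyc g S₀) (hg : SimpleRoot g) (hdet : M.det = A₀.det * S₀.det) (hM : M.det ≠ 0)
    {δ₁ δ₂ : F} (h₁ : δ₁ ≠ 0) (h₂ : δ₂ ≠ 0) :
    ∃ (y z : Matrix (Fin n) (Fin n) F) (ε : F), ConjD ε A₀ y ∧ ConjD δ₂ S₀ z ∧ M = y * z ∧ (3 ≤ n → ε = δ₁) := by
  obtain ⟨m, rfl⟩ : ∃ m, n = m + 1 := ⟨n - 1, by omega⟩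
  obtain ⟨M', E, ⟨η, hη⟩, hNF⟩ := exists_nf hM hns
  have hflex := flex_of_simpleRoot hS hg
  obtain ⟨d, g₁, hg1, hgd, rfl⟩ := hg
  have hA0 : A₀.det ≠ 0 := fun h => hM (by rw [hdet, h, zero_mul])
  have hS0 : S₀.det ≠ 0 := fun h => hM (by rw [hdet, h, mul_zero])
  have hfm := hA.1
  have hfdeg : f.natDegree = m + 1 := by rw [hA.2.1, Fintype.card_fin]
  have hgdeg : g₁.natDegree = m := by
    have h1 := hS.2.1
    rw [Fintype.card_fin, (monic_X_sub_C d).natDegree_mul hg1, natDegree_X_sub_C] at h1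
    omega
  have h00 : ((X - Polynomial.C d) * g₁).coeff 0 = -d * g₁.coeff 0 := by
    rw [mul_coeff_zero]; simp
  have hg0 := cyc_coeff_zero_ne hS hS0
  rw [h00] at hg0
  obtain ⟨w, hw⟩ := hA.2.2
  set K0 := (kry A₀ w).det with hK0
  have hK0ne : K0 ≠ 0 := kry_det_ne hfm hfdeg hw
  have hc : M'.det = (-1) ^ (m + 1) * f.coeff 0 * (d * ((-1) ^ m * g₁.coeff 0)) := by
    rw [hη.det_eq, hdet, cyc_det_eq hA, cyc_det_eq hS, Fintype.card_fin, h00]
    ring
  obtain ⟨A, S, v, hMAS, hAf, hK, hKμ, hSc⟩ := core (by omega : 1 ≤ m) hNF (by rw [hη.det_eq]; exact hM) hg1 hgdeg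
    hgd (fun h => by rw [h] at hg0; simp at hg0) (fun h => by rw [h] at hg0; simp at hg0) hfm hfdeg hc
    (μ := δ₁ * η * K0) (mul_ne_zero (mul_ne_zero h₁ hη.ne_zero) hK0ne)
  have hAcyc := (cyc_of_kry hK).2
  rw [hAf] at hAcyc
  have hcA := conjD_kry hfm hfdeg hw hAcyc
  obtain ⟨τ, hcS⟩ := exists_conjD_of_sim (hSc.sim hS)
  obtain ⟨U, V, hUV, hUd, hM'⟩ := hη
  have hVU := mul_eq_one_comm.1 hUV
  have hconj : ∀ W : Matrix (Fin (m + 1)) (Fin (m + 1)) F, ConjD η⁻¹ W (V * W * U) := fun W => by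
    refine ⟨V, U, hVU, eq_inv_of_mul_eq_one_left ?_, rfl⟩
    rw [← hUd, ← det_mul, hVU, det_one]
  refine ⟨V * A * U, V * S * U, _, hcA.trans (hconj A), hflex.conjD (hcS.trans (hconj S)) h₂, ?_, fun h3 => ?_⟩
  · calc M = (V * U) * M * (V * U) := by rw [hVU, Matrix.one_mul, Matrix.mul_one]
      _ = V * M' * U := by rw [hM']; simp only [Matrix.mul_assoc]
      _ = V * A * (U * V) * S * U := by rw [hUV, Matrix.mul_one, hMAS]; simp only [Matrix.mul_assoc]
      _ = _ := by simp only [Matrix.mul_assoc]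
  · rw [hKμ (by omega), ← hK0]
    have hη0 : η ≠ 0 := by rw [← hUd]; exact det_ne_zero_of_right_inverse hUV
    field_simp

/-- Every class with a simple eigenvalue lies in the product of a cyclic class and the class of `x`. -/
theorem simple_root_mem (hn : 2 ≤ n) {x A₀ S₀ : Matrix (Fin n) (Fin n) F} (hx : ∀ c : F, x ≠ c • 1)
    (hxd : x.det ≠ 0) {f g : F[X]} (hA : Cyc f A₀) (hS : Cyc g S₀) (hg : SimpleRoot g) {l : List F}
    (hl : Pr x l A₀) (hdet : S₀.det = x.det ^ (l.length + 1)) {α β : F} (hα : α ≠ 0) (hβ : β ≠ 0) :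
    ∃ γ : F, Pr x (l.map (γ * ·) ++ [β]) S₀ ∧ (3 ≤ n → γ = α) := by
  have hA0 : A₀.det ≠ 0 := by rw [hl.det_eq]; exact pow_ne_zero _ hxd
  set A' := A₀⁻¹ with hA'
  have hu : IsUnit A₀.det := isUnit_iff_ne_zero.2 hA0
  have hAA : A₀ * A' = 1 := mul_nonsing_inv _ hu
  have hA'c := cyc_inv hA hAA
  have hdet' : x.det = A'.det * S₀.det := by
    rw [hA', det_nonsing_inv, Ring.inverse_eq_inv', hdet, hl.det_eq, pow_succ]
    field_simp
  obtain ⟨y, z, ε, hy, hz, hxyz, hε⟩ := two_class hn hx hA'c hS hg hdet' hxd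
    (δ₁ := α * β⁻¹) (δ₂ := β⁻¹) (mul_ne_zero hα (inv_ne_zero hβ)) (inv_ne_zero hβ)
  obtain ⟨U, V, hUV, hUd, rfl⟩ := hy
  obtain ⟨P, Q, hPQ, hPd, hzS⟩ := hz
  have hQP := mul_eq_one_comm.1 hPQ
  have hVU := mul_eq_one_comm.1 hUV
  have hQd : Q.det = β := by
    have := congrArg Matrix.det hQP
    rw [det_mul, hPd, det_one] at this
    field_simp at this
    linear_combination this
  refine ⟨(Q * U).det, ?_, fun h3 => ?_⟩
  · have hz' : z = U * A₀ * V * x := by
      rw [hxyz]
      calc z = U * (A₀ * A') * (V * z) := by rw [hAA, Matrix.mul_one, ← Matrix.mul_assoc, hUV, Matrix.one_mul]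
        _ = U * A₀ * (V * U) * A' * V * z := by rw [hVU, Matrix.mul_one]; simp only [Matrix.mul_assoc]
        _ = _ := by simp only [Matrix.mul_assoc]
    have hS' : S₀ = (Q * U) * A₀ * (V * P) * (Q * x * P) := by
      calc S₀ = Q * P * S₀ * (Q * P) := by rw [hQP, Matrix.one_mul, Matrix.mul_one]
        _ = Q * z * P := by rw [hzS]; simp only [Matrix.mul_assoc]
        _ = Q * U * A₀ * V * (P * Q) * x * P := by rw [hPQ, Matrix.mul_one, hz']; simp only [Matrix.mul_assoc]
        _ = _ := by simp only [Matrix.mul_assoc]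
    rw [hS']
    refine Pr.append (hl.conj ?_) (pr_singleton ⟨Q, P, hQP, hQd, rfl⟩)
    rw [Matrix.mul_assoc, ← Matrix.mul_assoc U, hUV, Matrix.one_mul, hQP]
  · rw [det_mul, hQd, hUd, hε h3]
    field_simp

end TwoClass

end CfsgLib.GLClass.Cover
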