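import Mathlib
import Cfsg.Agent.Lib.GLClass.Cover.Basic

/-!
Polynomials over a finite field with at least four elements: rootless ones with prescribed constant
term, and coprime pairs with simple roots.
-/

set_option autoImplicit false

namespace CfsgLib.GLClass.Cover

open Polynomial

variable {F : Type*} [Field F]

/-- The monic polynomial of degree `j + 1` with constant term `c` and the other coefficients `v`. -/
noncomputable def mkPoly (j : ℕ) (c : F) (v : Fin j → F) : F[X] :=
  Polynomial.X * (Polynomial.X ^ j + ∑ i : Fin j, Polynomial.C (v i) * Polynomial.X ^ (i : ℕ)) + Polynomial.C c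

theorem mkPoly_spec (j : ℕ) (c : F) (v : Fin j → F) :
    (mkPoly j c v).Monic ∧ (mkPoly j c v).natDegree = j + 1 ∧ (mkPoly j c v).coeff 0 = c := by
  set q := Polynomial.X ^ j + ∑ i : Fin j, Polynomial.C (v i) * Polynomial.X ^ (i : ℕ) with hq
  have hqm : q.Monic := monic_X_pow_add (degree_sum_fin_lt v)
  have hqd : q.natDegree = j := by
    refine natDegree_eq_of_degree_eq_some ?_
    rw [hq, degree_add_eq_left_of_degree_lt (by rw [degree_X_pow]; exact degree_sum_fin_lt v), degree_X_pow]
  have hXq : (Polynomial.X * q).Monic := monic_X.mul hqm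
  have hd : (Polynomial.X * q).natDegree = j + 1 := by
    rw [monic_X.natDegree_mul hqm, natDegree_X, hqd, Nat.add_comm]
  refine ⟨hXq.add_of_left ?_, ?_, by simp [mkPoly]⟩
  · refine lt_of_le_of_lt degree_C_le ?_
    rw [degree_eq_natDegree hXq.ne_zero, hd]
    exact_mod_cast Nat.succ_pos j
  · rw [mkPoly, natDegree_add_C, hd]

theorem exists_mkPoly {j : ℕ} {h : F[X]} (hm : h.Monic) (hd : h.natDegree = j + 1) :
    ∃ v, mkPoly j (h.coeff 0) v = h := by
  have hdd : h.divX.natDegree = j := by rw [natDegree_divX_eq_natDegree_tsub_one, hd]; rfl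
  have hmd : h.divX.Monic := by
    rw [Monic, leadingCoeff, hdd, coeff_divX, ← hd]; exact hm.coeff_natDegree
  refine ⟨fun i => h.divX.coeff i, ?_⟩
  conv_rhs => rw [← X_mul_divX_add h, hmd.as_sum, hdd, Finset.sum_range]
  rfl

variable [Fintype F]

/-- Two distinct non-zero elements with prescribed product. -/
theorem exists_pair (h4 : 4 ≤ Fintype.card F) {c : F} (hc : c ≠ 0) : ∃ d : F, d ≠ 0 ∧ d ≠ c / d := by
  classical
  by_contra hcon
  push Not at hcon
  have hsub : Finset.univ.erase (0 : F) ⊆ (Polynomial.X ^ 2 - Polynomial.C c).roots.toFinset := by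
    intro d hd
    have hd0 := Finset.ne_of_mem_erase hd
    have h := hcon d hd0
    rw [Multiset.mem_toFinset, mem_roots (X_pow_sub_C_ne_zero (by norm_num) c), IsRoot.def, eval_sub, eval_pow,
      eval_X, eval_C, sub_eq_zero]
    field_simp at h
    linear_combination h
  have h1 := (Finset.card_le_card hsub).trans ((Multiset.toFinset_card_le _).trans (card_roots' _))
  rw [Finset.card_erase_of_mem (Finset.mem_univ _), Finset.card_univ, natDegree_X_pow_sub_C] at h1
  omega

/-- A monic polynomial with prescribed constant term and no roots, not divisible by a given rootless quadratic. -/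
theorem exists_rootless (h4 : 4 ≤ Fintype.card F) {j : ℕ} (hj : 1 ≤ j) {c : F} (hc : c ≠ 0) {g : F[X]}
    (hg : g.Monic) (hgd : g.natDegree = 2) :
    ∃ h : F[X], h.Monic ∧ h.natDegree = j + 1 ∧ h.coeff 0 = c ∧ (∀ r, h.eval r ≠ 0) ∧ ¬ g ∣ h := by
  classical
  let all : Finset F[X] := Finset.univ.image (mkPoly j c)
  have hall : all.card = Fintype.card F ^ j := by
    rw [Finset.card_image_of_injective, Finset.card_univ, Fintype.card_fun, Fintype.card_fin]
    intro v w hvw
    funext i
    have := congrArg (fun p : F[X] => p.coeff ((i : ℕ) + 1)) hvw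
    have hi : (i : ℕ) ≠ j := i.isLt.ne
    simpa [mkPoly, coeff_X_mul, coeff_C_succ, hi, finset_sum_coeff, coeff_C_mul, coeff_X_pow, Fin.val_inj] using this
  have hq : 1 ≤ Fintype.card F := by omega
  suffices hbad : ∃ bad : Finset F[X], bad.card < all.card ∧
      (∀ h : F[X], h.Monic → h.natDegree = j + 1 → h.coeff 0 = c → (∃ r, h.eval r = 0) → h ∈ bad) ∧
      (∀ h : F[X], h.Monic → h.natDegree = j + 1 → h.coeff 0 = c → g ∣ h → h ∈ bad) by
    obtain ⟨bad, hcard, hb1, hb2⟩ := hbad
    obtain ⟨h, hh, hnb⟩ : ∃ h ∈ all, h ∉ bad := by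
      by_contra hcon
      push Not at hcon
      exact absurd (Finset.card_le_card hcon) (not_le.2 hcard)
    obtain ⟨v, -, rfl⟩ := Finset.mem_image.1 hh
    obtain ⟨h1, h2, h3⟩ := mkPoly_spec j c v
    exact ⟨_, h1, h2, h3, fun r hr => hnb (hb1 _ h1 h2 h3 ⟨r, hr⟩), fun hd => hnb (hb2 _ h1 h2 h3 hd)⟩
  rcases Nat.lt_or_ge j 2 with hj2 | hj2
  · -- quadratics
    obtain rfl : j = 1 := by omega
    obtain ⟨d₀, hd₀, hne⟩ := exists_pair h4 hc
    let P : F → F[X] := fun d => (Polynomial.X - Polynomial.C d) * (Polynomial.X - Polynomial.C (c / d))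
    have hP : P d₀ = P (c / d₀) := by
      simp only [P]
      rw [mul_comm]
      congr 3
      field_simp
    refine ⟨insert g (((Finset.univ.erase 0).erase d₀).image P), ?_, fun h hm hd h0 ⟨r, hr⟩ => ?_,
      fun h hm hd _ hdiv => ?_⟩
    · rw [hall, pow_one]
      refine lt_of_le_of_lt ((Finset.card_insert_le _ _).trans (Nat.succ_le_succ Finset.card_image_le)) ?_
      rw [Finset.card_erase_of_mem (Finset.mem_erase.2 ⟨hd₀, Finset.mem_univ _⟩),
        Finset.card_erase_of_mem (Finset.mem_univ _), Finset.card_univ]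
      omega
    · have hr0 : r ≠ 0 := by
        rintro rfl
        rw [← coeff_zero_eq_eval_zero] at hr
        exact hc (h0 ▸ hr)
      obtain ⟨q, rfl⟩ := dvd_iff_isRoot.2 (show h.IsRoot r from hr)
      have hqm : q.Monic := (monic_X_sub_C r).of_mul_monic_left hm
      have hqd : q.natDegree = 1 := by
        rw [(monic_X_sub_C r).natDegree_mul hqm, natDegree_X_sub_C] at hd; omega
      have hq1 : q = Polynomial.X - Polynomial.C (c / r) := by
        rw [hqm.eq_X_add_C hqd]
        rw [mul_coeff_zero, coeff_sub, coeff_X_zero, coeff_C_zero, zero_sub] at h0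
        rw [sub_eq_add_neg, ← map_neg]
        congr 2
        field_simp
        linear_combination -h0
      refine Finset.mem_insert_of_mem (Finset.mem_image.2 ?_)
      by_cases hrd : r = d₀
      · subst hrd
        exact ⟨c / r, Finset.mem_erase.2 ⟨fun e => hne e.symm,
          Finset.mem_erase.2 ⟨div_ne_zero hc hr0, Finset.mem_univ _⟩⟩, by rw [← hP, hq1]⟩
      · exact ⟨r, Finset.mem_erase.2 ⟨hrd, Finset.mem_erase.2 ⟨hr0, Finset.mem_univ _⟩⟩, by rw [hq1]⟩
    · obtain ⟨q, rfl⟩ := hdiv
      have hqm := hg.of_mul_monic_left hm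
      rw [hg.natDegree_mul hqm, hgd] at hd
      rw [eq_one_of_monic_natDegree_zero hqm (by omega), mul_one]
      exact Finset.mem_insert_self _ _
  · -- higher degree
    obtain ⟨i, rfl⟩ : ∃ i, j = i + 2 := ⟨j - 2, by omega⟩
    let lin : F → Finset F[X] := fun d => Finset.univ.image fun w : Fin (i + 1) → F =>
      (Polynomial.X - Polynomial.C d) * mkPoly (i + 1) (-(c / d)) w
    refine ⟨(Finset.univ.erase (0 : F)).biUnion lin ∪
      Finset.univ.image (fun w : Fin i → F => g * mkPoly i (c / g.coeff 0) w), ?_,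
      fun h hm hd h0 ⟨r, hr⟩ => ?_, fun h hm hd h0 hdiv => ?_⟩
    · rw [hall]
      refine lt_of_le_of_lt (Finset.card_union_le _ _) ?_
      have e1 : ((Finset.univ.erase (0 : F)).biUnion lin).card ≤ (Fintype.card F - 1) * Fintype.card F ^ (i + 1) := by
        refine (Finset.card_biUnion_le_card_mul _ _ (Fintype.card F ^ (i + 1)) fun d _ => ?_).trans ?_
        · exact Finset.card_image_le.trans (by simp)
        · rw [Finset.card_erase_of_mem (Finset.mem_univ _), Finset.card_univ]
      have e2 : (Finset.univ.image fun w : Fin i → F => g * mkPoly i (c / g.coeff 0) w).card ≤ Fintype.card F ^ i :=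
        Finset.card_image_le.trans (by simp)
      refine lt_of_le_of_lt (add_le_add e1 e2) ?_
      obtain ⟨q, hq'⟩ : ∃ q, Fintype.card F = q + 1 := ⟨Fintype.card F - 1, by omega⟩
      rw [hq', Nat.add_sub_cancel, pow_succ _ (i + 1), pow_succ _ i]
      have hpos : 0 < (q + 1) ^ i := pow_pos (Nat.succ_pos q) i
      nlinarith
    · have hr0 : r ≠ 0 := by
        rintro rfl
        rw [← coeff_zero_eq_eval_zero] at hr
        exact hc (h0 ▸ hr)
      obtain ⟨q, rfl⟩ := dvd_iff_isRoot.2 (show h.IsRoot r from hr)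
      have hqm : q.Monic := (monic_X_sub_C r).of_mul_monic_left hm
      have hqd : q.natDegree = i + 1 + 1 := by
        rw [(monic_X_sub_C r).natDegree_mul hqm, natDegree_X_sub_C] at hd; omega
      have hq0 : q.coeff 0 = -(c / r) := by
        rw [mul_coeff_zero, coeff_sub, coeff_X_zero, coeff_C_zero, zero_sub] at h0
        field_simp
        linear_combination -h0
      obtain ⟨w, hw⟩ := exists_mkPoly hqm hqd
      exact Finset.mem_union_left _ (Finset.mem_biUnion.2 ⟨r, Finset.mem_erase.2 ⟨hr0, Finset.mem_univ _⟩,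
        Finset.mem_image.2 ⟨w, Finset.mem_univ _, by rw [← hq0, hw]⟩⟩)
    · obtain ⟨q, rfl⟩ := hdiv
      have hqm := hg.of_mul_monic_left hm
      have hqd : q.natDegree = i + 1 := by rw [hg.natDegree_mul hqm, hgd] at hd; omega
      rw [mul_coeff_zero] at h0
      have hg0 : g.coeff 0 ≠ 0 := fun e => hc (by rw [← h0, e, zero_mul])
      obtain ⟨w, hw⟩ := exists_mkPoly hqm hqd
      refine Finset.mem_union_right _ (Finset.mem_image.2 ⟨w, Finset.mem_univ _, ?_⟩)
      rw [show c / g.coeff 0 = q.coeff 0 by rw [div_eq_iff hg0, ← h0, mul_comm], hw]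

/-- A monic polynomial with prescribed degree and constant term and no roots. -/
theorem exists_rootless' (h4 : 4 ≤ Fintype.card F) {m : ℕ} (hm : 2 ≤ m) {c : F} (hc : c ≠ 0) :
    ∃ h : F[X], h.Monic ∧ h.natDegree = m ∧ h.coeff 0 = c ∧ ∀ r, h.eval r ≠ 0 := by
  obtain ⟨h, h1, h2, h3, hh, -⟩ := exists_rootless h4 (j := m - 1) (by omega) hc (g := Polynomial.X ^ 2)
    (monic_X_pow 2) (natDegree_X_pow 2)
  exact ⟨h, h1, by omega, h3, hh⟩

theorem coprime_lin {g : F[X]} {d : F} (h : g.eval d ≠ 0) : IsCoprime (Polynomial.X - Polynomial.C d) g :=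
  ((irreducible_X_sub_C d).coprime_iff_not_dvd).2 fun h' => h (dvd_iff_isRoot.1 h')

theorem coeff_zero_lin (d : F) : (Polynomial.X - Polynomial.C d).coeff 0 = -d := by simp

/-- Three distinct non-zero elements, two of them with prescribed product. -/
theorem exists_triple (h4 : 4 ≤ Fintype.card F) {c : F} (hc : c ≠ 0) :
    ∃ a b d : F, a * b = c ∧ a ≠ b ∧ d ≠ 0 ∧ d ≠ a ∧ d ≠ b := by
  classical
  obtain ⟨a, ha, hab⟩ := exists_pair h4 hc
  obtain ⟨d, -, hd⟩ := Finset.exists_mem_notMem_of_card_lt_card (s := ({0, a, c / a} : Finset F)) (t := Finset.univ)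
    (lt_of_le_of_lt Finset.card_le_three (by rw [Finset.card_univ]; omega))
  simp only [Finset.mem_insert, Finset.mem_singleton, not_or] at hd
  exact ⟨a, c / a, d, mul_div_cancel₀ c ha, hab, hd.1, hd.2.1, hd.2.2⟩

/-- Coprime polynomials with simple roots, prescribed degrees and constant terms. -/
theorem exists_coprime_pair (h4 : 4 ≤ Fintype.card F) {n₁ n₂ : ℕ} (h1 : 3 ≤ n₁) (h2 : 2 ≤ n₂) {c₁ c₂ : F}
    (hc₁ : c₁ ≠ 0) (hc₂ : c₂ ≠ 0) :
    ∃ R₁ R₂ : F[X], R₁.Monic ∧ R₁.natDegree = n₁ ∧ R₁.coeff 0 = c₁ ∧ SimpleRoot R₁ ∧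
      R₂.Monic ∧ R₂.natDegree = n₂ ∧ R₂.coeff 0 = c₂ ∧ SimpleRoot R₂ ∧ IsCoprime R₁ R₂ := by
  rcases Nat.lt_or_ge n₂ 3 with h | h
  · obtain rfl : n₂ = 2 := by omega
    obtain ⟨a, b, d, hab, hne, hd0, hda, hdb⟩ := exists_triple h4 hc₂
    obtain ⟨g, hgm, hgd, hg0, hg⟩ := exists_rootless' h4 (show 2 ≤ n₁ - 1 by omega)
      (c := -(c₁ / d)) (neg_ne_zero.2 (div_ne_zero hc₁ hd0))
    refine ⟨(Polynomial.X - Polynomial.C d) * g, (Polynomial.X - Polynomial.C a) * (Polynomial.X - Polynomial.C b),
      (monic_X_sub_C d).mul hgm, ?_, ?_, ⟨d, g, hgm, hg d, rfl⟩, (monic_X_sub_C a).mul (monic_X_sub_C b), ?_, ?_,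
      ⟨a, _, monic_X_sub_C b, by simp [sub_eq_zero, hne], rfl⟩, ?_⟩
    · rw [(monic_X_sub_C d).natDegree_mul hgm, natDegree_X_sub_C, hgd]; omega
    · rw [mul_coeff_zero, coeff_zero_lin, hg0]; field_simp
    · rw [(monic_X_sub_C a).natDegree_mul (monic_X_sub_C b), natDegree_X_sub_C, natDegree_X_sub_C]
    · rw [mul_coeff_zero, coeff_zero_lin, coeff_zero_lin, neg_mul_neg, hab]
    · refine IsCoprime.mul_left (IsCoprime.mul_right (coprime_lin ?_) (coprime_lin ?_))
        (IsCoprime.mul_right (coprime_lin (hg a)).symm (coprime_lin (hg b)).symm)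
      · simp [sub_eq_zero, hda]
      · simp [sub_eq_zero, hdb]
  · obtain ⟨a, b, d, hab, hne, hd0, hda, hdb⟩ := exists_triple h4 (one_ne_zero (α := F))
    have ha : a ≠ 0 := left_ne_zero_of_mul_eq_one hab
    have hb : b ≠ 0 := right_ne_zero_of_mul_eq_one hab
    obtain ⟨g, hgm, hgd, hg0, hg⟩ := exists_rootless' h4 (m := 2) le_rfl
      (c := c₂ / (-a * (-b) ^ (n₂ - 3))) (div_ne_zero hc₂ (mul_ne_zero (neg_ne_zero.2 ha) (pow_ne_zero _ (neg_ne_zero.2 hb))))
    obtain ⟨h₁, hm₁, hd₁, h₁0, h₁r, h₁g⟩ := exists_rootless h4 (j := n₁ - 2) (by omega) (c := -(c₁ / d))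
      (neg_ne_zero.2 (div_ne_zero hc₁ hd0)) hgm hgd
    have hgi : Irreducible g := by
      refine (hgm.irreducible_iff_roots_eq_zero_of_degree_le_three (by omega) (by omega)).2 ?_
      exact Multiset.eq_zero_of_forall_notMem fun r hr => hg r ((mem_roots hgm.ne_zero).1 hr)
    have hpm : ((Polynomial.X - Polynomial.C b) ^ (n₂ - 3) * g).Monic := ((monic_X_sub_C b).pow _).mul hgm
    refine ⟨(Polynomial.X - Polynomial.C d) * h₁,
      (Polynomial.X - Polynomial.C a) * ((Polynomial.X - Polynomial.C b) ^ (n₂ - 3) * g),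
      (monic_X_sub_C d).mul hm₁, ?_, ?_, ⟨d, h₁, hm₁, h₁r d, rfl⟩, (monic_X_sub_C a).mul hpm, ?_, ?_,
      ⟨a, _, hpm, by simp [sub_eq_zero, hne, hg a], rfl⟩, ?_⟩
    · rw [(monic_X_sub_C d).natDegree_mul hm₁, natDegree_X_sub_C, hd₁]; omega
    · rw [mul_coeff_zero, coeff_zero_lin, h₁0]; field_simp
    · rw [(monic_X_sub_C a).natDegree_mul hpm, ((monic_X_sub_C b).pow _).natDegree_mul hgm,
        (monic_X_sub_C b).natDegree_pow, natDegree_X_sub_C, natDegree_X_sub_C, hgd]
      omega
    · rw [mul_coeff_zero, mul_coeff_zero, coeff_zero_lin, hg0, coeff_zero_eq_eval_zero, eval_pow, eval_sub, eval_X,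
        eval_C, zero_sub, ← mul_assoc]
      rw [mul_div_cancel₀ _ (mul_ne_zero (neg_ne_zero.2 ha) (pow_ne_zero _ (neg_ne_zero.2 hb)))]
    · refine IsCoprime.mul_left
        (IsCoprime.mul_right (coprime_lin ?_) (IsCoprime.mul_right (coprime_lin ?_).pow_right (coprime_lin (hg d))))
        (IsCoprime.mul_right (coprime_lin (h₁r a)).symm (IsCoprime.mul_right (coprime_lin (h₁r b)).symm.pow_right
          ((hgi.coprime_iff_not_dvd).2 h₁g).symm))
      · simp [sub_eq_zero, hda]
      · simp [sub_eq_zero, hdb]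

/-- Over a field of odd order every non-zero translate of the non-zero squares contains a non-square. -/
theorem exists_nonsquare_shift (h2 : (2 : F) ≠ 0) (h4 : 4 ≤ Fintype.card F) {k : F} (hk : k ≠ 0) :
    ∃ a : F, a ≠ 0 ∧ ¬ IsSquare (a ^ 2 + k) := by
  classical
  by_contra hcon
  push Not at hcon
  set T : Finset F := Finset.univ.filter fun x => IsSquare x with hT
  set T' := T.erase 0 with hT'
  have h0T : (0 : F) ∈ T := by simp [hT]
  -- twice the number of squares
  have hcard : ((2 * T.card : ℕ) : F) = 1 := by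
    have hmaps : ∀ x ∈ (Finset.univ : Finset F), x ^ 2 ∈ T := fun x _ => by simp [hT, sq]
    have hsum := Finset.card_eq_sum_card_fiberwise hmaps
    have hfib : ∀ y ∈ T', (Finset.univ.filter fun x : F => x ^ 2 = y).card = 2 := by
      intro y hy
      obtain ⟨hy0, hyT⟩ := Finset.mem_erase.1 hy
      obtain ⟨r, hr⟩ := (Finset.mem_filter.1 hyT).2
      have hr0 : r ≠ 0 := fun h => hy0 (by rw [hr, h, mul_zero])
      rw [show (Finset.univ.filter fun x : F => x ^ 2 = y) = {r, -r} by
        ext x
        simp only [Finset.mem_filter, Finset.mem_univ, true_and, Finset.mem_insert, Finset.mem_singleton]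
        rw [hr, ← sq, sq_eq_sq_iff_eq_or_eq_neg]]
      refine Finset.card_pair fun h => hr0 ?_
      have : (2 : F) * r = 0 := by linear_combination h
      exact (mul_eq_zero.1 this).resolve_left h2
    have hzero : (Finset.univ.filter fun x : F => x ^ 2 = 0).card = 1 := by
      rw [show (Finset.univ.filter fun x : F => x ^ 2 = 0) = {0} by ext x; simp]
      simp
    rw [← Finset.add_sum_erase _ _ h0T, hzero, ← hT', Finset.sum_congr rfl hfib, Finset.sum_const, smul_eq_mul,
      Finset.card_univ] at hsum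
    have hT1 : T.card = T'.card + 1 := by rw [hT', Finset.card_erase_add_one h0T]
    have hq := Nat.cast_card_eq_zero F
    rw [hsum] at hq
    rw [hT1]
    push_cast at hq ⊢
    linear_combination hq
  have hT'card : ((2 * T'.card : ℕ) : F) = -1 := by
    have hT1 : T.card = T'.card + 1 := by rw [hT', Finset.card_erase_add_one h0T]
    rw [hT1] at hcard
    push_cast at hcard ⊢
    linear_combination hcard
  have hTsum : ∑ x ∈ T, x = 0 := by
    obtain ⟨r, -, hr⟩ := Finset.exists_mem_notMem_of_card_lt_card (s := ({0, 1, -1} : Finset F)) (t := Finset.univ)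
      (lt_of_le_of_lt Finset.card_le_three (by rw [Finset.card_univ]; omega))
    simp only [Finset.mem_insert, Finset.mem_singleton, not_or] at hr
    have hw : r ^ 2 ≠ 0 := pow_ne_zero _ hr.1
    have himg : T.image (r ^ 2 * ·) = T := by
      refine Finset.eq_of_subset_of_card_le (fun y hy => ?_)
        (by rw [Finset.card_image_of_injective _ (mul_right_injective₀ hw)])
      obtain ⟨x, hx, rfl⟩ := Finset.mem_image.1 hy
      obtain ⟨z, hz⟩ := (Finset.mem_filter.1 hx).2
      exact Finset.mem_filter.2 ⟨Finset.mem_univ _, r * z, by rw [hz]; ring⟩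
    have h1 : ∑ x ∈ T.image (r ^ 2 * ·), x = ∑ x ∈ T, x := by rw [himg]
    rw [Finset.sum_image (fun a _ b _ h => mul_right_injective₀ hw h), ← Finset.mul_sum] at h1
    by_contra hne
    rcases sq_eq_one_iff.1 ((mul_eq_right₀ hne).1 h1) with h | h
    · exact hr.2.1 h
    · exact hr.2.2 h
  by_cases hks : IsSquare k
  · -- the squares would be invariant under translation
    have hsub : T.image (· + k) ⊆ T := by
      intro y hy
      obtain ⟨x, hx, rfl⟩ := Finset.mem_image.1 hy
      obtain ⟨r, hr⟩ := (Finset.mem_filter.1 hx).2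
      refine Finset.mem_filter.2 ⟨Finset.mem_univ _, ?_⟩
      rw [hr]
      by_cases hr0 : r = 0
      · rw [hr0, mul_zero, zero_add]; exact hks
      · rw [← sq]; exact hcon r hr0
    have heq := Finset.eq_of_subset_of_card_le hsub
      (by rw [Finset.card_image_of_injective _ (add_left_injective k)])
    have h1 : ∑ x ∈ T.image (· + k), x = ∑ x ∈ T, x := by rw [heq]
    rw [Finset.sum_image (fun a _ b _ h => add_left_injective k h), Finset.sum_add_distrib, Finset.sum_const,
      nsmul_eq_mul, add_eq_left] at h1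
    rcases mul_eq_zero.1 h1 with h | h
    · push_cast at hcard
      rw [h, mul_zero] at hcard
      exact zero_ne_one hcard
    · exact hk h
  · -- two translations missing one square each
    have key : ∀ (S : Finset F) (t : F), S.card = T'.card → ∑ x ∈ S, x = 0 → S.image (· + t) ⊆ T → IsSquare (t / 2) := by
      intro S t hS hsum hsub
      have hc : (S.image (· + t)).card = T'.card := by
        rw [Finset.card_image_of_injective _ (add_left_injective t), hS]
      obtain ⟨e, he⟩ : ∃ e, T \ S.image (· + t) = {e} := by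
        rw [← Finset.card_eq_one, Finset.card_sdiff_of_subset hsub, hc, hT', Finset.card_erase_of_mem h0T]
        have := Finset.card_pos.2 ⟨0, h0T⟩
        omega
      have heT : e ∈ T := (Finset.mem_sdiff.1 (he ▸ Finset.mem_singleton_self e)).1
      have h1 := Finset.sum_sdiff (f := fun x : F => x) hsub
      rw [he, Finset.sum_singleton, Finset.sum_image (fun a _ b _ h => add_left_injective t h),
        Finset.sum_add_distrib, hsum, Finset.sum_const, nsmul_eq_mul, hS, zero_add] at h1
      rw [hTsum] at h1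
      have : e = t / 2 := by
        push_cast at hT'card
        field_simp
        linear_combination (2 : F) * h1 - t * hT'card
      rw [← this]
      exact (Finset.mem_filter.1 heT).2
    have hT'sum : ∑ x ∈ T', x = 0 := by
      rw [hT', Finset.sum_erase (f := fun x : F => x) T rfl, hTsum]
    have hk2 : IsSquare (k / 2) := by
      refine key T' k rfl hT'sum fun y hy => ?_
      obtain ⟨x, hx, rfl⟩ := Finset.mem_image.1 hy
      obtain ⟨hx0, hxT⟩ := Finset.mem_erase.1 hx
      obtain ⟨r, hr⟩ := (Finset.mem_filter.1 hxT).2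
      refine Finset.mem_filter.2 ⟨Finset.mem_univ _, ?_⟩
      rw [hr, ← sq]
      exact hcon r fun h => hx0 (by rw [hr, h, mul_zero])
    -- `k` times the non-zero squares is the set of non-squares; scale the inclusion
    have h12 : IsSquare (1 / 2 : F) := by
      refine key (T'.image (k * ·)) 1 (Finset.card_image_of_injective _ (mul_right_injective₀ hk)) ?_ fun y hy => ?_
      · rw [Finset.sum_image (fun a _ b _ h => mul_right_injective₀ hk h), ← Finset.mul_sum, hT'sum, mul_zero]
      · obtain ⟨x, hx, rfl⟩ := Finset.mem_image.1 hy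
        obtain ⟨z, hz, rfl⟩ := Finset.mem_image.1 hx
        obtain ⟨hz0, hzT⟩ := Finset.mem_erase.1 hz
        obtain ⟨r, hr⟩ := (Finset.mem_filter.1 hzT).2
        have hr0 : r ≠ 0 := fun h => hz0 (by rw [hr, h, mul_zero])
        obtain ⟨u, hu⟩ := hcon r⁻¹ (inv_ne_zero hr0)
        refine Finset.mem_filter.2 ⟨Finset.mem_univ _, r * u, ?_⟩
        rw [hr]
        field_simp at hu ⊢
        linear_combination hu
    exact hks (by
      have := hk2.div h12
      rwa [div_div_div_cancel_right₀ h2, div_one] at this)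

end CfsgLib.GLClass.Cover
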