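import Mathlib
import Cfsg.Agent.Lib.GLClass.Cover.TwoClass

/-!
One more factor turns a cyclic matrix on enough coordinates, padded by a scalar, into a cyclic matrix;
if the cyclic piece has a simple eigenvalue other than the scalar, into every cyclic class.
-/

set_option autoImplicit false

namespace CfsgLib.GLClass.Cover

open Polynomial Matrix Module
open CfsgLib.GLClass.CommSL

variable {F : Type*} [Field F] {ι κ σ : Type*} [Fintype ι] [DecidableEq ι] [Fintype κ] [DecidableEq κ]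
  [Fintype σ] [DecidableEq σ]

theorem card_eq_of_sim {g : Matrix ι ι F} {h : Matrix κ κ F} (H : Sim g h) : Fintype.card ι = Fintype.card κ := by
  obtain ⟨U, V, h1, h2, -⟩ := H
  have hE := (LinearEquiv.ofLinear (Matrix.toLin' V) (Matrix.toLin' U)
    (by rw [← Matrix.toLin'_mul, h2, Matrix.toLin'_one])
    (by rw [← Matrix.toLin'_mul, h1, Matrix.toLin'_one])).finrank_eq
  rwa [Module.finrank_pi, Module.finrank_pi] at hE

theorem sim_scalar (c : F) (h : Fintype.card ι = Fintype.card κ) :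
    Sim (c • (1 : Matrix ι ι F)) (c • (1 : Matrix κ κ F)) := by
  have e := Fintype.equivOfCardEq h.symm
  have he : Matrix.reindex e e (c • (1 : Matrix κ κ F)) = c • (1 : Matrix ι ι F) := by
    simp [Matrix.submatrix_smul]
  exact he ▸ sim_reindex e _

theorem sim_smul_blocks (c : F) :
    Sim (fromBlocks (c • (1 : Matrix ι ι F)) 0 0 (c • (1 : Matrix κ κ F))) (c • (1 : Matrix (ι ⊕ κ) (ι ⊕ κ) F)) := by
  rw [← fromBlocks_one, fromBlocks_smul, smul_zero, smul_zero]
  exact Sim.refl _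

theorem gpr_scalar (c : F) : ∀ a, GPr (c • (1 : Matrix ι ι F)) a (c ^ a • 1)
  | 0 => ⟨[], rfl, by rw [pow_zero, one_smul]; rfl⟩
  | a + 1 => by
    obtain ⟨l, hl, h⟩ := gpr_scalar c a
    refine ⟨1 :: l, by rw [List.length_cons, hl], c • 1, _, ConjD.refl _, h, ?_⟩
    rw [Matrix.smul_mul, Matrix.one_mul, smul_smul, pow_succ']

theorem gen_of_sim {x : Matrix ι ι F} {y : Matrix κ κ F} (hs : Sim x y) {t : ℕ} (h : Gen y t) : Gen x t := by
  obtain ⟨U, V, h1, h2, rfl⟩ := hs
  obtain ⟨v, hv⟩ := h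
  refine ⟨fun i => U *ᵥ v i, fun S hS hmem => ?_⟩
  have hT := hv (S.comap U.mulVecLin) (fun z hz => by
    rw [Submodule.mem_comap, Matrix.mulVecLin_apply] at hz ⊢
    have h3 := hS _ hz
    rwa [Matrix.mulVec_mulVec, Matrix.mul_assoc, h2, Matrix.mul_one, ← Matrix.mulVec_mulVec] at h3) hmem
  refine Submodule.eq_top_iff'.2 fun z => ?_
  have : V *ᵥ z ∈ S.comap U.mulVecLin := by rw [hT]; trivial
  rwa [Submodule.mem_comap, Matrix.mulVecLin_apply, Matrix.mulVec_mulVec, h1, Matrix.one_mulVec] at this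

/-- Some product of `a` conjugates of `x` is cyclic. -/
def CycIn (x : Matrix ι ι F) (a : ℕ) : Prop := ∃ (M : Matrix ι ι F) (f : F[X]), Cyc f M ∧ GPr x a M

theorem CycIn.of_sim {x : Matrix ι ι F} {y : Matrix κ κ F} (hs : Sim x y) {a : ℕ} (h : CycIn y a) : CycIn x a := by
  obtain ⟨M, f, hM, hP⟩ := h
  obtain ⟨M', hM', hP'⟩ := hP.of_sim_left hs
  exact ⟨M', f, Cyc.of_sim hM' hM, hP'⟩

section Hess

variable {m k : ℕ}

/-- The block ends seen on a subset of the coordinates. -/
def pull (E : ℕ → Prop) (τ : Fin k → Fin m) (l : ℕ) : Prop := ∃ p : Fin k, (p : ℕ) + 1 = l ∧ E ((τ p : ℕ) + 1)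

theorem pull_succ (E : ℕ → Prop) (τ : Fin k → Fin m) (p : Fin k) : pull E τ ((p : ℕ) + 1) ↔ E ((τ p : ℕ) + 1) := by
  refine ⟨fun ⟨q, hq, h⟩ => ?_, fun h => ⟨p, rfl, h⟩⟩
  rwa [← Fin.ext (Nat.succ_injective hq)]

theorem step_hess {M : Matrix (Fin (m + 1)) (Fin (m + 1)) F} {E : ℕ → Prop} (h : NF M E) {τ : Fin k → Fin m}
    (hmono : StrictMono τ) (hQ : ∀ j : Fin m, E ((j : ℕ) + 1) → ∃ p, τ p = j) {γ e : F} (hγ : γ ≠ 0) (he : e ≠ 0)
    {b : Fin k} (hb : E ((τ b : ℕ) + 1)) (hmin : ∀ p, E ((τ p : ℕ) + 1) → b ≤ p) (w : Fin k → F)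
    {C : Matrix (Fin m) (Fin m) F}
    (hin : ∀ q p, C (τ q) (τ p) = (chainMat (pull E τ) 1 + vecMulVec (Pi.single b 1) w : Matrix (Fin k) (Fin k) F) q p)
    (hout : ∀ i j, (∀ p, τ p ≠ j) → C i j = if i = j then γ else 0)
    (hmix : ∀ i p, (∀ q, τ q ≠ i) → C i (τ p) = 0) :
    (kry (M * full e C) (Pi.single ⟨0, Nat.succ_pos m⟩ 1)).det ≠ 0 := by
  classical
  have hlastM : E m := by simpa using h.last (Nat.succ_pos m)
  have hm : 0 < m := lt_of_le_of_lt (Nat.zero_le _) (τ b).isLt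
  obtain ⟨pl, hpl⟩ := hQ ⟨m - 1, by omega⟩ (by simpa [Nat.sub_add_cancel hm] using hlastM)
  have hplast : (pl : ℕ) + 1 = k := by
    by_contra hne
    have := pl.isLt
    have h1 : τ pl < τ ⟨pl + 1, by omega⟩ := hmono (Fin.lt_def.2 (by simp))
    have := (τ ⟨pl + 1, by omega⟩).isLt
    rw [hpl, Fin.lt_def] at h1
    simp at h1
    omega
  have hlast' : pull E τ k :=
    ⟨pl, hplast, by rw [hpl]; simpa [Nat.sub_add_cancel hm] using hlastM⟩
  have hfirst' : ¬ pull E τ 0 := fun ⟨p, hp, _⟩ => by omega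
  have hzero : ∀ i : Fin (m + 1), (M * full e C) i 0 = e * M i 0 := by
    intro i
    rw [Matrix.mul_apply, Fin.sum_univ_succ, full_zero_zero, Finset.sum_eq_zero fun l _ => ?_, add_zero, mul_comm]
    rw [full_succ_zero, mul_zero]
  have hsucc : ∀ (i : Fin (m + 1)) (j : Fin m), (M * full e C) i j.succ = ∑ l, M i l.succ * C l j := by
    intro i j
    rw [Matrix.mul_apply, Fin.sum_univ_succ, full_zero_succ, mul_zero, zero_add]
    simp only [full_succ_succ]
  have hb0 : ∀ i : Fin (m + 1), 0 < (i : ℕ) → M i (τ b).succ = 0 := fun i hi =>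
    h.end_zero i _ (by simpa using hb) hi fun K hK hKb => by
      exfalso
      have hK1 : 1 ≤ K := by
        by_contra h0
        exact h.first ((show K = 0 by omega) ▸ hK)
      simp only [Fin.val_succ] at hKb
      have := (τ b).isLt
      obtain ⟨r, hr⟩ := hQ ⟨K - 1, by omega⟩ (by simpa [Nat.sub_add_cancel hK1] using hK)
      have h2 := hmin r (by rw [hr]; simpa [Nat.sub_add_cancel hK1] using hK)
      have h3 := hmono.monotone h2
      rw [hr, Fin.le_def] at h3
      simp at h3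
      omega
  -- the entries below the diagonal
  have key : ∀ (i : Fin (m + 1)) (j : Fin m), (j : ℕ) + 2 ≤ i →
      ((i : ℕ) = j + 2 → (M * full e C) i j.succ ≠ 0) ∧ ((j : ℕ) + 2 < i → (M * full e C) i j.succ = 0) := by
    intro i j hij
    have hi := i.isLt
    have hjm : (j : ℕ) + 1 < m := by omega
    rw [hsucc]
    by_cases hj : ∃ p, τ p = j
    · obtain ⟨p, rfl⟩ := hj
      have hsum : ∑ l, M i l.succ * C l (τ p) = ∑ q, M i (τ q).succ *
          (chainMat (pull E τ) 1 + vecMulVec (Pi.single b 1) w : Matrix (Fin k) (Fin k) F) q p := by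
        symm
        refine Fintype.sum_of_injective τ hmono.injective _ _ (fun l hl => ?_) fun q => by rw [hin]
        rw [hmix l p fun q hq => hl ⟨q, hq⟩, mul_zero]
      rw [hsum]
      simp only [Matrix.add_apply, chainMat, Matrix.of_apply, Matrix.vecMulVec_apply, mul_add, Finset.sum_add_distrib]
      have hb' : ∑ q, M i (τ q).succ * ((Pi.single b (1 : F) : Fin k → F) q * w p) = 0 :=
        Finset.sum_eq_zero fun q _ => by
          rcases eq_or_ne q b with rfl | hq
          · rw [hb0 i (by omega), zero_mul]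
          · rw [Pi.single_eq_of_ne hq, zero_mul, mul_zero]
      rw [hb', add_zero]
      by_cases hE : E ((τ p : ℕ) + 1)
      · have hE' : pull E τ ((p : ℕ) + 1) := (pull_succ E τ p).2 hE
        have hpk : (p : ℕ) + 1 < k := by
          have := p.isLt
          by_contra hlt
          have : p = pl := Fin.ext (by omega)
          rw [this, hpl] at hjm
          simp at hjm
          omega
        obtain ⟨h1, h2, h3, h4⟩ := nxt_spec hlast' hpk
        obtain ⟨q, hq, hqE⟩ := h2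
        rw [Finset.sum_eq_zero (fun r _ => by rw [if_neg (fun h => h.2 hE'), mul_zero]), zero_add,
          Finset.sum_eq_single q (fun r _ hr => ?_) (by simp)]
        · rw [tgt, if_pos (show pull E τ ((p : ℕ) + 1) ∧ (p : ℕ) + 1 < k from ⟨hE', hpk⟩), if_pos hq, if_pos hE', Pi.one_apply, mul_one]
          have hlt : τ p < τ q := hmono (Fin.lt_def.2 (by omega))
          have hno : ∀ K, E K → (τ p : ℕ) + 1 < K → K < (τ q : ℕ) + 1 → False := by
            intro K hK hK1 hK2
            have := (τ q).isLt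
            obtain ⟨r, hr⟩ := hQ ⟨K - 1, by omega⟩ (by simpa [Nat.sub_add_cancel (show 1 ≤ K by omega)] using hK)
            have hr' : (τ r : ℕ) = K - 1 := by rw [hr]
            have h5 : p < r := hmono.lt_iff_lt.1 (Fin.lt_def.2 (by omega))
            have h6 : r < q := hmono.lt_iff_lt.1 (Fin.lt_def.2 (by omega))
            rw [Fin.lt_def] at h5 h6
            refine h4 ((r : ℕ) + 1) (by omega) (by omega) ((pull_succ E τ r).2 ?_)
            rwa [hr', Nat.sub_add_cancel (by omega)]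
          refine ⟨fun he' => ?_, fun he' => ?_⟩
          · exact h.end_ne i _ ((τ p : ℕ) + 1) hE (by simpa using hqE) (by rw [Fin.lt_def] at hlt; rw [Fin.val_succ]; omega)
              (fun l hl hl' hEl => hno l hEl hl (by simpa using hl')) he'
          · refine h.end_zero i _ (by simpa using hqE) (by omega) fun K hK hKq => ?_
            by_contra hlt'
            exact hno K hK (by omega) (by simpa using hKq)
        · rw [tgt, if_pos (show pull E τ ((p : ℕ) + 1) ∧ (p : ℕ) + 1 < k from ⟨hE', hpk⟩), if_neg, mul_zero]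
          intro h'
          exact hr (Fin.ext (by omega))
      · have hE' : ¬ pull E τ ((p : ℕ) + 1) := fun h' => hE ((pull_succ E τ p).1 h')
        rw [Finset.sum_eq_single p (fun r _ hr => by rw [if_neg (fun h' => hr h'.1), mul_zero]) (by simp),
          if_pos ⟨rfl, hE'⟩, Finset.sum_eq_zero (fun r _ => ?_), add_zero, Pi.one_apply, mul_one]
        · exact ⟨fun he' => h.step_ne i _ (by simpa using hE) (by simpa using he'),
            fun he' => h.step_zero i _ (by simpa using hE) (by simpa using he')⟩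
        · rw [tgt, if_neg (show ¬ (pull E τ ((p : ℕ) + 1) ∧ (p : ℕ) + 1 < k) from fun h' => hE' h'.1)]
          split_ifs with hr
          · obtain ⟨h1, h2⟩ := prv_spec hfirst' ((p : ℕ) + 1) (by omega)
            rw [← hr] at h1 h2
            rw [pull_succ] at h2
            have hlt : τ r < τ p := hmono (Fin.lt_def.2 (by omega))
            rw [Fin.lt_def] at hlt
            rw [h.step_zero i _ (by simpa using h2) (by simp; omega), zero_mul]
          · rw [mul_zero]
    · push Not at hj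
      have hE : ¬ E ((j : ℕ) + 1) := fun hE => by
        obtain ⟨p, hp⟩ := hQ j hE
        exact hj p hp
      rw [Finset.sum_eq_single j (fun l _ hl => by rw [hout l j hj, if_neg hl, mul_zero]) (by simp),
        hout j j hj, if_pos rfl]
      exact ⟨fun he' => mul_ne_zero (h.step_ne i _ (by simpa using hE) (by simpa using he')) hγ,
        fun he' => by rw [h.step_zero i _ (by simpa using hE) (by simpa using he'), zero_mul]⟩
  have hz : ∀ i j : Fin (m + 1), (j : ℕ) + 1 < i → (M * full e C) i j = 0 := by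
    intro i j hij
    rcases Fin.eq_zero_or_eq_succ j with rfl | ⟨j', rfl⟩
    · rw [hzero, h.step_zero i 0 h.first (by simpa using hij), mul_zero]
    · simp only [Fin.val_succ] at hij
      exact (key i j' (by omega)).2 (by omega)
  rw [kry_hess (Nat.succ_pos m) hz]
  refine Finset.prod_ne_zero_iff.2 fun j _ => Finset.prod_ne_zero_iff.2 fun i hi => ?_
  have hij := (Finset.mem_filter.1 hi).2
  have hjlt := j.isLt
  rw [dif_pos (show (i : ℕ) + 1 < m + 1 by omega)]
  rcases Fin.eq_zero_or_eq_succ i with rfl | ⟨i', rfl⟩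
  · rw [hzero]
    exact mul_ne_zero he (h.step_ne _ _ h.first rfl)
  · simp only [Fin.val_succ] at hij
    exact (key _ i' (by simp)).1 (by simp)

theorem step_core [Fintype F] {x : Matrix (Fin (m + 1)) (Fin (m + 1)) F} (hx : x.det ≠ 0) {t : ℕ} (hg : Gen x t)
    (htk : t ≤ k) (hkm : k ≤ m) {γ e : F} (hγ : γ ≠ 0) (he : e ≠ 0) {f : F[X]} (hf : f.Monic) (hfd : f.natDegree = k) :
    ∃ (x' : Matrix (Fin (m + 1)) (Fin (m + 1)) F) (C : Matrix (Fin m) (Fin m) F) (P : Matrix (Fin k) (Fin k) F),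
      (∃ δ, ConjD δ x x') ∧ Cyc f P ∧ Sim C (fromBlocks P 0 0 (γ • (1 : Matrix (Fin (m - k)) (Fin (m - k)) F))) ∧
      (kry (x' * full e C) (Pi.single ⟨0, Nat.succ_pos m⟩ 1)).det ≠ 0 := by
  classical
  obtain ⟨x', E, hxx', hNF, hcard⟩ := exists_nf_gen hx hg (by omega)
  have hlastM : E m := by simpa using hNF.last (Nat.succ_pos m)
  set s0 : Finset (Fin m) := Finset.univ.filter fun j => E ((j : ℕ) + 1)
  have hs0 : s0.card ≤ k := by
    refine le_trans ?_ (le_trans hcard htk)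
    refine Finset.card_le_card_of_injOn (fun j : Fin m => (j : ℕ) + 1) (fun j hj => ?_) fun a _ b _ h =>
      Fin.ext (Nat.succ_injective h)
    simp only [s0, Finset.coe_filter, Set.mem_setOf_eq, Finset.mem_univ, true_and] at hj
    simp [hj]
  obtain ⟨Q, hsQ, hQc⟩ := Finset.exists_superset_card_eq hs0 (by simpa using hkm)
  have hQn : Qᶜ.card = m - k := by rw [Finset.card_compl, Fintype.card_fin, hQc]
  set en := finSumEquivOfFinset hQc hQn with hen
  set τ : Fin k → Fin m := fun p => en (Sum.inl p) with hτ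
  have hτQ : ∀ j : Fin m, j ∈ Q → ∃ p, τ p = j := by
    intro j hj
    have : j ∈ Set.range (Q.orderEmbOfFin hQc) := by rw [Finset.range_orderEmbOfFin]; exact hj
    obtain ⟨p, hp⟩ := this
    exact ⟨p, by rw [hτ]; exact hp⟩
  have hmono : StrictMono τ := fun a b hab => (Q.orderEmbOfFin hQc).strictMono hab
  have hQ : ∀ j : Fin m, E ((j : ℕ) + 1) → ∃ p, τ p = j := fun j hj => hτQ j (hsQ (by simp [s0, hj]))
  have hm : 0 < m := by
    by_contra h0
    exact hNF.first ((show m = 0 by omega) ▸ hlastM)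
  have hex : ∃ l : ℕ, ∃ h : l < k, E ((τ ⟨l, h⟩ : ℕ) + 1) := by
    obtain ⟨p, hp⟩ := hQ ⟨m - 1, by omega⟩ (by simpa [Nat.sub_add_cancel hm] using hlastM)
    exact ⟨p, p.isLt, by rw [Fin.eta, hp]; simpa [Nat.sub_add_cancel hm] using hlastM⟩
  obtain ⟨hbk, hb⟩ := Nat.find_spec hex
  set b : Fin k := ⟨Nat.find hex, hbk⟩
  have hmin : ∀ p, E ((τ p : ℕ) + 1) → b ≤ p := fun p hp => Nat.find_min' hex ⟨p.isLt, by simpa using hp⟩
  have hK := chain_cyclic (E := pull E τ) (by
      obtain ⟨p, hp⟩ := hQ ⟨m - 1, by omega⟩ (by simpa [Nat.sub_add_cancel hm] using hlastM)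
      refine ⟨p, ?_, by rw [hp]; simpa [Nat.sub_add_cancel hm] using hlastM⟩
      by_contra hne
      have := p.isLt
      have h1 : τ p < τ ⟨p + 1, by omega⟩ := hmono (Fin.lt_def.2 (by simp))
      have := (τ ⟨p + 1, by omega⟩).isLt
      rw [hp, Fin.lt_def] at h1
      simp at h1
      omega)
    (fun ⟨p, hp, _⟩ => by omega) (c := (1 : Fin k → F)) (fun _ => one_ne_zero) (b := b) ((pull_succ E τ b).2 hb)
    (fun l hl ⟨p, hp, hpE⟩ => by
      have := Fin.le_def.1 (hmin p hpE)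
      omega)
  obtain ⟨w, hw⟩ := exists_feedback hK hf hfd
  set P := chainMat (pull E τ) 1 + vecMulVec (Pi.single b 1) w with hP
  have hP' : (kry P (Pi.single b 1)).det ≠ 0 := by rwa [hP, kry_feedback]
  have hPc := (cyc_of_kry hP').1
  rw [hw] at hPc
  set C : Matrix (Fin m) (Fin m) F :=
    Matrix.reindex en en (fromBlocks P 0 0 (γ • (1 : Matrix (Fin (m - k)) (Fin (m - k)) F))) with hC
  have hCen : ∀ a b, C (en a) (en b) = fromBlocks P 0 0 (γ • (1 : Matrix (Fin (m - k)) (Fin (m - k)) F)) a b :=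
    fun a b => by simp [hC]
  refine ⟨x', C, P, hxx', hPc, sim_reindex _ _, step_hess hNF hmono hQ hγ he hb hmin w (fun q p => ?_)
    (fun i j hj => ?_) (fun i p hi => ?_)⟩
  · rw [hτ]; exact hCen _ _
  · obtain ⟨a, rfl⟩ := en.surjective i
    obtain ⟨b', rfl⟩ := en.surjective j
    rw [hCen]
    rcases b' with q | q
    · exact absurd rfl (hj q)
    · rcases a with a | a
      · rw [if_neg (fun h => Sum.inl_ne_inr (en.injective h))]; rfl
      · by_cases haq : a = q
        · subst haq; simp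
        · rw [if_neg (fun h => haq (Sum.inr_injective (en.injective h)))]; simp [haq]
  · obtain ⟨a, rfl⟩ := en.surjective i
    rcases a with a | a
    · exact absurd rfl (hi a)
    · rw [hτ, hCen]; rfl

theorem sim_full (d : F) (C : Matrix (Fin m) (Fin m) F) :
    Sim (full d C) (fromBlocks C 0 0 (d • (1 : Matrix PUnit.{1} PUnit.{1} F))) :=
  sim_reindex _ _

end Hess

/-- The last coordinate joins the scalar block. -/
theorem sim_pad {k m : ℕ} (hkm : k ≤ m) {P : Matrix (Fin k) (Fin k) F} {P₀ : Matrix κ κ F} (hP : Sim P P₀) (γ : F)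
    (hcard : Fintype.card σ = m - k + 1) {C : Matrix (Fin m) (Fin m) F}
    (hC : Sim C (fromBlocks P 0 0 (γ • (1 : Matrix (Fin (m - k)) (Fin (m - k)) F)))) :
    Sim (full γ C) (fromBlocks P₀ 0 0 (γ • (1 : Matrix σ σ F))) :=
  (sim_full γ C).trans ((hC.blocks (Sim.refl _)).trans ((sim_blocks_assoc _ _ _).trans
    (hP.blocks ((sim_smul_blocks γ).trans (sim_scalar γ (by simp [hcard]))))))

variable [Fintype F]

theorem step_cyc {x : Matrix ι ι F} {x' : Matrix κ κ F} {μ : F} (hs : Sim x (fromBlocks x' 0 0 (μ • (1 : Matrix σ σ F))))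
    [Nonempty σ] {t : ℕ} (hg : Gen x t) (ht : t ≤ Fintype.card κ) (hx : x.det ≠ 0) {a : ℕ} (h : CycIn x' a) :
    CycIn x (a + 1) := by
  classical
  obtain ⟨P₀, f, hP₀, hpr⟩ := h
  set k := Fintype.card κ
  have hσ : 0 < Fintype.card σ := Fintype.card_pos
  have hn : Fintype.card ι = k + Fintype.card σ := by rw [card_eq_of_sim hs, Fintype.card_sum]
  obtain ⟨m, hm⟩ : ∃ m, Fintype.card ι = m + 1 := ⟨Fintype.card ι - 1, by omega⟩
  let e := Fintype.equivFinOfCardEq hm
  set xf := Matrix.reindex e e x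
  have hxf : Sim xf x := sim_reindex e x
  have hμ : μ ≠ 0 := by
    intro h0
    rw [hs.det_eq, det_fromBlocks_zero₁₂, h0, det_smul, zero_pow hσ.ne', zero_mul, mul_zero] at hx
    exact hx rfl
  set γ := μ ^ a
  have hγ : γ ≠ 0 := pow_ne_zero a hμ
  obtain ⟨y, C, P, ⟨δ, hy⟩, hP, hC, hK⟩ := step_core (k := k) (hxf.det_eq.symm ▸ hx) (gen_of_sim hxf hg) ht
    (show k ≤ m by omega) hγ hγ hP₀.1 hP₀.2.1
  have hB : Sim (full γ C) (fromBlocks P₀ 0 0 (γ • (1 : Matrix σ σ F))) :=
    sim_pad (by omega) (hP.sim hP₀) γ (by omega) hC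
  obtain ⟨B', hB', hpB⟩ := (hpr.blocks (gpr_scalar (ι := σ) μ a)).of_sim_left (hxf.trans hs)
  refine CycIn.of_sim hxf.symm ⟨y * full γ C, _, (cyc_of_kry hK).1, ?_⟩
  rw [Nat.add_comm a 1]
  exact GPr.append ⟨[δ], rfl, pr_singleton hy⟩ (hpB.of_sim_right (hB.trans hB'.symm))

theorem step_every {x : Matrix ι ι F} {x' : Matrix κ κ F} {μ : F}
    (hs : Sim x (fromBlocks x' 0 0 (μ • (1 : Matrix σ σ F)))) [Nonempty σ] {t : ℕ} (hg : Gen x t)
    (ht : t + 1 ≤ Fintype.card κ) (hx : x.det ≠ 0) {a : ℕ} {P₀ : Matrix κ κ F} {d : F} {g : F[X]} (hgm : g.Monic)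
    (hgd : g.eval d ≠ 0) (hP₀ : Cyc ((X - Polynomial.C d) * g) P₀) (hpr : GPr x' a P₀) (hdγ : μ ^ a ≠ d)
    {S : Matrix ι ι F} {f : F[X]} (hS : Cyc f S) (hdet : S.det = x.det ^ (a + 1)) : GPr x (a + 1) S := by
  classical
  set k := g.natDegree with hk
  have hκ : Fintype.card κ = k + 1 := by
    rw [← hP₀.2.1, (monic_X_sub_C d).natDegree_mul hgm, natDegree_X_sub_C]; omega
  have hσ : 0 < Fintype.card σ := Fintype.card_pos
  have hn : Fintype.card ι = k + 1 + Fintype.card σ := by rw [card_eq_of_sim hs, Fintype.card_sum, hκ]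
  obtain ⟨m, hm⟩ : ∃ m, Fintype.card ι = m + 1 := ⟨Fintype.card ι - 1, by omega⟩
  let e := Fintype.equivFinOfCardEq hm
  set xf := Matrix.reindex e e x
  have hxf : Sim xf x := sim_reindex e x
  have hμ : μ ≠ 0 := by
    intro h0
    rw [hs.det_eq, det_fromBlocks_zero₁₂, h0, det_smul, zero_pow hσ.ne', zero_mul, mul_zero] at hx
    exact hx rfl
  set γ := μ ^ a
  have hd : d ≠ 0 := by
    intro h0
    have h1 : x'.det ≠ 0 := fun h => hx (by rw [hs.det_eq, det_fromBlocks_zero₁₂, h, zero_mul])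
    have h2 := hpr.det_eq
    rw [cyc_det_eq hP₀, h0, mul_coeff_zero] at h2
    simp at h2
    exact pow_ne_zero a h1 h2.symm
  obtain ⟨y, C, P, ⟨δ, hy⟩, hP, hC, hK⟩ := step_core (k := k) (hxf.det_eq.symm ▸ hx) (gen_of_sim hxf hg) (by omega)
    (show k ≤ m by omega) (pow_ne_zero a hμ) hd hgm rfl
  have hco : IsCoprime g (X - Polynomial.C d) :=
    (((irreducible_X_sub_C d).coprime_iff_not_dvd).2 fun h => hgd (dvd_iff_isRoot.1 h)).symm
  have hPd : Sim (fromBlocks P 0 0 (d • (1 : Matrix PUnit.{1} PUnit.{1} F))) P₀ := by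
    refine (cyc_blocks hco hP (cyc_unit d)).sim ?_
    rwa [mul_comm]
  have hB : Sim (full d C) (fromBlocks P₀ 0 0 (γ • (1 : Matrix σ σ F))) :=
    (sim_full d C).trans ((hC.blocks (Sim.refl _)).trans ((sim_blocks_assoc _ _ _).trans
      (((Sim.refl P).blocks (sim_blocks_comm _ _)).trans ((sim_blocks_assoc _ _ _).symm.trans
        (hPd.blocks (sim_scalar γ (by simp; omega)))))))
  have hCd : (C - d • 1).det ≠ 0 := by
    obtain ⟨U, V, h1, h2, hUV⟩ := hC
    have e1 : C - d • 1 = U * (fromBlocks P 0 0 (γ • (1 : Matrix (Fin (m - k)) (Fin (m - k)) F)) - d • 1) * V := by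
      rw [Matrix.mul_sub, Matrix.sub_mul, Matrix.mul_smul, Matrix.smul_mul, Matrix.mul_one, h1, hUV]
    have e2 : fromBlocks P 0 0 (γ • (1 : Matrix (Fin (m - k)) (Fin (m - k)) F)) - d • 1 =
        fromBlocks (P - d • 1) 0 0 ((γ - d) • 1) := by
      rw [← fromBlocks_one, fromBlocks_smul, sub_eq_add_neg, fromBlocks_neg, fromBlocks_add]
      simp [sub_eq_add_neg, add_smul, neg_smul]
    rw [e1, Matrix.det_conj_of_mul_eq_one h1 h2, e2, det_fromBlocks_zero₁₂, det_smul, det_one, mul_one]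
    refine mul_ne_zero ?_ (pow_ne_zero _ (sub_ne_zero.2 hdγ))
    have := Matrix.eval_charpoly P d
    rw [hP.charpoly_eq, Matrix.scalar_apply, ← Matrix.smul_one_eq_diagonal] at this
    rw [← neg_sub, det_neg, ← this]
    exact mul_ne_zero (pow_ne_zero _ (neg_ne_zero.2 one_ne_zero)) hgd
  obtain ⟨B', hB', hpB⟩ := (hpr.blocks (gpr_scalar (ι := σ) μ a)).of_sim_left (hxf.trans hs)
  set v : Fin (m + 1) → F := Pi.single ⟨0, Nat.succ_pos m⟩ 1 with hv
  set X₁ := y * full d C with hX₁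
  have hfd : f.natDegree = m + 1 := by rw [hS.2.1, hm]
  have hKu : (kry X₁ (X₁ *ᵥ v)).det = X₁.det * (kry X₁ v).det := by
    rw [← det_mul]
    congr 1
    ext i j
    show ((X₁ ^ (j : ℕ)) *ᵥ (X₁ *ᵥ v)) i = (X₁ *ᵥ ((X₁ ^ (j : ℕ)) *ᵥ v)) i
    rw [Matrix.mulVec_mulVec, Matrix.mulVec_mulVec, ← pow_succ, ← pow_succ']
  have hX₁d : X₁.det = x.det ^ (a + 1) := by
    rw [hX₁, det_mul, hy.det_eq, hxf.det_eq, (hB.trans hB'.symm).det_eq, hpB.det_eq, hxf.det_eq, pow_succ']
  have hKune : (kry X₁ (X₁ *ᵥ v)).det ≠ 0 := by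
    rw [hKu, hX₁d]; exact mul_ne_zero (pow_ne_zero _ hx) hK
  obtain ⟨s, hsf⟩ := exists_feedback hKune hS.1 hfd
  set A := X₁ + vecMulVec (X₁ *ᵥ v) s with hA
  have hAcyc := (cyc_of_kry (A := A) (v := X₁ *ᵥ v) (by rw [hA, kry_feedback]; exact hKune)).1
  rw [hsf] at hAcyc
  have hAdet : A.det = X₁.det := by
    rw [hX₁d, ← hdet]
    exact (hAcyc.sim hS).det_eq
  have hAmul : A = X₁ * (1 + vecMulVec v s) := by
    rw [hA, Matrix.mul_add, Matrix.mul_one, Matrix.mul_vecMulVec]
  have hs0 : s 0 = 0 := by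
    rw [hAmul, det_mul, Matrix.vecMulVec_eq Unit, Matrix.det_one_add_replicateCol_mul_replicateRow] at hAdet
    have := mul_left_cancel₀ (by rw [hX₁d]; exact pow_ne_zero _ hx) (hAdet.trans (mul_one _).symm)
    simpa [hv] using this
  have hBs : Sim (full d C * (1 + vecMulVec v s)) (full d C) := by
    have he0 : full d C *ᵥ v = d • v := by
      rw [hv, Matrix.mulVec_single_one]
      funext i
      rcases Fin.eq_zero_or_eq_succ i with rfl | ⟨i, rfl⟩
      · simp [full_zero_zero]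
      · simp [full_succ_zero]
    rw [Matrix.mul_add, Matrix.mul_one, Matrix.mul_vecMulVec, he0, Matrix.smul_vecMulVec, ← Matrix.vecMulVec_smul]
    exact sim_shear hCd (by simp [hs0])
  have hGA : GPr xf (1 + a) A := by
    rw [hAmul, hX₁, Matrix.mul_assoc]
    exact GPr.append ⟨[δ], rfl, pr_singleton hy⟩ (hpB.of_sim_right (hBs.trans (hB.trans hB'.symm)))
  obtain ⟨S', hS', hpS⟩ := hGA.of_sim_left hxf.symm
  rw [Nat.add_comm a 1]
  exact hpS.of_sim_right ((hS.sim hAcyc).trans hS'.symm)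

end CfsgLib.GLClass.Cover
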