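import Mathlib
import Cfsg.Agent.Lib.GLClass.Cover.Step
import Cfsg.Agent.Lib.GLClass.Cover.Poly

/-!
Which cyclic classes are products of a given number of conjugates: sums of two pieces, and the criterion
for all matrices to be products of `n` conjugates.
-/

set_option autoImplicit false

namespace CfsgLib.GLClass.Cover

open Polynomial Matrix Module
open CfsgLib.GLClass.CommSL

variable {F : Type*} [Field F] {ι κ : Type*} [Fintype ι] [DecidableEq ι] [Fintype κ] [DecidableEq κ]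

/-- Every cyclic class with a simple root is a product of `a` conjugates. -/
def AllSR (x : Matrix ι ι F) (a : ℕ) : Prop :=
  ∀ (S : Matrix ι ι F) (g : F[X]), Cyc g S → SimpleRoot g → S.det = x.det ^ a → GPr x a S

/-- Some cyclic class with a simple root is a product of `a` conjugates. -/
def SRIn (x : Matrix ι ι F) (a : ℕ) : Prop :=
  ∃ (M : Matrix ι ι F) (g : F[X]), Cyc g M ∧ SimpleRoot g ∧ GPr x a M

theorem SRIn.cycIn {x : Matrix ι ι F} {a : ℕ} (h : SRIn x a) : CycIn x a := by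
  obtain ⟨M, g, hM, -, hP⟩ := h
  exact ⟨M, g, hM, hP⟩

theorem SRIn.of_sim {x : Matrix ι ι F} {y : Matrix κ κ F} (hs : Sim x y) {a : ℕ} (h : SRIn y a) : SRIn x a := by
  obtain ⟨M, g, hM, hg, hP⟩ := h
  obtain ⟨M', hM', hP'⟩ := hP.of_sim_left hs
  exact ⟨M', g, Cyc.of_sim hM' hM, hg, hP'⟩

theorem exists_cyc {g : F[X]} (hg : g.Monic) (hd : g.natDegree = Fintype.card ι) : ∃ M : Matrix ι ι F, Cyc g M :=
  ⟨_, Cyc.of_sim (sim_reindex (Fintype.equivOfCardEq (by rw [Fintype.card_fin, hd]) : Fin g.natDegree ≃ ι) _)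
    (cyc_comp hg)⟩

theorem det_of_cyc {g : F[X]} {M : Matrix ι ι F} (h : Cyc g M) {c : F}
    (hg : g.coeff 0 = (-1) ^ Fintype.card ι * c) : M.det = c := by
  rw [cyc_det_eq h, hg, ← mul_assoc, ← mul_pow, neg_one_mul, neg_neg, one_pow, one_mul]

theorem Cyc.ne_scalar' {g : F[X]} {M : Matrix ι ι F} (h : Cyc g M) (h2 : 2 ≤ Fintype.card ι) (c : F) : M ≠ c • 1 := by
  rintro rfl
  obtain ⟨hg, hd, v, hv⟩ := h
  have h1 : g ∣ X - Polynomial.C c := (hv _).1 (by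
    simp [Matrix.sub_mulVec, Algebra.algebraMap_eq_smul_one])
  have := natDegree_le_of_dvd h1 (X_sub_C_ne_zero c)
  rw [natDegree_X_sub_C] at this
  omega

theorem sim_ne_scalar {x : Matrix ι ι F} {y : Matrix κ κ F} (hs : Sim x y) (h : ∀ c : F, y ≠ c • 1) (c : F) :
    x ≠ c • 1 := by
  rintro rfl
  obtain ⟨U, V, h1, h2, he⟩ := hs
  refine h c ?_
  calc y = V * U * y * (V * U) := by rw [h2, Matrix.one_mul, Matrix.mul_one]
    _ = V * (U * y * V) * U := by simp only [Matrix.mul_assoc]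
    _ = c • 1 := by rw [← he, Matrix.mul_smul, Matrix.smul_mul, Matrix.mul_one, h2]

variable [Fintype F]

theorem exists_sr_poly (h4 : 4 ≤ Fintype.card F) {n : ℕ} (hn : 2 ≤ n) {c : F} (hc : c ≠ 0) :
    ∃ g : F[X], g.Monic ∧ g.natDegree = n ∧ g.coeff 0 = c ∧ SimpleRoot g := by
  rcases Nat.lt_or_ge n 3 with h | h
  · obtain rfl : n = 2 := by omega
    obtain ⟨a, b, d, hab, hne, -, -, -⟩ := exists_triple h4 hc
    refine ⟨(X - Polynomial.C a) * (X - Polynomial.C b), (monic_X_sub_C a).mul (monic_X_sub_C b), ?_, ?_,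
      a, _, monic_X_sub_C b, by simp [sub_eq_zero, hne], rfl⟩
    · rw [(monic_X_sub_C a).natDegree_mul (monic_X_sub_C b), natDegree_X_sub_C, natDegree_X_sub_C]
    · rw [mul_coeff_zero, coeff_zero_lin, coeff_zero_lin, neg_mul_neg, hab]
  · obtain ⟨g, h1, h2, h3, hg⟩ := exists_rootless' h4 (show 2 ≤ n - 1 by omega) (c := -c) (neg_ne_zero.2 hc)
    refine ⟨(X - Polynomial.C 1) * g, (monic_X_sub_C 1).mul h1, ?_, ?_, 1, g, h1, hg 1, rfl⟩
    · rw [(monic_X_sub_C 1).natDegree_mul h1, natDegree_X_sub_C, h2]; omega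
    · rw [mul_coeff_zero, coeff_zero_lin, h3]; ring

theorem exists_sr_mat (h4 : 4 ≤ Fintype.card F) (h2 : 2 ≤ Fintype.card ι) {c : F} (hc : c ≠ 0) :
    ∃ (M : Matrix ι ι F) (g : F[X]), Cyc g M ∧ SimpleRoot g ∧ M.det = c := by
  obtain ⟨g, h1, hd, h0, hg⟩ := exists_sr_poly h4 h2 (c := (-1) ^ Fintype.card ι * c)
    (mul_ne_zero (pow_ne_zero _ (neg_ne_zero.2 one_ne_zero)) hc)
  obtain ⟨M, hM⟩ := exists_cyc (ι := ι) h1 hd
  exact ⟨M, g, hM, hg, det_of_cyc hM h0⟩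

theorem allSR_succ {x : Matrix ι ι F} (hx : ∀ c : F, x ≠ c • 1) (hxd : x.det ≠ 0) (h2 : 2 ≤ Fintype.card ι) {a : ℕ}
    (h : CycIn x a) : AllSR x (a + 1) := by
  intro S g hS hg hdet
  obtain ⟨A, f, hA, hl⟩ := h
  let e := Fintype.equivFin ι
  have hsx : Sim (Matrix.reindex e e x) x := sim_reindex e x
  obtain ⟨A', hA', l, rfl, hl'⟩ := hl.of_sim_left hsx
  have hsS : Sim (Matrix.reindex e e S) S := sim_reindex e S
  obtain ⟨γ, hP, -⟩ := simple_root_mem (n := Fintype.card ι) h2 (sim_ne_scalar hsx hx) (hsx.det_eq.symm ▸ hxd)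
    (Cyc.of_sim hA' hA) (Cyc.of_sim hsS hS) hg hl' (by rw [hsS.det_eq, hsx.det_eq, hdet])
    (α := 1) (β := 1) one_ne_zero one_ne_zero
  obtain ⟨S', hS', hP'⟩ := GPr.of_sim_left hsx.symm (a := l.length + 1) ⟨_, by simp, hP⟩
  exact hP'.of_sim_right ((hS'.trans hsS).symm)

theorem AllSR.srIn (h4 : 4 ≤ Fintype.card F) {x : Matrix ι ι F} (hxd : x.det ≠ 0) (h2 : 2 ≤ Fintype.card ι) {a : ℕ}
    (h : AllSR x a) : SRIn x a := by
  obtain ⟨M, g, hM, hg, hd⟩ := exists_sr_mat (ι := ι) h4 h2 (pow_ne_zero a hxd)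
  exact ⟨M, g, hM, hg, h M g hM hg hd⟩

theorem allSR_of_le (h4 : 4 ≤ Fintype.card F) {x : Matrix ι ι F} (hx : ∀ c : F, x ≠ c • 1) (hxd : x.det ≠ 0)
    (h2 : 2 ≤ Fintype.card ι) {a b : ℕ} (h : CycIn x a) (hab : a < b) : AllSR x b := by
  induction b, hab using Nat.le_induction with
  | base => exact allSR_succ hx hxd h2 h
  | succ b _ ih => exact allSR_succ hx hxd h2 (ih.srIn h4 hxd h2).cycIn

theorem cycIn_self {f : F[X]} {x : Matrix ι ι F} (h : Cyc f x) : CycIn x 1 :=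
  ⟨x, f, h, [1], rfl, pr_singleton_self x⟩

theorem sum_pair (h4 : 4 ≤ Fintype.card F) {x₁ : Matrix ι ι F} {x₂ : Matrix κ κ F} (h1 : 3 ≤ Fintype.card ι)
    (h2 : 2 ≤ Fintype.card κ) (hd1 : x₁.det ≠ 0) (hd2 : x₂.det ≠ 0) {a : ℕ} (H1 : AllSR x₁ a) (H2 : AllSR x₂ a) :
    SRIn (fromBlocks x₁ 0 0 x₂) a := by
  have hn : ∀ m : ℕ, ((-1 : F) ^ m) ≠ 0 := fun m => pow_ne_zero m (neg_ne_zero.2 one_ne_zero)
  obtain ⟨R₁, R₂, hm1, hr1, hc1, hs1, hm2, hr2, hc2, hs2, hco⟩ := exists_coprime_pair h4 h1 h2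
    (mul_ne_zero (hn (Fintype.card ι)) (pow_ne_zero a hd1)) (mul_ne_zero (hn (Fintype.card κ)) (pow_ne_zero a hd2))
  obtain ⟨M₁, hM1⟩ := exists_cyc (ι := ι) hm1 hr1
  obtain ⟨M₂, hM2⟩ := exists_cyc (ι := κ) hm2 hr2
  refine ⟨_, R₁ * R₂, cyc_blocks hco hM1 hM2, ?_,
    (H1 M₁ R₁ hM1 hs1 (det_of_cyc hM1 hc1)).blocks (H2 M₂ R₂ hM2 hs2 (det_of_cyc hM2 hc2))⟩
  obtain ⟨d, g₁, hg1, hgd, rfl⟩ := hs1
  refine ⟨d, g₁ * R₂, hg1.mul hm2, ?_, mul_assoc _ _ _⟩
  rw [eval_mul]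
  refine mul_ne_zero hgd fun h => ?_
  exact (irreducible_X_sub_C d).not_isUnit
    (hco.isUnit_of_dvd' (dvd_mul_right _ _) (dvd_iff_isRoot.2 h))

theorem sum_single (h4 : 4 ≤ Fintype.card F) {x₀ : Matrix ι ι F} (h1 : 3 ≤ Fintype.card ι) (hd1 : x₀.det ≠ 0)
    {μ : F} [Unique κ] {a : ℕ} (H : AllSR x₀ a) : SRIn (fromBlocks x₀ 0 0 (μ • (1 : Matrix κ κ F))) a := by
  classical
  obtain ⟨d, -, hd⟩ := Finset.exists_mem_notMem_of_card_lt_card (s := ({0, μ ^ a} : Finset F)) (t := Finset.univ)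
    (lt_of_le_of_lt Finset.card_le_two (by rw [Finset.card_univ]; omega))
  simp only [Finset.mem_insert, Finset.mem_singleton, not_or] at hd
  obtain ⟨g, hgm, hgd, hg0, hg⟩ := exists_rootless' h4 (show 2 ≤ Fintype.card ι - 1 by omega)
    (c := -((-1) ^ Fintype.card ι * x₀.det ^ a / d))
    (neg_ne_zero.2 (div_ne_zero (mul_ne_zero (pow_ne_zero _ (neg_ne_zero.2 one_ne_zero)) (pow_ne_zero _ hd1)) hd.1))
  have hm : ((X - Polynomial.C d) * g).Monic := (monic_X_sub_C d).mul hgm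
  obtain ⟨M, hM⟩ := exists_cyc (ι := ι) hm (by
    rw [(monic_X_sub_C d).natDegree_mul hgm, natDegree_X_sub_C, hgd]; omega)
  have hdet : M.det = x₀.det ^ a := det_of_cyc hM (by
    have hd0 := hd.1
    rw [mul_coeff_zero, coeff_zero_lin, hg0]; field_simp)
  have hγ : Cyc (X - Polynomial.C (μ ^ a)) ((μ ^ a) • (1 : Matrix κ κ F)) :=
    Cyc.of_sim (sim_scalar _ (by simp)) (cyc_unit (μ ^ a))
  have hco : IsCoprime ((X - Polynomial.C d) * g) (X - Polynomial.C (μ ^ a)) := by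
    refine IsCoprime.mul_left (coprime_lin ?_) (coprime_lin (hg (μ ^ a))).symm
    simp [sub_eq_zero, hd.2]
  refine ⟨_, _, cyc_blocks hco hM hγ, ⟨d, g * (X - Polynomial.C (μ ^ a)), hgm.mul (monic_X_sub_C _), ?_, mul_assoc _ _ _⟩,
    (H M _ hM ⟨d, g, hgm, hg d, rfl⟩ hdet).blocks (gpr_scalar μ a)⟩
  rw [eval_mul]
  exact mul_ne_zero (hg d) (by simp [sub_eq_zero, hd.2])

section Exact

variable {n : ℕ}

/-- Some cyclic matrix is a product of `a` conjugates under determinant one. -/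
def CycS (x : Matrix ι ι F) (a : ℕ) : Prop :=
  ∃ (M : Matrix ι ι F) (f : F[X]), Cyc f M ∧ Pr x (List.replicate a 1) M

/-- The same with a simple root. -/
def SRS (x : Matrix ι ι F) (a : ℕ) : Prop :=
  ∃ (M : Matrix ι ι F) (g : F[X]), Cyc g M ∧ SimpleRoot g ∧ Pr x (List.replicate a 1) M

omit [Fintype F] in
theorem CycS.of_sim {x : Matrix ι ι F} {y : Matrix κ κ F} (hs : Sim x y) {a : ℕ} (h : CycS y a) : CycS x a := by
  obtain ⟨M, f, hM, hP⟩ := h
  obtain ⟨U, V, h1, h2, rfl⟩ := hs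
  exact ⟨_, f, Cyc.of_sim ⟨U, V, h1, h2, rfl⟩ hM, hP.transport h1 h2⟩

omit [Fintype F] in
theorem SRS.of_sim {x : Matrix ι ι F} {y : Matrix κ κ F} (hs : Sim x y) {a : ℕ} (h : SRS y a) : SRS x a := by
  obtain ⟨M, g, hM, hg, hP⟩ := h
  obtain ⟨U, V, h1, h2, rfl⟩ := hs
  exact ⟨_, g, Cyc.of_sim ⟨U, V, h1, h2, rfl⟩ hM, hg, hP.transport h1 h2⟩

omit [Fintype F] in
theorem SRS.cycS {x : Matrix ι ι F} {a : ℕ} (h : SRS x a) : CycS x a := by
  obtain ⟨M, g, hM, -, hP⟩ := h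
  exact ⟨M, g, hM, hP⟩

omit [Fintype F] in
theorem Flex.replicate {x M : Matrix ι ι F} (hx : Flex x) {a : ℕ} (h : GPr x a M) : Pr x (List.replicate a 1) M := by
  obtain ⟨l, rfl, h⟩ := h
  exact hx.pr h (List.length_replicate ..) fun δ hδ => by rw [List.eq_of_mem_replicate hδ]; exact one_ne_zero

omit [Fintype F] in
theorem Flex.cycS {x : Matrix ι ι F} (hx : Flex x) {a : ℕ} (h : CycIn x a) : CycS x a := by
  obtain ⟨M, f, hM, hP⟩ := h
  exact ⟨M, f, hM, hx.replicate hP⟩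

omit [Fintype F] in
theorem Flex.srS {x : Matrix ι ι F} (hx : Flex x) {a : ℕ} (h : SRIn x a) : SRS x a := by
  obtain ⟨M, g, hM, hg, hP⟩ := h
  exact ⟨M, g, hM, hg, hx.replicate hP⟩

/-- A cyclic class gives every class with a simple root, with exact determinants. -/
theorem all_exact (hn : 3 ≤ n) {x : Matrix (Fin n) (Fin n) F} (hx : ∀ c : F, x ≠ c • 1) (hxd : x.det ≠ 0)
    {A : Matrix (Fin n) (Fin n) F} {f : F[X]} (hA : Cyc f A) {l : List F} (hl : Pr x l A)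
    {S : Matrix (Fin n) (Fin n) F} {g : F[X]} (hS : Cyc g S) (hg : SimpleRoot g)
    (hdet : S.det = x.det ^ (l.length + 1)) {α β : F} (hα : α ≠ 0) (hβ : β ≠ 0) : Pr x (l.map (α * ·) ++ [β]) S := by
  obtain ⟨γ, hP, hγ⟩ := simple_root_mem (by omega) hx hxd hA hS hg hl hdet hα hβ
  rwa [hγ hn] at hP

theorem allS_succ (hn : 3 ≤ n) {x : Matrix (Fin n) (Fin n) F} (hx : ∀ c : F, x ≠ c • 1) (hxd : x.det ≠ 0) {a : ℕ}
    (h : CycS x a) {S : Matrix (Fin n) (Fin n) F} {g : F[X]} (hS : Cyc g S) (hg : SimpleRoot g)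
    (hdet : S.det = x.det ^ (a + 1)) : Pr x (List.replicate (a + 1) 1) S := by
  obtain ⟨A, f, hA, hl⟩ := h
  have := all_exact hn hx hxd hA hl hS hg (by rw [List.length_replicate]; exact hdet)
    (α := (1 : F)) (β := 1) one_ne_zero one_ne_zero
  rw [List.map_replicate, mul_one] at this
  rwa [List.replicate_succ']

theorem allS_of_le (h4 : 4 ≤ Fintype.card F) (hn : 3 ≤ n) {x : Matrix (Fin n) (Fin n) F} (hx : ∀ c : F, x ≠ c • 1)
    (hxd : x.det ≠ 0) {a b : ℕ} (h : CycS x a) (hab : a < b) :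
    ∀ {S : Matrix (Fin n) (Fin n) F} {g : F[X]}, Cyc g S → SimpleRoot g → S.det = x.det ^ b →
      Pr x (List.replicate b 1) S := by
  induction b, hab using Nat.le_induction with
  | base => exact fun hS hg hd => allS_succ hn hx hxd h hS hg hd
  | succ b _ ih =>
    obtain ⟨M, g, hM, hg, hd⟩ := exists_sr_mat (ι := Fin n) h4 (by rw [Fintype.card_fin]; omega) (pow_ne_zero b hxd)
    exact fun hS hg' hd' => allS_succ hn hx hxd ⟨M, g, hM, ih hM hg hd⟩ hS hg' hd'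

/-- A cyclic piece of size at least three absorbs the determinants of the rest. -/
theorem sum_big (h4 : 4 ≤ Fintype.card F) {x₁ : Matrix ι ι F} {f : F[X]} (hf : Cyc f x₁) (h1 : 3 ≤ Fintype.card ι)
    {x₂ : Matrix κ κ F} (h2 : 2 ≤ Fintype.card κ) (hd1 : x₁.det ≠ 0) (hd2 : x₂.det ≠ 0) {a : ℕ} (ha : 2 ≤ a)
    (H2 : AllSR x₂ a) : SRS (fromBlocks x₁ 0 0 x₂) a := by
  let e := Fintype.equivFin ι
  set y := Matrix.reindex e e x₁
  have hy : Sim y x₁ := sim_reindex e x₁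
  have hyd : y.det ≠ 0 := hy.det_eq.symm ▸ hd1
  have hyc : Cyc f y := Cyc.of_sim hy hf
  have hne := Cyc.ne_scalar' hyc (by rw [Fintype.card_fin]; omega)
  have key : ∀ b, 2 ≤ b → ∀ l : List F, l.length = b → (∀ δ ∈ l, δ ≠ 0) →
      ∀ (S : Matrix (Fin (Fintype.card ι)) (Fin (Fintype.card ι)) F) (g : F[X]), Cyc g S → SimpleRoot g →
        S.det = y.det ^ b → Pr y l S := by
    intro b hb
    induction b, hb using Nat.le_induction with
    | base =>
      intro l hl h0 S g hS hg hdet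
      match l, hl with
      | [p, q], _ =>
        have := all_exact h1 hne hyd hyc (pr_singleton_self y) hS hg hdet (α := p) (β := q) (h0 p (by simp))
          (h0 q (by simp))
        simpa using this
    | succ b hb ih =>
      intro l hl h0 S g hS hg hdet
      rcases List.eq_nil_or_concat l with rfl | ⟨l', q, rfl⟩
      · simp at hl
      rw [List.concat_eq_append] at *
      have hl' : l'.length = b := by simpa using hl
      obtain ⟨M, gM, hM, hgM, hdM⟩ := exists_sr_mat (ι := Fin (Fintype.card ι)) h4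
        (by rw [Fintype.card_fin]; omega) (pow_ne_zero b hyd)
      have := all_exact h1 hne hyd hM (ih l' hl' (fun δ hδ => h0 δ (by simp [hδ])) M gM hM hgM hdM) hS hg
        (by rw [hl']; exact hdet) (α := (1 : F)) (β := q) one_ne_zero (h0 q (by simp))
      simpa using this
  have hn : ∀ m : ℕ, ((-1 : F) ^ m) ≠ 0 := fun m => pow_ne_zero m (neg_ne_zero.2 one_ne_zero)
  obtain ⟨R₁, R₂, hm1, hr1, hc1, hs1, hm2, hr2, hc2, hs2, hco⟩ := exists_coprime_pair h4 h1 h2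
    (mul_ne_zero (hn (Fintype.card ι)) (pow_ne_zero a hd1)) (mul_ne_zero (hn (Fintype.card κ)) (pow_ne_zero a hd2))
  obtain ⟨M₁, hM1⟩ := exists_cyc (ι := Fin (Fintype.card ι)) hm1 (by rw [hr1, Fintype.card_fin])
  obtain ⟨M₂, hM2⟩ := exists_cyc (ι := κ) hm2 hr2
  obtain ⟨l, hl, hP2⟩ := H2 M₂ R₂ hM2 hs2 (det_of_cyc hM2 hc2)
  have hl0 := hP2.ne_zero
  have hP1 : Pr y (l.map fun δ => δ⁻¹) M₁ := key a ha _ (by simpa using hl) (fun δ hδ => by
      obtain ⟨ε, hε, rfl⟩ := List.mem_map.1 hδ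
      exact inv_ne_zero (hl0 ε hε)) M₁ R₁ hM1 hs1
    (det_of_cyc hM1 (by rw [hc1, Fintype.card_fin, hy.det_eq]))
  have hB := hP1.blocks hP2 (by simp)
  have hrep : List.zipWith (· * ·) (l.map fun δ => δ⁻¹) l = List.replicate a 1 := by
    refine List.eq_replicate_iff.2 ⟨by simp [hl], fun δ hδ => ?_⟩
    obtain ⟨i, hi, rfl⟩ := List.mem_iff_getElem.1 hδ
    rw [List.getElem_zipWith, List.getElem_map]
    exact inv_mul_cancel₀ (hl0 _ (List.getElem_mem _))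
  rw [hrep] at hB
  refine SRS.of_sim (hy.symm.blocks (Sim.refl x₂)) ⟨_, R₁ * R₂, cyc_blocks hco hM1 hM2, ?_, hB⟩
  obtain ⟨d, g₁, hg1, hgd, rfl⟩ := hs1
  refine ⟨d, g₁ * R₂, hg1.mul hm2, ?_, mul_assoc _ _ _⟩
  rw [eval_mul]
  refine mul_ne_zero hgd fun h => ?_
  exact (irreducible_X_sub_C d).not_isUnit (hco.isUnit_of_dvd' (dvd_mul_right _ _) (dvd_iff_isRoot.2 h))

/-- The inverse of a cyclic matrix with a simple root is one. -/
theorem simpleRoot_inv {S T : Matrix ι ι F} {g : F[X]} (hS : Cyc g S) (hg : SimpleRoot g) (hST : S * T = 1) :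
    Cyc T.charpoly T ∧ SimpleRoot T.charpoly := by
  have hT := cyc_inv hS hST
  refine ⟨hT, ?_⟩
  have hSd := det_ne_zero_of_right_inverse hST
  obtain ⟨d, g₁, hg1, hgd, rfl⟩ := hg
  have hg0 := cyc_coeff_zero_ne hS hSd
  rw [mul_coeff_zero, coeff_zero_lin] at hg0
  have hd : d ≠ 0 := fun h => hg0 (by simp [h])
  have hc : g₁.coeff 0 ≠ 0 := fun h => hg0 (by simp [h])
  set H := CommSL.comp g₁ with hH
  have hHu : IsUnit H.det := by
    refine isUnit_iff_ne_zero.2 ?_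
    rw [hH, det_comp hg1]
    exact mul_ne_zero (pow_ne_zero _ (neg_ne_zero.2 one_ne_zero)) hc
  have hHH : H * H⁻¹ = 1 := mul_nonsing_inv _ hHu
  have hHc := cyc_inv (cyc_comp hg1) hHH
  have hev : H⁻¹.charpoly.eval d⁻¹ ≠ 0 := by
    rw [Matrix.eval_charpoly, Matrix.scalar_apply, ← Matrix.smul_one_eq_diagonal]
    have h1 : (d⁻¹ • 1 - H⁻¹) * H = (-d⁻¹) • (d • (1 : Matrix (Fin g₁.natDegree) (Fin g₁.natDegree) F) - H) := by
      rw [Matrix.sub_mul, Matrix.smul_mul, Matrix.one_mul, nonsing_inv_mul _ hHu, smul_sub, smul_smul, neg_mul,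
        inv_mul_cancel₀ hd, neg_smul, neg_smul, one_smul, sub_neg_eq_add, neg_add_eq_sub]
    intro h0
    have h2 := congrArg Matrix.det h1
    rw [det_mul, h0, zero_mul, det_smul] at h2
    have h3 := Matrix.eval_charpoly H d
    rw [Matrix.scalar_apply, ← Matrix.smul_one_eq_diagonal, (cyc_comp hg1).charpoly_eq] at h3
    rw [← h3] at h2
    exact mul_ne_zero (pow_ne_zero _ (neg_ne_zero.2 (inv_ne_zero hd))) hgd h2.symm
  have hcoS : IsCoprime (X - Polynomial.C d) g₁ := coprime_lin hgd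
  obtain ⟨U, V, h1, h2, hUV⟩ := hS.sim (cyc_blocks hcoS (cyc_unit d) (cyc_comp hg1))
  have hB : fromBlocks (d • (1 : Matrix Unit Unit F)) 0 0 H * fromBlocks (d⁻¹ • (1 : Matrix Unit Unit F)) 0 0 H⁻¹ = 1 := by
    simp [fromBlocks_multiply, smul_smul, inv_mul_cancel₀ hd, hHH, fromBlocks_one]
  have hTeq : T = U * fromBlocks (d⁻¹ • (1 : Matrix Unit Unit F)) 0 0 H⁻¹ * V := by
    have hprod : S * (U * fromBlocks (d⁻¹ • (1 : Matrix Unit Unit F)) 0 0 H⁻¹ * V) = 1 := by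
      rw [hUV]
      calc _ = U * (fromBlocks (d • (1 : Matrix Unit Unit F)) 0 0 H * (V * U) * fromBlocks (d⁻¹ • (1 : Matrix Unit Unit F)) 0 0 H⁻¹) * V := by
            simp only [hH, Matrix.mul_assoc]
        _ = 1 := by rw [h2, Matrix.mul_one, hB, Matrix.mul_one, h1]
    calc T = T * (S * (U * fromBlocks (d⁻¹ • (1 : Matrix Unit Unit F)) 0 0 H⁻¹ * V)) := by rw [hprod, Matrix.mul_one]
      _ = T * S * (U * fromBlocks (d⁻¹ • (1 : Matrix Unit Unit F)) 0 0 H⁻¹ * V) := (Matrix.mul_assoc _ _ _).symm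
      _ = _ := by rw [mul_eq_one_comm.1 hST, Matrix.one_mul]
  refine ⟨d⁻¹, H⁻¹.charpoly, Matrix.charpoly_monic _, hev, ?_⟩
  exact (Cyc.of_sim ⟨U, V, h1, h2, hTeq⟩ (cyc_blocks (coprime_lin hev) (cyc_unit d⁻¹) hHc)).charpoly_eq

/-- All matrices of the right determinant are products of `n` conjugates. -/
def Cover (x : Matrix (Fin n) (Fin n) F) : Prop :=
  (∀ M : Matrix (Fin n) (Fin n) F, (∀ c : F, M ≠ c • 1) → M.det = x.det ^ n → Pr x (List.replicate n 1) M) ∧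
    (x.det = 1 → Pr x (List.replicate n 1) 1)

theorem cover_nonscalar (hn : 3 ≤ n) {x : Matrix (Fin n) (Fin n) F} (hxd : x.det ≠ 0) {a b : ℕ} (hab : a + b = n)
    (ha : CycS x a) (hb : SRS x b) {M : Matrix (Fin n) (Fin n) F} (hM : ∀ c : F, M ≠ c • 1)
    (hdet : M.det = x.det ^ n) : Pr x (List.replicate n 1) M := by
  obtain ⟨A, f, hA, hPA⟩ := ha
  obtain ⟨S, g, hS, hg, hPS⟩ := hb
  obtain ⟨y, z, ε, hy, hz, he, hε⟩ := two_class (by omega) hM hA hS hg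
    (by rw [hdet, hPA.det_eq, hPS.det_eq, List.length_replicate, List.length_replicate, ← pow_add, hab])
    (by rw [hdet]; exact pow_ne_zero _ hxd) (one_ne_zero (α := F)) (one_ne_zero (α := F))
  rw [hε hn] at hy
  obtain ⟨U, V, hUV, hUd, rfl⟩ := hy
  obtain ⟨P, Q, hPQ, hPd, rfl⟩ := hz
  have e1 := hPA.conj hUV
  have e2 := hPS.conj hPQ
  rw [hUd, List.map_replicate, mul_one] at e1
  rw [hPd, List.map_replicate, mul_one] at e2
  have := e1.append e2
  rw [← List.replicate_add, hab] at this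
  rwa [he]

/-- The main criterion. -/
theorem cover_of_cycS (h4 : 4 ≤ Fintype.card F) (hn : 3 ≤ n) {x : Matrix (Fin n) (Fin n) F}
    (hx : ∀ c : F, x ≠ c • 1) (hxd : x.det ≠ 0) {a : ℕ} (ha : CycS x a) (h1 : 2 * a + 1 ≤ n)
    (h2 : 2 * a + 2 ≤ n ∨ SRS x a) : Cover x := by
  have h2n : 2 ≤ Fintype.card (Fin n) := by rw [Fintype.card_fin]; omega
  refine ⟨fun M hM hdet => ?_, fun hdx => ?_⟩
  · obtain ⟨S, g, hS, hg, hd⟩ := exists_sr_mat (ι := Fin n) h4 h2n (pow_ne_zero (n - a) hxd)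
    exact cover_nonscalar hn hxd (show a + (n - a) = n by omega) ha
      ⟨S, g, hS, hg, allS_of_le h4 hn hx hxd ha (by omega) hS hg hd⟩ hM hdet
  · obtain ⟨b, hab, hb⟩ : ∃ b, a < n - b ∧ SRS x b := by
      rcases h2 with h | h
      · obtain ⟨S, g, hS, hg, hd⟩ := exists_sr_mat (ι := Fin n) h4 h2n (pow_ne_zero (a + 1) hxd)
        exact ⟨a + 1, by omega, S, g, hS, hg, allS_succ hn hx hxd ha hS hg hd⟩
      · exact ⟨a, by omega, h⟩
    obtain ⟨S, g, hS, hg, hPS⟩ := hb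
    have hSd : S.det = 1 := by rw [hPS.det_eq, hdx, one_pow]
    have hST : S * S⁻¹ = 1 := mul_nonsing_inv _ (by rw [hSd]; exact isUnit_one)
    obtain ⟨hT, hTg⟩ := simpleRoot_inv hS hg hST
    have hP := hPS.append (allS_of_le h4 hn hx hxd ha hab hT hTg (by
      rw [det_nonsing_inv, hSd, Ring.inverse_one, hdx, one_pow]))
    rwa [hST, ← List.replicate_add, show b + (n - b) = n by omega] at hP

end Exact

end CfsgLib.GLClass.Cover
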