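import Mathlib
import Cfsg.Agent.Lib.GLClass.Cover.Pieces

/-!
Several equal quadratic blocks: two conjugates with a block triangular, cyclic product.
-/

set_option autoImplicit false

namespace CfsgLib.GLClass.Cover

open Polynomial Matrix Module
open CfsgLib.GLClass.CommSL

variable {F : Type*} [Field F] {ι κ : Type*} [Fintype ι] [DecidableEq ι] [Fintype κ] [DecidableEq κ]

theorem aeval_tri_fst (A : Matrix ι ι F) (C : Matrix κ ι F) (D : Matrix κ κ F) (p : F[X]) (a : ι → F) (b : κ → F) :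
    (aeval (fromBlocks A 0 C D) p *ᵥ Sum.elim a b) ∘ Sum.inl = aeval A p *ᵥ a := by
  induction p using Polynomial.induction_on generalizing a b with
  | C c => funext i; simp [Algebra.algebraMap_eq_smul_one, Matrix.smul_mulVec]
  | add p q hp hq =>
    rw [map_add, map_add, Matrix.add_mulVec, Matrix.add_mulVec, ← hp a b, ← hq a b]; rfl
  | monomial n c ih =>
    rw [pow_succ, ← mul_assoc, map_mul (aeval (fromBlocks A 0 C D)) _ X, map_mul (aeval A) _ X,
      ← Matrix.mulVec_mulVec, aeval_X, fromBlocks_mulVec, ih,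
      aeval_X]
    simp [← Matrix.mulVec_mulVec]

theorem aeval_tri_snd (A : Matrix ι ι F) (C : Matrix κ ι F) (D : Matrix κ κ F) (p : F[X]) (b : κ → F) :
    aeval (fromBlocks A 0 C D) p *ᵥ Sum.elim (0 : ι → F) b = Sum.elim (0 : ι → F) (aeval D p *ᵥ b) := by
  induction p using Polynomial.induction_on generalizing b with
  | C c =>
    funext i
    rcases i with i | i <;> simp [Algebra.algebraMap_eq_smul_one, Matrix.smul_mulVec]
  | add p q hp hq =>
    rw [map_add, map_add, Matrix.add_mulVec, Matrix.add_mulVec, hp, hq]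
    funext i
    rcases i with i | i <;> simp
  | monomial n c ih =>
    rw [pow_succ, ← mul_assoc, map_mul (aeval (fromBlocks A 0 C D)) _ X, map_mul (aeval D) _ X,
      ← Matrix.mulVec_mulVec, ← Matrix.mulVec_mulVec, aeval_X, aeval_X,
      fromBlocks_mulVec]
    simp only [Sum.elim_comp_inl, Sum.elim_comp_inr, Matrix.mulVec_zero, Matrix.zero_mulVec, add_zero, zero_add]
    rw [ih]

/-- A block triangular matrix is cyclic if a polynomial kills the first diagonal block and is invertible on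
the second. -/
theorem cyc_tri {φ ψ : F[X]} {A : Matrix ι ι F} {D : Matrix κ κ F} (C : Matrix κ ι F) (hA : Cyc φ A) (hD : Cyc ψ D)
    {p : F[X]} (hpA : aeval A p = 0) (hpD : IsUnit (aeval D p).det) : Cyc (φ * ψ) (fromBlocks A 0 C D) := by
  obtain ⟨hφ, hφd, v₁, hv₁⟩ := hA
  obtain ⟨hψ, hψd, v₂, hv₂⟩ := hD
  set M := fromBlocks A 0 C D
  obtain ⟨q, hq⟩ := (hv₁ p).1 (by rw [hpA, Matrix.zero_mulVec])
  have hu : IsUnit (aeval D φ).det := by
    rw [hq, map_mul, det_mul] at hpD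
    exact isUnit_of_mul_isUnit_left hpD
  set z₀ : κ → F := (aeval M φ *ᵥ Sum.elim v₁ (0 : κ → F)) ∘ Sum.inr
  set w := (aeval D φ)⁻¹ *ᵥ (v₂ - z₀) with hw
  set v := Sum.elim v₁ w with hv
  have hφv : aeval M φ *ᵥ v = Sum.elim (0 : ι → F) v₂ := by
    have hsplit : v = Sum.elim v₁ (0 : κ → F) + Sum.elim (0 : ι → F) w := by
      funext i; rcases i with i | i <;> simp [hv]
    funext i
    rw [hsplit, Matrix.mulVec_add, aeval_tri_snd, hw, Matrix.mulVec_mulVec, mul_nonsing_inv _ hu, Matrix.one_mulVec]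
    rcases i with i | i
    · simp only [Pi.add_apply, Sum.elim_inl, Pi.zero_apply, add_zero]
      have h1 := congrFun (aeval_tri_fst A C D φ v₁ 0) i
      rw [(hv₁ φ).2 dvd_rfl] at h1
      exact h1
    · simp [z₀, M]
  refine ⟨hφ.mul hψ, by rw [hφ.natDegree_mul hψ, hφd, hψd, Fintype.card_sum], v, fun r => ⟨fun hr => ?_, ?_⟩⟩
  · have h1 := aeval_tri_fst A C D r v₁ w
    rw [← hv, hr] at h1
    obtain ⟨q₁, rfl⟩ := (hv₁ r).1 (by rw [← h1]; rfl)
    rw [mul_comm φ q₁, map_mul, ← Matrix.mulVec_mulVec, hφv, aeval_tri_snd] at hr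
    refine mul_dvd_mul_left φ ((hv₂ q₁).1 (funext fun i => ?_))
    exact congrFun hr (Sum.inr i)
  · rintro ⟨q₁, rfl⟩
    rw [mul_comm (φ * ψ) q₁, mul_comm φ ψ, map_mul, map_mul, ← Matrix.mulVec_mulVec, ← Matrix.mulVec_mulVec, hφv,
      aeval_tri_snd, (hv₂ ψ).2 dvd_rfl]
    rw [show Sum.elim (0 : ι → F) (0 : κ → F) = 0 by funext i; rcases i with i | i <;> rfl, Matrix.mulVec_zero]

theorem cyc_smul {φ : F[X]} {M : Matrix ι ι F} (h : Cyc φ M) {c : F} (hc : c ≠ 0) :
    Cyc (c • M).charpoly (c • M) := by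
  obtain ⟨hφ, hd, v, hv⟩ := h
  refine cyc_of_indep (v := v) (charpoly_monic _) (charpoly_natDegree_eq_dim _)
    (by rw [aeval_self_charpoly, Matrix.zero_mulVec]) fun p hp hz => ?_
  have hcM : c • M = aeval M (Polynomial.C c * X) := by rw [map_mul, aeval_C, aeval_X, Algebra.smul_def]
  rw [hcM, ← aeval_comp] at hz
  have h0 : p.comp (Polynomial.C c * X) = 0 := by
    refine eq_zero_of_dvd_of_natDegree_lt ((hv _).1 hz) ?_
    rw [natDegree_comp, natDegree_C_mul_X c hc, mul_one, hd]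
    rwa [charpoly_natDegree_eq_dim] at hp
  rcases comp_eq_zero_iff.1 h0 with h | ⟨-, h⟩
  · exact h
  · have := congrArg natDegree h
    rw [natDegree_C_mul_X c hc, natDegree_C] at this
    omega

theorem aeval_reverse_inv {Y Z : Matrix ι ι F} (h : Y * Z = 1) (p : F[X]) :
    aeval Z p.reverse = Z ^ p.natDegree * aeval Y p := by
  have hcomm : Commute Z Y := (mul_eq_one_comm.1 h).trans h.symm
  rw [aeval_eq_sum_range' (Nat.lt_succ_of_le (reverse_natDegree_le p)), aeval_eq_sum_range, Finset.mul_sum,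
    ← Finset.sum_range_reflect]
  refine Finset.sum_congr rfl fun j hj => ?_
  have hj' : j ≤ p.natDegree := by have := Finset.mem_range.1 hj; omega
  rw [show p.natDegree + 1 - 1 - j = p.natDegree - j by omega, coeff_reverse, revAt_le (by omega),
    Nat.sub_sub_self hj', Matrix.mul_smul]
  congr 1
  conv_rhs => rw [show p.natDegree = (p.natDegree - j) + j by omega, pow_add, mul_assoc]
  rw [← hcomm.mul_pow, mul_eq_one_comm.1 h, one_pow, mul_one]

section Reciprocal

theorem coprime_reverse_self {g : F[X]} (hg : g.Monic) (hi : Irreducible g) (h0 : g.coeff 0 ≠ 0)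
    (h1 : g.coeff 0 ^ 2 ≠ 1) : IsCoprime g g.reverse := by
  refine (hi.coprime_iff_not_dvd).2 fun ⟨u, hu⟩ => ?_
  have hlead : g.reverse.leadingCoeff = g.coeff 0 := by
    rw [reverse_leadingCoeff, trailingCoeff, natTrailingDegree_eq_zero_of_constantCoeff_ne_zero]
    exact h0
  have hne : g.reverse ≠ 0 := fun h => h0 (by rw [← hlead, h, leadingCoeff_zero])
  have hu0 : u ≠ 0 := fun h => hne (by rw [hu, h, mul_zero])
  have hdeg := reverse_natDegree_le g
  rw [hu, natDegree_mul hg.ne_zero hu0] at hdeg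
  obtain ⟨c, rfl⟩ := natDegree_eq_zero.1 (show u.natDegree = 0 by omega)
  have e1 : g.coeff 0 = c := by rw [← hlead, hu, leadingCoeff_mul, hg.leadingCoeff, one_mul, leadingCoeff_C]
  have e2 := coeff_zero_reverse g
  rw [hu, mul_coeff_zero, hg.leadingCoeff, coeff_C_zero, ← e1, ← sq] at e2
  exact h1 e2

theorem reverse_rootless {g : F[X]} (hg : g.Monic) (h : ∀ r, g.eval r ≠ 0) (r : F) : g.reverse.eval r ≠ 0 := by
  rcases eq_or_ne r 0 with rfl | hr
  · rw [← coeff_zero_eq_eval_zero, coeff_zero_reverse, hg.leadingCoeff]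
    exact one_ne_zero
  · letI := invertibleOfNonzero hr
    intro h0
    have h2 := eval₂_reverse_mul_pow (RingHom.id F) (⅟r) g
    rw [invOf_invOf] at h2
    rw [eval] at h0
    rw [h0, zero_mul] at h2
    exact h _ h2.symm

theorem coprime_rootless {g p : F[X]} (hgm : g.Monic) (hgd : g.natDegree ≤ 3) (hg2 : 2 ≤ g.natDegree)
    (hg : ∀ r, g.eval r ≠ 0) (hpd : p.natDegree ≤ 3) (hp : p ≠ 0) (hne : p.natDegree ≠ g.natDegree)
    (hpr : p.natDegree ≤ g.natDegree ∨ ∀ r, p.eval r ≠ 0) : IsCoprime g p := by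
  have hgi : Irreducible g := by
    refine (hgm.irreducible_iff_roots_eq_zero_of_degree_le_three hg2 hgd).2 ?_
    exact Multiset.eq_zero_of_forall_notMem fun r hr => hg r ((mem_roots hgm.ne_zero).1 hr)
  refine (hgi.coprime_iff_not_dvd).2 fun ⟨u, hu⟩ => ?_
  have hu0 : u ≠ 0 := fun h => hp (by rw [hu, h, mul_zero])
  have hd := natDegree_mul hgm.ne_zero hu0
  rw [← hu] at hd
  rcases hpr with h | h
  · omega
  · have hu1 : u.natDegree = 1 := by omega
    obtain ⟨r, hr⟩ := exists_root_of_degree_eq_one (show u.degree = 1 by rw [degree_eq_natDegree hu0, hu1]; rfl)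
    exact h r (by rw [hu, eval_mul, hr, mul_zero])

theorem reverse_pow' (g : F[X]) : ∀ j : ℕ, (g ^ j).reverse = g.reverse ^ j
  | 0 => by rw [pow_zero, pow_zero, ← Polynomial.C_1, reverse_C]
  | j + 1 => by rw [pow_succ, pow_succ, reverse_mul_of_domain, reverse_pow' g j]

theorem coprime_reverse_pow {g : F[X]} (h : IsCoprime g g.reverse) (j : ℕ) : IsCoprime (g ^ j) (g ^ j).reverse := by
  rw [reverse_pow']
  exact h.pow

theorem coprime_reverse_mul {g p : F[X]} (h1 : IsCoprime g g.reverse) (h2 : IsCoprime p p.reverse)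
    (h3 : IsCoprime g p.reverse) (h4 : IsCoprime p g.reverse) : IsCoprime (g * p) (g * p).reverse := by
  rw [reverse_mul_of_domain]
  exact IsCoprime.mul_left (h1.mul_right h3) (h4.mul_right h2)

variable [Fintype F]

theorem exists_sq_ne_one (h4 : 4 ≤ Fintype.card F) : ∃ η : F, η ≠ 0 ∧ η ^ 2 ≠ 1 := by
  classical
  obtain ⟨d, -, hd⟩ := Finset.exists_mem_notMem_of_card_lt_card (s := ({0, 1, -1} : Finset F)) (t := Finset.univ)
    (lt_of_le_of_lt Finset.card_le_three (by rw [Finset.card_univ]; omega))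
  simp only [Finset.mem_insert, Finset.mem_singleton, not_or] at hd
  exact ⟨d, hd.1, fun h => (sq_eq_one_iff.1 h).elim hd.2.1 hd.2.2⟩

/-- A polynomial coprime to its reciprocal whose constant term gives a square determinant. -/
theorem exists_recip_square (h4 : 4 ≤ Fintype.card F) {k : ℕ} (hk : 2 ≤ k) :
    ∃ (h : F[X]) (r : F), h.Monic ∧ h.natDegree = k ∧ r ≠ 0 ∧ h.coeff 0 = (-1) ^ k * r ^ 2 ∧
      IsCoprime h h.reverse := by
  obtain ⟨η, hη, hη2⟩ := exists_sq_ne_one h4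
  have hlin : IsCoprime (X - Polynomial.C η) (X - Polynomial.C η).reverse :=
    coprime_reverse_self (monic_X_sub_C η) (irreducible_X_sub_C η) (by simp [hη]) (by simp [hη2])
  rcases Nat.even_or_odd' k with ⟨j, rfl | rfl⟩
  · refine ⟨(X - Polynomial.C η) ^ (2 * j), η ^ j, (monic_X_sub_C η).pow _, ?_, pow_ne_zero _ hη, ?_,
      coprime_reverse_pow hlin _⟩
    · rw [(monic_X_sub_C η).natDegree_pow, natDegree_X_sub_C, mul_one]
    · rw [coeff_zero_eq_eval_zero, eval_pow, eval_sub, eval_X, eval_C, zero_sub, neg_pow, ← pow_mul, mul_comm j 2]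
  · obtain ⟨i, rfl⟩ : ∃ i, j = i + 1 := ⟨j - 1, by omega⟩
    obtain ⟨g, hgm, hgd, hg0, hg⟩ := exists_rootless' h4 (m := 2) le_rfl hη
    have hgi : Irreducible g := by
      refine (hgm.irreducible_iff_roots_eq_zero_of_degree_le_three (by omega) (by omega)).2 ?_
      exact Multiset.eq_zero_of_forall_notMem fun r hr => hg r ((mem_roots hgm.ne_zero).1 hr)
    refine ⟨(X - Polynomial.C η) ^ (2 * i + 1) * g, η ^ (i + 1), ((monic_X_sub_C η).pow _).mul hgm, ?_,
      pow_ne_zero _ hη, ?_, coprime_reverse_mul (coprime_reverse_pow hlin _)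
        (coprime_reverse_self hgm hgi (hg0 ▸ hη) (hg0 ▸ hη2)) ?_ ?_⟩
    · rw [((monic_X_sub_C η).pow _).natDegree_mul hgm, (monic_X_sub_C η).natDegree_pow, natDegree_X_sub_C, hgd]; omega
    · rw [mul_coeff_zero, hg0, coeff_zero_eq_eval_zero, eval_pow, eval_sub, eval_X, eval_C, zero_sub, neg_pow,
        show 2 * (i + 1) + 1 = 2 * i + 1 + 2 by ring, pow_add (-1 : F) (2 * i + 1) 2, neg_one_sq, mul_one, ← pow_mul]
      ring
    · exact (coprime_lin (reverse_rootless hgm hg η)).pow_left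
    · rw [reverse_pow']
      refine IsCoprime.pow_right ?_
      have hd1 : (X - Polynomial.C η).reverse.natDegree ≤ 1 := (reverse_natDegree_le _).trans (natDegree_X_sub_C_le η)
      exact coprime_rootless hgm (by omega) (by omega) hg (by omega) (fun h => X_sub_C_ne_zero η (reverse_eq_zero.1 h))
        (by omega) (Or.inl (by omega))

/-- A rootless polynomial coprime to its reciprocal. -/
theorem exists_recip_rootless (h4 : 4 ≤ Fintype.card F) {k : ℕ} (hk : 2 ≤ k) :
    ∃ h : F[X], h.Monic ∧ h.natDegree = k ∧ (∀ r, h.eval r ≠ 0) ∧ IsCoprime h h.reverse := by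
  obtain ⟨c, hc, hc2⟩ := exists_sq_ne_one h4
  obtain ⟨g, hgm, hgd, hg0, hg⟩ := exists_rootless' h4 (m := 2) le_rfl hc
  obtain ⟨p, hpm, hpd, hp0, hp⟩ := exists_rootless' h4 (m := 3) (by omega) hc
  have hirr : ∀ f : F[X], f.Monic → 2 ≤ f.natDegree → f.natDegree ≤ 3 → (∀ r, f.eval r ≠ 0) → Irreducible f := by
    intro f hf h2 h3 hr
    refine (hf.irreducible_iff_roots_eq_zero_of_degree_le_three h2 h3).2 ?_
    exact Multiset.eq_zero_of_forall_notMem fun r hr' => hr r ((mem_roots hf.ne_zero).1 hr')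
  have hgg := coprime_reverse_self hgm (hirr g hgm (by omega) (by omega) hg) (hg0 ▸ hc) (hg0 ▸ hc2)
  rcases Nat.even_or_odd' k with ⟨j, rfl | rfl⟩
  · refine ⟨g ^ j, hgm.pow j, by rw [hgm.natDegree_pow, hgd, mul_comm], fun r => ?_, coprime_reverse_pow hgg j⟩
    rw [eval_pow]
    exact pow_ne_zero _ (hg r)
  · obtain ⟨i, rfl⟩ : ∃ i, j = i + 1 := ⟨j - 1, by omega⟩
    have hrd : ∀ {f : F[X]}, f.coeff 0 ≠ 0 → f.reverse.natDegree = f.natDegree := fun {f} h => by
      rw [reverse_natDegree, natTrailingDegree_eq_zero_of_constantCoeff_ne_zero h, Nat.sub_zero]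
    refine ⟨p * g ^ i, hpm.mul (hgm.pow i), ?_, fun r => ?_, coprime_reverse_mul
      (coprime_reverse_self hpm (hirr p hpm (by omega) (by omega) hp) (hp0 ▸ hc) (hp0 ▸ hc2))
      (coprime_reverse_pow hgg i) ?_ ?_⟩
    · rw [hpm.natDegree_mul (hgm.pow i), hgm.natDegree_pow, hgd, hpd]; ring
    · rw [eval_mul, eval_pow]
      exact mul_ne_zero (hp r) (pow_ne_zero _ (hg r))
    · rw [reverse_pow']
      refine IsCoprime.pow_right (coprime_rootless hpm (by omega) (by omega) hp ?_ ?_ ?_ (Or.inr (reverse_rootless hgm hg)))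
      · rw [hrd (hg0 ▸ hc), hgd]; omega
      · exact fun h => hgm.ne_zero (reverse_eq_zero.1 h)
      · rw [hrd (hg0 ▸ hc), hgd, hpd]; omega
    · refine IsCoprime.pow_left (coprime_rootless hgm (by omega) (by omega) hg ?_ ?_ ?_ (Or.inr (reverse_rootless hpm hp)))
      · rw [hrd (hp0 ▸ hc), hpd]
      · exact fun h => hpm.ne_zero (reverse_eq_zero.1 h)
      · rw [hrd (hp0 ▸ hc), hgd, hpd]; omega

end Reciprocal

section QX

variable (α β : Type*) [Fintype α] [DecidableEq α] [Fintype β] [DecidableEq β]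

/-- Copies of the companion matrix of `X ^ 2 - τ X + δ`, as four blocks. -/
def QX (τ δ : F) : Matrix (α ⊕ α) (α ⊕ α) F := fromBlocks 0 ((-δ) • 1) 1 (τ • 1)

theorem det_qx (τ δ : F) : (QX α τ δ).det = δ ^ Fintype.card α := by
  have : QX α τ δ = fromBlocks 0 1 1 0 * fromBlocks 1 (τ • 1) 0 ((-δ) • 1) := by
    rw [QX, fromBlocks_multiply]; simp
  rw [this, det_mul, det_fromBlocks_zero₂₁, det_one, det_smul, det_one, mul_one, one_mul]
  have h1 : (fromBlocks 0 1 1 0 : Matrix (α ⊕ α) (α ⊕ α) F).det = (-1) ^ Fintype.card α := by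
    have e : (fromBlocks 0 1 1 0 : Matrix (α ⊕ α) (α ⊕ α) F) =
        fromBlocks 1 1 0 1 * fromBlocks (-1) 0 1 1 * fromBlocks 1 (-1) 0 1 := by
      simp [fromBlocks_multiply]
    rw [e, det_mul, det_mul, det_fromBlocks_zero₂₁, det_fromBlocks_zero₁₂, det_fromBlocks_zero₂₁]
    simp [det_neg]
  rw [h1, ← mul_pow, neg_one_mul, neg_neg]

theorem sim_qx_blocks (τ δ : F) :
    Sim (fromBlocks (QX α τ δ) 0 0 (QX β τ δ)) (QX (α ⊕ β) τ δ) := by
  let e : (α ⊕ β) ⊕ (α ⊕ β) ≃ (α ⊕ α) ⊕ (β ⊕ β) := Equiv.sumSumSumComm α β α β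
  have : fromBlocks (QX α τ δ) 0 0 (QX β τ δ) = Matrix.reindex e e (QX (α ⊕ β) τ δ) := by
    ext i j
    rcases i with (i | i) | (i | i) <;> rcases j with (j | j) | (j | j) <;>
      simp [QX, e, Equiv.sumSumSumComm, Matrix.one_apply]
  exact this ▸ sim_reindex e _

theorem sim_qx_congr {α β : Type*} [Fintype α] [DecidableEq α] [Fintype β] [DecidableEq β] (e : α ≃ β) (τ δ : F) :
    Sim (QX β τ δ) (QX α τ δ) := by
  have : QX β τ δ = Matrix.reindex (e.sumCongr e) (e.sumCongr e) (QX α τ δ) := by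
    ext i j
    rcases i with i | i <;> rcases j with j | j <;> simp [QX, Matrix.one_apply]
  exact this ▸ sim_reindex _ _

theorem cyc_qx_one (τ δ : F) :
    Cyc (X ^ 2 - Polynomial.C τ * X + Polynomial.C δ) (QX Unit τ δ) := by
  have hq : X ^ 2 - Polynomial.C τ * X + Polynomial.C δ = X ^ 2 + (Polynomial.C (-τ) * X + Polynomial.C δ) := by
    rw [map_neg]; ring
  have hlt : (Polynomial.C (-τ) * X + Polynomial.C δ).degree < ((2 : ℕ) : WithBot ℕ) :=
    lt_of_le_of_lt degree_linear_le (by norm_num)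
  have hdeg : (X ^ 2 - Polynomial.C τ * X + Polynomial.C δ).natDegree = 2 := by
    refine natDegree_eq_of_degree_eq_some ?_
    rw [hq, degree_add_eq_left_of_degree_lt (by rwa [degree_X_pow]), degree_X_pow]
  refine cyc_of_indep (v := Sum.elim 1 0) (hq ▸ monic_X_pow_add hlt) ?_ ?_ fun p hp hz => ?_
  · rw [hdeg]
    simp
  · rw [map_add, map_sub, map_mul, aeval_C, aeval_C, aeval_X, map_pow, aeval_X, Matrix.add_mulVec, Matrix.sub_mulVec,
      Algebra.algebraMap_eq_smul_one, Algebra.algebraMap_eq_smul_one, sq, Matrix.smul_mul, Matrix.one_mul,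
      Matrix.smul_mulVec, Matrix.smul_mulVec, Matrix.one_mulVec, ← Matrix.mulVec_mulVec, QX, fromBlocks_mulVec]
    funext i
    rcases i with i | i <;> simp [fromBlocks_mulVec, Matrix.smul_mulVec, Matrix.neg_mulVec]
  · have hp1 : p.natDegree < 2 := hdeg ▸ hp
    rw [aeval_eq_sum_range' hp1, Finset.sum_range_succ, Finset.sum_range_one, Matrix.add_mulVec, Matrix.smul_mulVec,
      Matrix.smul_mulVec, pow_zero, pow_one, Matrix.one_mulVec, QX, fromBlocks_mulVec] at hz
    have h1 := congrFun hz (Sum.inl ())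
    have h2 := congrFun hz (Sum.inr ())
    simp [Matrix.smul_mulVec] at h1 h2
    ext i
    rcases i with _ | _ | i
    · simpa using h1
    · simpa using h2
    · rw [coeff_zero, coeff_eq_zero_of_natDegree_lt (by omega)]

theorem sim_cm_replicate {f : F[X]} (hf : f.Monic) (hd : f.natDegree = 2) : ∀ k : ℕ,
    Sim (CM (List.replicate k f)) (QX (Fin k) (-f.coeff 1) (f.coeff 0))
  | 0 => by
    rw [List.replicate_zero]
    haveI : IsEmpty (Idx ([] : List F[X])) := inferInstanceAs (IsEmpty (Fin 0))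
    have : CM ([] : List F[X]) = Matrix.reindex (Equiv.equivOfIsEmpty (Fin 0 ⊕ Fin 0) _) (Equiv.equivOfIsEmpty (Fin 0 ⊕ Fin 0) _)
        (QX (Fin 0) (-f.coeff 1) (f.coeff 0)) := Matrix.ext fun i => isEmptyElim i
    exact this ▸ sim_reindex _ _
  | k + 1 => by
    have hf' : f = X ^ 2 - Polynomial.C (-f.coeff 1) * X + Polynomial.C (f.coeff 0) := by
      conv_lhs => rw [hf.as_sum, hd, Finset.sum_range_succ, Finset.sum_range_one]
      rw [map_neg]; ring
    rw [List.replicate_succ]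
    refine (cm_cons f _).trans (((Cyc.sim (cyc_comp hf) ?_).blocks (sim_cm_replicate hf hd k)).trans
      ((sim_qx_blocks Unit (Fin k) _ _).trans (sim_qx_congr ?_ _ _)))
    · have hq := cyc_qx_one (-f.coeff 1) (f.coeff 0)
      rwa [← hf'] at hq
    · exact ((finSuccEquiv k).trans ((Equiv.optionEquivSumPUnit _).trans (Equiv.sumComm _ _)))

variable {α}

/-- Two conjugates with a cyclic product. -/
theorem qx_two {τ δ : F} (hδ : δ ≠ 0) {Y Z : Matrix α α F} {h : F[X]} (hY : Cyc h Y) (hYZ : Y * Z = 1)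
    (hco : IsCoprime h h.reverse) :
    ∃ M : Matrix (α ⊕ α) (α ⊕ α) F, Cyc M.charpoly M ∧ Pr (QX α τ δ) [1, Y.det] M ∧
      ((∀ r, h.eval r ≠ 0) → ∀ r, M.charpoly.eval r ≠ 0) := by
  have hZY := mul_eq_one_comm.1 hYZ
  set x := QX α τ δ with hx
  set U : Matrix (α ⊕ α) (α ⊕ α) F := fromBlocks Y (τ • Y) 0 1 with hU
  set V : Matrix (α ⊕ α) (α ⊕ α) F := fromBlocks Z ((-τ) • 1) 0 1 with hV
  have hUV : U * V = 1 := by
    rw [hU, hV, fromBlocks_multiply, ← fromBlocks_one]; simp [hYZ, Matrix.mul_smul]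
  have hy : ConjD Y.det x (fromBlocks (τ • 1) ((-δ) • Y) Z 0) := by
    refine ⟨U, V, hUV, by rw [hU, det_fromBlocks_zero₂₁, det_one, mul_one], ?_⟩
    rw [hU, hV, hx, QX, fromBlocks_multiply, fromBlocks_multiply]
    congr 1 <;> simp [Matrix.mul_smul, Matrix.smul_mul, hYZ, smul_smul, Matrix.mul_assoc]
  set M := x * fromBlocks (τ • 1) ((-δ) • Y) Z 0 with hM
  have hMeq : M = fromBlocks ((-δ) • Z) 0 (τ • (1 + Z)) ((-δ) • Y) := by
    rw [hM, hx, QX, fromBlocks_multiply]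
    congr 1 <;> simp [Matrix.smul_mul, smul_add]
  have hδ' : -δ ≠ 0 := neg_ne_zero.2 hδ
  have hA := cyc_smul (cyc_inv hY hYZ) hδ'
  have hD := cyc_smul hY hδ'
  set p := h.reverse.comp (Polynomial.C (-δ)⁻¹ * X) with hp
  have hev : ∀ W : Matrix α α F, aeval ((-δ) • W) p = aeval W h.reverse := fun W => by
    rw [hp, aeval_comp, map_mul, aeval_C, aeval_X, ← Algebra.smul_def, smul_smul, inv_mul_cancel₀ hδ', one_smul]
  have hpA : aeval ((-δ) • Z) p = 0 := by
    rw [hev, aeval_reverse_inv hYZ]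
    rw [show aeval Y h = 0 by rw [← hY.charpoly_eq]; exact aeval_self_charpoly Y, mul_zero]
  have hpD : IsUnit (aeval ((-δ) • Y) p).det := by
    rw [hev]
    obtain ⟨a, b, hab⟩ := hco
    have h1 := congrArg (aeval Y) hab
    rw [map_add, map_mul, map_mul, map_one, show aeval Y h = 0 by rw [← hY.charpoly_eq]; exact aeval_self_charpoly Y,
      mul_zero, zero_add] at h1
    exact isUnit_iff_ne_zero.2 (det_ne_zero_of_left_inverse h1)
  have hc := cyc_tri (τ • (1 + Z)) hA hD hpA hpD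
  rw [← hMeq] at hc
  refine ⟨M, hc.charpoly_eq.symm ▸ hc, ⟨x, _, ConjD.refl x, pr_singleton hy, rfl⟩, fun hr r => ?_⟩
  rw [hc.charpoly_eq, eval_mul]
  have key : ∀ s : F, (s • 1 - Y).det ≠ 0 := fun s => by
    have := Matrix.eval_charpoly Y s
    rw [hY.charpoly_eq, Matrix.scalar_apply, ← Matrix.smul_one_eq_diagonal] at this
    exact this ▸ hr s
  rw [Matrix.eval_charpoly, Matrix.eval_charpoly, Matrix.scalar_apply, ← Matrix.smul_one_eq_diagonal]
  refine mul_ne_zero (fun h0 => ?_) (fun h0 => key (r / -δ) ?_)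
  · have h1 : (r • 1 - (-δ) • Z) * Y = r • Y - (-δ) • 1 := by
      rw [Matrix.sub_mul, Matrix.smul_mul, Matrix.smul_mul, Matrix.one_mul, hZY]
    have h2 := congrArg Matrix.det h1
    rw [det_mul, h0, zero_mul] at h2
    rcases eq_or_ne r 0 with rfl | hr0
    · rw [zero_smul, zero_sub, det_neg, det_smul, det_one, mul_one] at h2
      exact mul_ne_zero (pow_ne_zero _ (neg_ne_zero.2 one_ne_zero)) (pow_ne_zero _ hδ') h2.symm
    · refine key (-δ / r) ?_
      have h3 : r • Y - (-δ) • 1 = (-r) • ((-δ / r) • (1 : Matrix α α F) - Y) := by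
        rw [smul_sub, smul_smul, neg_smul, neg_smul, sub_neg_eq_add, show -r * (-δ / r) = δ by field_simp]
        abel
      rw [h3, det_smul] at h2
      exact (mul_eq_zero.1 h2.symm).resolve_left (pow_ne_zero _ (neg_ne_zero.2 hr0))
  · have h1 : r • 1 - (-δ) • Y = (-δ) • ((r / -δ) • (1 : Matrix α α F) - Y) := by
      rw [smul_sub, smul_smul, mul_div_cancel₀ _ hδ']
    rw [h1, det_smul] at h0
    exact (mul_eq_zero.1 h0).resolve_left (pow_ne_zero _ hδ')

theorem qx_centralizer (τ δ : F) (A : Matrix α α F) (hA : A.det ≠ 0) :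
    ConjD (A.det * A.det) (QX α τ δ) (QX α τ δ) := by
  refine ⟨fromBlocks A 0 0 A, fromBlocks A⁻¹ 0 0 A⁻¹, ?_, det_fromBlocks_zero₁₂ _ _ _, ?_⟩
  · simp [fromBlocks_multiply, mul_nonsing_inv _ (isUnit_iff_ne_zero.2 hA)]
  · simp [QX, fromBlocks_multiply, mul_nonsing_inv _ (isUnit_iff_ne_zero.2 hA)]

variable [Fintype F]

theorem qx_cycS (h4 : 4 ≤ Fintype.card F) (hα : 2 ≤ Fintype.card α) {τ δ : F} (hδ : δ ≠ 0) :
    CycS (QX α τ δ) 2 := by
  obtain ⟨h, r, hm, hd, hr, h0, hco⟩ := exists_recip_square h4 hα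
  obtain ⟨Y, hY⟩ := exists_cyc (ι := α) hm hd
  have hYd : Y.det = r ^ 2 := det_of_cyc hY h0
  obtain ⟨M, hM, ⟨y, N, hy, ⟨z, N', hz, hN', rfl⟩, rfl⟩, -⟩ :=
    qx_two (τ := τ) hδ hY (mul_nonsing_inv Y (isUnit_iff_ne_zero.2 (hYd ▸ pow_ne_zero 2 hr))) hco
  obtain ⟨i⟩ : Nonempty α := Fintype.card_pos_iff.1 (by omega)
  have hA : (diagonal fun j => if j = i then r⁻¹ else 1 : Matrix α α F).det = r⁻¹ := by
    rw [det_diagonal, Finset.prod_ite_eq' Finset.univ i (fun _ => r⁻¹)]; simp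
  have hc := qx_centralizer τ δ (diagonal fun j => if j = i then r⁻¹ else 1) (by rw [hA]; exact inv_ne_zero hr)
  rw [hA] at hc
  have hz' := hc.trans hz
  rw [hYd, show r ^ 2 * (r⁻¹ * r⁻¹) = 1 by field_simp] at hz'
  exact ⟨_, _, hM, y, _, hy, ⟨z, N', hz', hN', rfl⟩, rfl⟩

theorem qx_single_srIn (h4 : 4 ≤ Fintype.card F) (hα : 2 ≤ Fintype.card α) {τ δ μ : F} (hδ : δ ≠ 0)
    {ν : Type*} [Fintype ν] [DecidableEq ν] [Unique ν] :
    SRIn (fromBlocks (QX α τ δ) 0 0 (μ • (1 : Matrix ν ν F))) 2 := by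
  obtain ⟨h, hm, hd, hr, hco⟩ := exists_recip_rootless h4 hα
  obtain ⟨Y, hY⟩ := exists_cyc (ι := α) hm hd
  have hYd : Y.det ≠ 0 := by
    rw [cyc_det_eq hY, coeff_zero_eq_eval_zero]
    exact mul_ne_zero (pow_ne_zero _ (neg_ne_zero.2 one_ne_zero)) (hr 0)
  obtain ⟨M, hM, hP, hMr⟩ := qx_two (τ := τ) hδ hY (mul_nonsing_inv Y (isUnit_iff_ne_zero.2 hYd)) hco
  have hγ : Cyc (X - Polynomial.C (μ ^ 2)) ((μ ^ 2) • (1 : Matrix ν ν F)) :=
    Cyc.of_sim (sim_scalar _ (by simp)) (cyc_unit (μ ^ 2))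
  refine ⟨_, _, cyc_blocks (coprime_lin (hMr hr _)).symm hM hγ,
    ⟨μ ^ 2, M.charpoly, charpoly_monic _, hMr hr _, mul_comm _ _⟩, GPr.blocks ⟨_, rfl, hP⟩ (gpr_scalar μ 2)⟩

end QX

end CfsgLib.GLClass.Cover
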