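import Mathlib
import Cfsg.Agent.Lib.GLClass.Cover.QPiece

/-!
A normal form by blocks: equal singles, equal quadratic blocks, and blocks of size at least three.
-/

set_option autoImplicit false

namespace CfsgLib.GLClass.Cover

open Polynomial Matrix Module
open CfsgLib.GLClass.CommSL

variable {F : Type*} [Field F] {ι κ : Type*} [Fintype ι] [DecidableEq ι] [Fintype κ] [DecidableEq κ]

theorem card_idx : ∀ l : List F[X], Fintype.card (Idx l) = (l.map natDegree).sum
  | [] => Fintype.card_fin 0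
  | φ :: l => by
    rw [List.map_cons, List.sum_cons, ← card_idx l]
    exact Fintype.card_sum.trans (by rw [Fintype.card_fin])

theorem gen_cyc {f : F[X]} {M : Matrix ι ι F} (h : Cyc f M) : Gen M 1 := by
  obtain ⟨hf, hd, v, hv⟩ := h
  refine ⟨fun _ => v, fun S hS hmem => ?_⟩
  have hli := linearIndependent_pow hf hv
  have hpow : ∀ i : ℕ, (M ^ i) *ᵥ v ∈ S := by
    intro i
    induction i with
    | zero => rw [pow_zero, Matrix.one_mulVec]; exact hmem 0
    | succ i ih => rw [pow_succ', ← Matrix.mulVec_mulVec]; exact hS _ ih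
  refine eq_top_iff.2 ?_
  rw [← hli.span_eq_top_of_card_eq_finrank' (by rw [Fintype.card_fin, Module.finrank_pi, hd])]
  exact Submodule.span_le.2 (Set.range_subset_iff.2 fun i => hpow i)

theorem gen_blocks {A : Matrix ι ι F} {D : Matrix κ κ F} {a b : ℕ} (hA : Gen A a) (hD : Gen D b) :
    Gen (fromBlocks A 0 0 D) (a + b) := by
  obtain ⟨u, hu⟩ := hA
  obtain ⟨w, hw⟩ := hD
  refine ⟨Fin.append (fun i => Sum.elim (u i) 0) fun i => Sum.elim 0 (w i), fun S hS hmem => ?_⟩
  let L : (ι → F) →ₗ[F] (ι ⊕ κ → F) :=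
    { toFun := fun z => Sum.elim z 0
      map_add' := fun z z' => by funext i; rcases i with i | i <;> simp
      map_smul' := fun c z => by funext i; rcases i with i | i <;> simp }
  let R : (κ → F) →ₗ[F] (ι ⊕ κ → F) :=
    { toFun := fun z => Sum.elim 0 z
      map_add' := fun z z' => by funext i; rcases i with i | i <;> simp
      map_smul' := fun c z => by funext i; rcases i with i | i <;> simp }
  have h1 := hu (S.comap L) (fun z hz => by
    have := hS _ hz
    rw [Submodule.mem_comap] at hz ⊢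
    simpa [L, fromBlocks_mulVec] using this) (fun i => by
    have := hmem (Fin.castAdd b i)
    rw [Fin.append_left] at this
    exact this)
  have h2 := hw (S.comap R) (fun z hz => by
    have := hS _ hz
    rw [Submodule.mem_comap] at hz ⊢
    simpa [R, fromBlocks_mulVec] using this) (fun i => by
    have := hmem (Fin.natAdd a i)
    rw [Fin.append_right] at this
    exact this)
  refine Submodule.eq_top_iff'.2 fun z => ?_
  have e : z = L (z ∘ Sum.inl) + R (z ∘ Sum.inr) := by funext i; rcases i with i | i <;> simp [L, R]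
  rw [e]
  exact add_mem (show z ∘ Sum.inl ∈ S.comap L from h1 ▸ Submodule.mem_top)
    (show z ∘ Sum.inr ∈ S.comap R from h2 ▸ Submodule.mem_top)

theorem gen_cm : ∀ {l : List F[X]}, (∀ φ ∈ l, φ.Monic) → Gen (CM l) l.length
  | [], _ => by
    haveI : IsEmpty (Idx ([] : List F[X])) := inferInstanceAs (IsEmpty (Fin 0))
    exact ⟨fun i => i.elim0, fun S _ _ => Submodule.eq_top_iff'.2 fun z => (Subsingleton.elim 0 z) ▸ S.zero_mem⟩
  | φ :: l, h => by
    have := gen_blocks (gen_cyc (cyc_comp (h φ (by simp)))) (gen_cm fun ψ hψ => h ψ (List.mem_cons_of_mem _ hψ))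
    rw [Nat.add_comm] at this
    exact gen_of_sim (cm_cons φ l) this

theorem sim_cm_scalar (μ : F) : ∀ s : ℕ,
    Sim (CM (List.replicate s (X - Polynomial.C μ))) (μ • (1 : Matrix (Fin s) (Fin s) F))
  | 0 => by
    rw [List.replicate_zero]
    haveI : IsEmpty (Idx ([] : List F[X])) := inferInstanceAs (IsEmpty (Fin 0))
    have : CM ([] : List F[X]) = Matrix.reindex (Equiv.equivOfIsEmpty (Fin 0) _) (Equiv.equivOfIsEmpty (Fin 0) _)
        (μ • (1 : Matrix (Fin 0) (Fin 0) F)) := Matrix.ext fun i => isEmptyElim i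
    exact this ▸ sim_reindex _ _
  | s + 1 => by
    rw [List.replicate_succ]
    exact (cm_cons _ _).trans ((((cyc_comp (monic_X_sub_C μ)).sim (cyc_unit μ)).blocks (sim_cm_scalar μ s)).trans
      ((sim_smul_blocks μ).trans (sim_scalar μ (by simp [Nat.add_comm]))))

theorem ne_scalar_blocks {A : Matrix ι ι F} (D : Matrix κ κ F) (h : ∀ c : F, A ≠ c • 1) (c : F) :
    fromBlocks A 0 0 D ≠ c • 1 := by
  intro he
  rw [← fromBlocks_one, fromBlocks_smul, fromBlocks_inj] at he
  exact h c he.1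

theorem ne_scalar_cm {l : List F[X]} {b : F[X]} (hb : b ∈ l) (hm : b.Monic) (hd : 2 ≤ b.natDegree) (c : F) :
    CM l ≠ c • 1 := by
  classical
  exact sim_ne_scalar ((cm_perm (List.perm_cons_erase hb)).trans (cm_cons b _))
    (ne_scalar_blocks _ (Cyc.ne_scalar' (cyc_comp hm) (by rw [Fintype.card_fin]; exact hd))) c

section NormalForm

/-- The list of blocks in normal form. -/
noncomputable def blockList (μ : F) (s k : ℕ) (f : F[X]) (B : List F[X]) : List F[X] :=
  List.replicate s (X - Polynomial.C μ) ++ (B ++ List.replicate k f)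

theorem exists_form [Fintype F] (x : Matrix ι ι F) :
    ∃ (μ : F) (s k : ℕ) (f : F[X]) (B : List F[X]), (∀ b ∈ B, b.Monic ∧ 3 ≤ b.natDegree) ∧
      (0 < k → f.Monic ∧ f.natDegree = 2) ∧ (0 < s → 0 < k → f.eval μ = 0) ∧ Sim x (CM (blockList μ s k f B)) := by
  classical
  let P : List F[X] → Prop := fun l => (∀ φ ∈ l, φ.Monic ∧ 1 ≤ φ.natDegree) ∧ Sim x (CM l)
  let c2 : List F[X] → ℕ := fun l => l.countP fun φ => decide (φ.natDegree = 2)
  have hex : ∃ r, ∃ l, P l ∧ l.length = r := by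
    obtain ⟨l, hl, hs⟩ := exists_cm x
    refine ⟨_, l, ⟨fun φ hφ => ?_, hs⟩, rfl⟩
    obtain ⟨p, e, hp, hpi, he, rfl⟩ := hl φ hφ
    refine ⟨hp.pow e, ?_⟩
    rw [hp.natDegree_pow]
    exact Nat.one_le_iff_ne_zero.2 (Nat.mul_ne_zero he.ne' hpi.natDegree_pos.ne')
  have hex2 : ∃ r, ∃ l, P l ∧ l.length = Nat.find hex ∧ c2 l = r := by
    obtain ⟨l, h1, h2⟩ := Nat.find_spec hex
    exact ⟨_, l, h1, h2, rfl⟩
  obtain ⟨l, ⟨hl, hs⟩, hlen, hc2⟩ := Nat.find_spec hex2
  have hco : ∀ φ ∈ l, ∀ ψ ∈ l, φ ≠ ψ → ¬ IsCoprime φ ψ := by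
    intro φ hφ ψ hψ hne hc
    have hψ' : ψ ∈ l.erase φ := (List.mem_erase_of_ne hne.symm).2 hψ
    have hperm : l.Perm (φ :: ψ :: (l.erase φ).erase ψ) :=
      (List.perm_cons_erase hφ).trans ((List.perm_cons_erase hψ').cons φ)
    set rest := (l.erase φ).erase ψ
    refine Nat.find_min hex (show rest.length + 1 < Nat.find hex from ?_)
      ⟨(φ * ψ) :: rest, ⟨fun χ hχ => ?_, hs.trans ((cm_perm hperm).trans (cm_merge (hl φ hφ).1 (hl ψ hψ).1 hc rest))⟩, rfl⟩
    · rw [← hlen, hperm.length_eq]; simp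
    · rcases List.mem_cons.1 hχ with rfl | hχ
      · refine ⟨(hl φ hφ).1.mul (hl ψ hψ).1, ?_⟩
        rw [(hl φ hφ).1.natDegree_mul (hl ψ hψ).1]
        have := (hl φ hφ).2
        omega
      · exact hl χ (List.mem_of_mem_erase (List.mem_of_mem_erase hχ))
  -- the quadratic blocks agree
  have hquad : ∀ φ ∈ l, ∀ ψ ∈ l, φ.natDegree = 2 → ψ.natDegree = 2 → φ = ψ := by
    intro φ hφ ψ hψ hdφ hdψ
    by_contra hne
    obtain ⟨hmφ, -⟩ := hl φ hφ
    obtain ⟨hmψ, -⟩ := hl ψ hψ
    have hroot : ∃ r, φ.eval r = 0 := by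
      by_contra hno
      push Not at hno
      have hirr : Irreducible φ := by
        refine (hmφ.irreducible_iff_roots_eq_zero_of_degree_le_three (by omega) (by omega)).2 ?_
        exact Multiset.eq_zero_of_forall_notMem fun r hr => hno r ((mem_roots hmφ.ne_zero).1 hr)
      refine hco φ hφ ψ hψ hne (hirr.coprime_iff_not_dvd.2 fun hd => hne ?_)
      exact (eq_of_monic_of_dvd_of_natDegree_le hmφ hmψ hd (by omega)).symm
    have hfac : ∀ {χ : F[X]}, χ.Monic → χ.natDegree = 2 → ∀ r, χ.eval r = 0 →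
        ∃ s, χ = (X - Polynomial.C r) * (X - Polynomial.C s) := by
      intro χ hm hd r hr
      obtain ⟨q, rfl⟩ := dvd_iff_isRoot.2 (show χ.IsRoot r from hr)
      have hqm := (monic_X_sub_C r).of_mul_monic_left hm
      rw [(monic_X_sub_C r).natDegree_mul hqm, natDegree_X_sub_C] at hd
      refine ⟨-q.coeff 0, ?_⟩
      rw [map_neg, sub_neg_eq_add, ← hqm.eq_X_add_C (by omega)]
    obtain ⟨a, ha⟩ := hroot
    obtain ⟨b, hφab⟩ := hfac hmφ hdφ a ha
    -- a common root, simple in one of them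
    have key : ∀ φ ∈ l, ∀ ψ ∈ l, φ ≠ ψ → ψ.natDegree = 2 → ∀ r s, φ = (X - Polynomial.C r) * (X - Polynomial.C s) →
        ψ.eval r = 0 → r ≠ s → False := by
      intro φ hφ ψ hψ hne hdψ r s hφe hψr hrs
      obtain ⟨hmψ, -⟩ := hl ψ hψ
      obtain ⟨t, hψe⟩ := hfac hmψ hdψ r hψr
      have hst : s ≠ t := fun h => hne (by rw [hφe, hψe, h])
      have hψs : ψ.eval s ≠ 0 := by
        rw [hψe, eval_mul, eval_sub, eval_sub, eval_X, eval_C, eval_C]
        exact mul_ne_zero (sub_ne_zero.2 hrs.symm) (sub_ne_zero.2 hst)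
      have hψ' : ψ ∈ l.erase φ := (List.mem_erase_of_ne hne.symm).2 hψ
      have hperm : l.Perm (φ :: ψ :: (l.erase φ).erase ψ) :=
        (List.perm_cons_erase hφ).trans ((List.perm_cons_erase hψ').cons φ)
      set rest := (l.erase φ).erase ψ
      let l' := ((X - Polynomial.C s) * ψ) :: (X - Polynomial.C r) :: rest
      have hsim : Sim x (CM l') := by
        refine hs.trans ((cm_perm hperm).trans ?_)
        rw [hφe]
        refine ((cm_merge (monic_X_sub_C r) (monic_X_sub_C s) (coprime_lin (by simp [sub_eq_zero, hrs])) (ψ :: rest)).symm).trans ?_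
        refine (cm_perm (show ((X - Polynomial.C r) :: (X - Polynomial.C s) :: ψ :: rest).Perm
          ((X - Polynomial.C s) :: ψ :: (X - Polynomial.C r) :: rest) from ?_)).trans
          (cm_merge (monic_X_sub_C s) hmψ (coprime_lin hψs) _)
        exact (List.Perm.swap _ _ _).trans ((List.Perm.swap _ _ _).cons _)
      have hmem : ∀ χ ∈ l', χ.Monic ∧ 1 ≤ χ.natDegree := by
        intro χ hχ
        rcases List.mem_cons.1 hχ with rfl | hχ
        · exact ⟨(monic_X_sub_C s).mul hmψ, by rw [(monic_X_sub_C s).natDegree_mul hmψ, natDegree_X_sub_C]; omega⟩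
        rcases List.mem_cons.1 hχ with rfl | hχ
        · exact ⟨monic_X_sub_C r, (natDegree_X_sub_C r).ge⟩
        · exact hl χ (List.mem_of_mem_erase (List.mem_of_mem_erase hχ))
      have hlen' : l'.length = Nat.find hex := by rw [← hlen, hperm.length_eq]; simp [l']
      have hlt : c2 l' < c2 l := by
        have hc : c2 l = c2 (φ :: ψ :: rest) := hperm.countP_eq _
        have hφd : φ.natDegree = 2 := by
          rw [hφe, (monic_X_sub_C r).natDegree_mul (monic_X_sub_C s), natDegree_X_sub_C, natDegree_X_sub_C]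
        have hd3 : ((X - Polynomial.C s) * ψ).natDegree = 3 := by
          rw [(monic_X_sub_C s).natDegree_mul hmψ, natDegree_X_sub_C, hdψ]
        rw [hc]
        simp [c2, l', List.countP_cons, hφd, hdψ, hd3, natDegree_X_sub_C]
      exact Nat.find_min hex2 (hc2 ▸ hlt) ⟨l', ⟨hmem, hsim⟩, hlen', rfl⟩
    have hψab : ψ.eval a = 0 ∨ ψ.eval b = 0 := by
      by_contra hno
      push Not at hno
      exact hco φ hφ ψ hψ hne (hφab ▸ IsCoprime.mul_left (coprime_lin hno.1) (coprime_lin hno.2))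
    by_cases hab : a = b
    · have hψa : ψ.eval a = 0 := hψab.elim id (fun h => hab ▸ h)
      obtain ⟨t, hψe⟩ := hfac hmψ hdψ a hψa
      have hat : a ≠ t := fun h => hne (by rw [hφab, hψe, ← h, hab])
      exact key ψ hψ φ hφ (Ne.symm hne) hdφ a t hψe ha hat
    · rcases hψab with h | h
      · exact key φ hφ ψ hψ hne hdψ a b hφab h hab
      · exact key φ hφ ψ hψ hne hdψ b a (by rw [hφab, mul_comm]) h (Ne.symm hab)
  -- split the list
  set S1 := l.filter (fun φ => decide (φ.natDegree = 1)) with hS1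
  set N1 := l.filter (fun φ => !decide (φ.natDegree = 1)) with hN1
  set S2 := N1.filter (fun φ => decide (φ.natDegree = 2)) with hS2
  set N2 := N1.filter (fun φ => !decide (φ.natDegree = 2)) with hN2
  have hperm : l.Perm (S1 ++ (N2 ++ S2)) :=
    (List.filter_append_perm _ l).symm.trans (List.Perm.append_left _
      ((List.filter_append_perm _ N1).symm.trans List.perm_append_comm))
  obtain ⟨μ, hμ⟩ : ∃ μ, ∀ φ ∈ S1, φ = X - Polynomial.C μ := by
    rcases eq_or_ne S1 [] with h | h
    · exact ⟨0, by simp [h]⟩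
    obtain ⟨φ, hφ⟩ := List.exists_mem_of_ne_nil _ h
    refine ⟨-φ.coeff 0, fun ψ hψ => ?_⟩
    simp only [hS1, List.mem_filter, decide_eq_true_eq] at hφ hψ
    have h1 : φ = X + Polynomial.C (φ.coeff 0) := (hl φ hφ.1).1.eq_X_add_C hφ.2
    rw [map_neg, sub_neg_eq_add]
    by_contra hne
    rw [← h1] at hne
    have h2 : ψ = X - Polynomial.C (-ψ.coeff 0) := by
      rw [map_neg, sub_neg_eq_add, ← (hl ψ hψ.1).1.eq_X_add_C hψ.2]
    refine hco φ hφ.1 ψ hψ.1 (Ne.symm hne) ?_
    rw [show φ = X - Polynomial.C (-φ.coeff 0) by rw [map_neg, sub_neg_eq_add, ← h1]]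
    refine coprime_lin fun h => hne ?_
    rw [h2, eval_sub, eval_X, eval_C, sub_eq_zero, neg_inj] at h
    rw [h1, h, ← (hl ψ hψ.1).1.eq_X_add_C hψ.2]
  obtain ⟨f, hf⟩ : ∃ f, ∀ φ ∈ S2, φ = f := by
    rcases eq_or_ne S2 [] with h | h
    · exact ⟨0, by simp [h]⟩
    obtain ⟨φ, hφ⟩ := List.exists_mem_of_ne_nil _ h
    refine ⟨φ, fun ψ hψ => ?_⟩
    simp only [hS2, hN1, List.mem_filter, decide_eq_true_eq] at hφ hψ
    exact hquad ψ hψ.1.1 φ hφ.1.1 hψ.2 hφ.2
  have hmemf : 0 < S2.length → f ∈ S2 := fun h => by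
    obtain ⟨φ, hφ⟩ := List.exists_mem_of_length_pos h
    exact hf φ hφ ▸ hφ
  refine ⟨μ, S1.length, S2.length, f, N2, fun b hb => ?_, fun hk => ?_, fun hsp hk => ?_, hs.trans (cm_perm ?_)⟩
  · simp only [hN2, hN1, List.mem_filter, Bool.not_eq_true', decide_eq_false_iff_not] at hb
    have := (hl b hb.1.1).2
    exact ⟨(hl b hb.1.1).1, by omega⟩
  · have := hmemf hk
    simp only [hS2, hN1, List.mem_filter, decide_eq_true_eq] at this
    exact ⟨(hl f this.1.1).1, this.2⟩
  · have hfm := hmemf hk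
    simp only [hS2, hN1, List.mem_filter, decide_eq_true_eq] at hfm
    obtain ⟨φ, hφ⟩ := List.exists_mem_of_length_pos hsp
    have hφe := hμ φ hφ
    subst hφe
    simp only [hS1, List.mem_filter, decide_eq_true_eq] at hφ
    by_contra h0
    refine hco _ hφ.1 f hfm.1.1 (fun he => ?_) (coprime_lin h0)
    have := hfm.2
    rw [← he, natDegree_X_sub_C] at this
    omega
  · rw [blockList, ← List.eq_replicate_iff.2 ⟨rfl, hμ⟩, ← List.eq_replicate_iff.2 ⟨rfl, hf⟩]
    exact hperm

end NormalForm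

section Recursion

variable [Fintype F]

theorem cycS_cycIn {x : Matrix ι ι F} {a : ℕ} (h : CycS x a) : CycIn x a := by
  obtain ⟨M, f, hM, hP⟩ := h
  exact ⟨M, f, hM, _, List.length_replicate .., hP⟩

theorem cycIn_le (h4 : 4 ≤ Fintype.card F) {x : Matrix ι ι F} (hx : ∀ c : F, x ≠ c • 1) (hxd : x.det ≠ 0)
    (h2 : 2 ≤ Fintype.card ι) {a b : ℕ} (h : CycIn x a) (hab : a ≤ b) : CycIn x b := by
  rcases Nat.eq_or_lt_of_le hab with rfl | hlt
  · exact h
  · exact ((allSR_of_le h4 hx hxd h2 h hlt).srIn h4 hxd h2).cycIn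

theorem det_cm_ne_left {φ : F[X]} {l : List F[X]} (h : (CM (φ :: l)).det ≠ 0) :
    (CommSL.comp φ).det ≠ 0 ∧ (CM l).det ≠ 0 := by
  rw [det_cm, List.map_cons, List.prod_cons, mul_ne_zero_iff, ← det_cm] at h
  exact h

theorem card_big {B : List F[X]} (hB : ∀ b ∈ B, b.Monic ∧ 3 ≤ b.natDegree) (k : ℕ) {f : F[X]}
    (hf : 0 < k → f.Monic ∧ f.natDegree = 2) :
    3 * B.length + 2 * k ≤ Fintype.card (Idx (B ++ List.replicate k f)) := by
  rw [card_idx, List.map_append, List.sum_append, List.map_replicate, List.sum_replicate, smul_eq_mul]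
  refine Nat.add_le_add ?_ ?_
  · have h := List.card_nsmul_le_sum (B.map natDegree) 3 fun d hd => by
      obtain ⟨b, hb, rfl⟩ := List.mem_map.1 hd
      exact (hB b hb).2
    rw [List.length_map, smul_eq_mul] at h
    omega
  · rcases Nat.eq_zero_or_pos k with rfl | hk
    · simp
    · rw [(hf hk).2, mul_comm]

/-- Bigger blocks and copies of a quadratic block. -/
theorem cycIn_big (h4 : 4 ≤ Fintype.card F) : ∀ {B : List F[X]}, (∀ b ∈ B, b.Monic ∧ 3 ≤ b.natDegree) →
    ∀ {k : ℕ} {f : F[X]}, (0 < k → f.Monic ∧ f.natDegree = 2) → B ≠ [] ∨ 0 < k →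
      (CM (B ++ List.replicate k f)).det ≠ 0 → CycIn (CM (B ++ List.replicate k f)) (B.length + min k 2)
  | [], _, k, f, hf, hne, hd => by
    rw [List.nil_append] at hd ⊢
    rw [List.length_nil, Nat.zero_add]
    have hk : 0 < k := hne.resolve_left fun h => h rfl
    rcases Nat.lt_or_ge k 2 with h | h
    · obtain rfl : k = 1 := by omega
      exact (cycIn_self (cyc_comp (hf hk).1)).of_sim (cm_singleton f)
    · have hs := sim_cm_replicate (hf hk).1 (hf hk).2 k
      rw [Nat.min_eq_right h]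
      refine cycS_cycIn ((qx_cycS h4 (by rw [Fintype.card_fin]; exact h) fun h0 => hd ?_).of_sim hs)
      rw [hs.det_eq, det_qx, h0, zero_pow (by rw [Fintype.card_fin]; omega)]
  | b :: B, hB, k, f, hf, _, hd => by
    obtain ⟨hbm, hbd⟩ := hB b (by simp)
    have hB' : ∀ c ∈ B, c.Monic ∧ 3 ≤ c.natDegree := fun c hc => hB c (List.mem_cons_of_mem _ hc)
    by_cases hrest : B ≠ [] ∨ 0 < k
    · set R := B ++ List.replicate k f with hR
      obtain ⟨hd1, hd2⟩ := det_cm_ne_left (φ := b) (l := R) hd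
      have hcard : 2 ≤ Fintype.card (Idx R) := by
        have hcb := card_big hB' k hf
        rw [← hR] at hcb
        rcases hrest with h | h
        · have hlp := List.length_pos_iff.2 h
          omega
        · omega
      have hne : ∀ c : F, CM R ≠ c • 1 := by
        intro c
        rcases hrest with h | h
        · obtain ⟨φ, hφ⟩ := List.exists_mem_of_ne_nil _ h
          have := (hB' φ hφ).2
          exact ne_scalar_cm (List.mem_append_left _ hφ) (hB' φ hφ).1 (by omega) c
        · exact ne_scalar_cm (List.mem_append_right _ (List.mem_replicate.2 ⟨h.ne', rfl⟩)) (hf h).1 (hf h).2.ge c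
      have hih : CycIn (CM R) (B.length + min k 2) := cycIn_big h4 hB' hf hrest hd2
      have hpos : 1 ≤ B.length + min k 2 := by
        rcases hrest with h | h
        · have := List.length_pos_iff.2 h
          omega
        · omega
      have h1 : AllSR (CommSL.comp b) (B.length + min k 2 + 1) :=
        allSR_of_le h4 (Cyc.ne_scalar' (cyc_comp hbm) (by rw [Fintype.card_fin]; omega)) hd1
          (by rw [Fintype.card_fin]; omega) (cycIn_self (cyc_comp hbm)) (by omega)
      have := ((sum_pair h4 (by rw [Fintype.card_fin]; exact hbd) hcard hd1 hd2 h1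
        (allSR_succ hne hd2 hcard hih)).cycIn).of_sim (cm_cons b R)
      rw [List.length_cons, Nat.add_right_comm]
      exact this
    · push Not at hrest
      obtain ⟨rfl, hk⟩ := hrest
      obtain rfl : k = 0 := by omega
      exact (cycIn_self (cyc_comp hbm)).of_sim (cm_singleton b)

/-- With exact determinants, a big block first. -/
theorem srS_big (h4 : 4 ≤ Fintype.card F) {b : F[X]} {B : List F[X]} (hB : ∀ c ∈ b :: B, c.Monic ∧ 3 ≤ c.natDegree)
    {k : ℕ} {f : F[X]} (hf : 0 < k → f.Monic ∧ f.natDegree = 2) (hrest : B ≠ [] ∨ 0 < k)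
    (hd : (CM ((b :: B) ++ List.replicate k f)).det ≠ 0) :
    SRS (CM ((b :: B) ++ List.replicate k f)) (B.length + min k 2 + 1) := by
  obtain ⟨hbm, hbd⟩ := hB b (by simp)
  have hB' : ∀ c ∈ B, c.Monic ∧ 3 ≤ c.natDegree := fun c hc => hB c (List.mem_cons_of_mem _ hc)
  set R := B ++ List.replicate k f with hR
  obtain ⟨hd1, hd2⟩ := det_cm_ne_left (φ := b) (l := R) hd
  have hpos : 1 ≤ B.length + min k 2 ∧ 2 ≤ Fintype.card (Idx R) := by
    have hcb := card_big hB' k hf
    rw [← hR] at hcb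
    rcases hrest with h | h
    · have hlp := List.length_pos_iff.2 h
      omega
    · omega
  have hne : ∀ c : F, CM R ≠ c • 1 := by
    intro c
    rcases hrest with h | h
    · obtain ⟨φ, hφ⟩ := List.exists_mem_of_ne_nil _ h
      have := (hB' φ hφ).2
      exact ne_scalar_cm (List.mem_append_left _ hφ) (hB' φ hφ).1 (by omega) c
    · exact ne_scalar_cm (List.mem_append_right _ (List.mem_replicate.2 ⟨h.ne', rfl⟩)) (hf h).1 (hf h).2.ge c
  exact (sum_big h4 (cyc_comp hbm) (by rw [Fintype.card_fin]; exact hbd) hpos.2 hd1 hd2 (by omega)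
    (allSR_succ hne hd2 hpos.2 (cycIn_big h4 hB' hf hrest hd2))).of_sim (cm_cons b R)

end Recursion

end CfsgLib.GLClass.Cover
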