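import Mathlib
import Cfsg.Agent.Lib.GLClass.Cover.Pieces

/-!
Scalar plus rank one: the conjugates multiply to everything after `n` factors.
-/

set_option autoImplicit false

namespace CfsgLib.GLClass.Cover

open Polynomial Matrix Module
open CfsgLib.GLClass.CommSL

variable {F : Type*} [Field F] {n : ℕ}

/-- A non-trivial element fixing a hyperplane pointwise, of determinant `δ`. -/
def RO (δ : F) (y : Matrix (Fin n) (Fin n) F) : Prop :=
  ∃ u φ : Fin n → F, u ≠ 0 ∧ φ ≠ 0 ∧ φ ⬝ᵥ u = δ - 1 ∧ y = 1 + vecMulVec u φ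

/-- Products of `j` such elements. -/
def RP (δ : F) : ℕ → Matrix (Fin n) (Fin n) F → Prop
  | 0, M => M = 1
  | j + 1, M => ∃ y N, RO δ y ∧ RP δ j N ∧ M = y * N

theorem ro_mul (a b φ : Fin n → F) :
    (1 + vecMulVec a φ) * (1 + vecMulVec b φ) = 1 + vecMulVec (a + b + (φ ⬝ᵥ b) • a) φ := by
  rw [Matrix.add_mul, Matrix.mul_add, Matrix.mul_add, Matrix.one_mul, Matrix.one_mul, Matrix.mul_one,
    Matrix.vecMulVec_mul_vecMulVec, add_vecMulVec, add_vecMulVec, smul_vecMulVec, vecMulVec_smul]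
  abel

theorem det_one_add (u φ : Fin n → F) : (1 + vecMulVec u φ).det = 1 + φ ⬝ᵥ u := by
  rw [Matrix.vecMulVec_eq Unit, Matrix.det_one_add_replicateCol_mul_replicateRow]

theorem exists_dot_eq (f : (Fin n → F) →ₗ[F] F) : ∃ φ : Fin n → F, ∀ z, φ ⬝ᵥ z = f z := by
  refine ⟨fun i => f (Pi.single i 1), fun z => ?_⟩
  conv_rhs => rw [pi_eq_sum_univ' z, map_sum]
  simp [dotProduct, mul_comm]

theorem exists_dot_of_notMem {S : Submodule F (Fin n → F)} {a : Fin n → F} (h : a ∉ S) :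
    ∃ φ : Fin n → F, (∀ z ∈ S, φ ⬝ᵥ z = 0) ∧ φ ⬝ᵥ a = 1 := by
  obtain ⟨f, hfa, hfS⟩ := S.exists_dual_map_eq_bot_of_notMem h inferInstance
  obtain ⟨φ, hφ⟩ := exists_dot_eq ((f a)⁻¹ • f)
  refine ⟨φ, fun z hz => ?_, by rw [hφ]; simp [hfa]⟩
  have : f z ∈ S.map f := Submodule.mem_map_of_mem hz
  rw [hfS, Submodule.mem_bot] at this
  rw [hφ, LinearMap.smul_apply, this, smul_zero]

theorem exists_not_mem_both {A B : Submodule F (Fin n → F)} (hA : A ≠ ⊤) (hB : B ≠ ⊤) : ∃ v, v ∉ A ∧ v ∉ B := by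
  obtain ⟨a, ha⟩ : ∃ a, a ∉ A := by
    by_contra h; push Not at h; exact hA (Submodule.eq_top_iff'.2 h)
  obtain ⟨b, hb⟩ : ∃ b, b ∉ B := by
    by_contra h; push Not at h; exact hB (Submodule.eq_top_iff'.2 h)
  by_cases haB : a ∈ B
  · by_cases hbA : b ∈ A
    · exact ⟨a + b, fun h => ha (by simpa using A.sub_mem h hbA), fun h => hb (by simpa using B.sub_mem h haB)⟩
    · exact ⟨b, hbA, hb⟩
  · exact ⟨a, ha, haB⟩

theorem finrank_sup_single {K : Submodule F (Fin n → F)} {v : Fin n → F} (hv : v ∉ K) :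
    finrank F (K ⊔ Submodule.span F {v} : Submodule F (Fin n → F)) = finrank F K + 1 := by
  have h := Submodule.finrank_sup_add_finrank_inf_eq K (Submodule.span F {v})
  have h0 : v ≠ 0 := fun h => hv (h ▸ K.zero_mem)
  have hbot : K ⊓ Submodule.span F {v} = ⊥ := (Submodule.disjoint_span_singleton' h0).2 hv |>.eq_bot
  rw [hbot, finrank_bot, finrank_span_singleton h0, add_zero] at h
  exact h

theorem ne_top_of_finrank {K : Submodule F (Fin n → F)} (h : finrank F K < n) : K ≠ ⊤ := by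
  rintro rfl
  rw [finrank_top, Module.finrank_fin_fun] at h
  exact lt_irrefl _ h

theorem exchange {K : Submodule F (Fin n → F)} {v w : Fin n → F} (hw : w ∉ K) (h : w ∈ K ⊔ Submodule.span F {v}) :
    v ∈ K ⊔ Submodule.span F {w} := by
  obtain ⟨k, hk, z, hz, he⟩ := Submodule.mem_sup.1 h
  obtain ⟨c, rfl⟩ := Submodule.mem_span_singleton.1 hz
  have hc : c ≠ 0 := by
    rintro rfl
    rw [zero_smul, add_zero] at he
    exact hw (he ▸ hk)
  have : v = c⁻¹ • w - c⁻¹ • k := by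
    rw [← he, smul_add, smul_smul, inv_mul_cancel₀ hc, one_smul]; abel
  rw [this]
  exact sub_mem (Submodule.mem_sup_right (Submodule.smul_mem _ _ (Submodule.mem_span_singleton_self w)))
    (Submodule.mem_sup_left (Submodule.smul_mem _ _ hk))

variable [Fintype F]

/-- A matrix fixing a hyperplane pointwise. -/
theorem rp_of_axis (h4 : 4 ≤ Fintype.card F) (hn : 2 ≤ n) {δ : F} (hδ : δ ≠ 0) {φ : Fin n → F} (hφ : φ ≠ 0) :
    ∀ {j : ℕ} (c : Fin n → F), 1 ≤ j → φ ⬝ᵥ c = δ ^ j - 1 → (j = 1 → c ≠ 0) → RP δ j (1 + vecMulVec c φ)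
  | 0, _, hj, _, _ => absurd hj (by omega)
  | 1, c, _, hc, h1 => ⟨_, 1, ⟨c, φ, h1 rfl, hφ, by rwa [pow_one] at hc, rfl⟩, rfl, (mul_one _).symm⟩
  | j + 2, c, _, hc, _ => by
    classical
    obtain ⟨i, hi⟩ : ∃ i, φ i ≠ 0 := Function.ne_iff.1 hφ
    obtain ⟨k, hk⟩ : ∃ k : Fin n, k ≠ i := by
      haveI : Nontrivial (Fin n) := Fin.nontrivial_iff_two_le.2 hn
      exact exists_ne i
    let b : F → Fin n → F := fun t => Pi.single k t + Pi.single i ((δ - 1 - t * φ k) / φ i)
    have hb : ∀ t, φ ⬝ᵥ b t = δ - 1 := fun t => by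
      rw [dotProduct_add, dotProduct_single, dotProduct_single]
      field_simp
      ring
    have hbk : ∀ t, b t k = t := fun t => by simp [b, hk]
    obtain ⟨t, -, ht⟩ := Finset.exists_mem_notMem_of_card_lt_card (s := ({0, c k / δ ^ (j + 1)} : Finset F))
      (t := Finset.univ) (lt_of_le_of_lt Finset.card_le_two (by rw [Finset.card_univ]; omega))
    simp only [Finset.mem_insert, Finset.mem_singleton, not_or] at ht
    have hu0 : b t ≠ 0 := fun h => ht.1 (by rw [← hbk t, h]; rfl)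
    set c' : Fin n → F := c - δ ^ (j + 1) • b t with hc'
    have hcd : φ ⬝ᵥ c' = δ ^ (j + 1) - 1 := by
      rw [hc', dotProduct_sub, dotProduct_smul, hc, hb, smul_eq_mul]
      ring
    refine ⟨1 + vecMulVec (b t) φ, 1 + vecMulVec c' φ, ⟨b t, φ, hu0, hφ, hb t, rfl⟩,
      rp_of_axis h4 hn hδ hφ c' (by omega) hcd fun _ h => ht.2 ?_, ?_⟩
    · have h1 := congrFun h k
      simp only [hc', Pi.sub_apply, Pi.smul_apply, hbk, smul_eq_mul, Pi.zero_apply, sub_eq_zero] at h1
      rw [eq_div_iff (pow_ne_zero _ hδ), h1, mul_comm]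
    · rw [ro_mul, hcd, hc', sub_smul, one_smul]
      congr 2
      abel

omit [Fintype F] in
/-- Fixing a subspace of codimension one means fixing a hyperplane. -/
theorem exists_axis {M : Matrix (Fin n) (Fin n) F} (hn : 1 ≤ n) {K : Submodule F (Fin n → F)}
    (hK : ∀ z ∈ K, M *ᵥ z = z) (hk : n ≤ finrank F K + 1) :
    ∃ φ c : Fin n → F, φ ≠ 0 ∧ M = 1 + vecMulVec c φ := by
  classical
  obtain ⟨φ, a, hφK, hφa⟩ : ∃ φ a : Fin n → F, (∀ z, φ ⬝ᵥ z = 0 → z ∈ K) ∧ φ ⬝ᵥ a = 1 := by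
    by_cases htop : K = ⊤
    · exact ⟨Pi.single ⟨0, by omega⟩ 1, Pi.single ⟨0, by omega⟩ 1, fun z _ => htop ▸ Submodule.mem_top, by simp⟩
    · obtain ⟨a, ha⟩ : ∃ a, a ∉ K := by
        by_contra h; push Not at h; exact htop (Submodule.eq_top_iff'.2 h)
      obtain ⟨φ, h1, h2⟩ := exists_dot_of_notMem ha
      refine ⟨φ, a, fun z hz => ?_, h2⟩
      have hsup : K ⊔ Submodule.span F {a} = ⊤ := by
        refine Submodule.eq_top_of_finrank_eq ?_
        have := Submodule.finrank_le (K ⊔ Submodule.span F {a})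
        rw [finrank_sup_single ha] at this ⊢
        rw [Module.finrank_fin_fun] at this ⊢
        omega
      obtain ⟨k, hk', t, ht, rfl⟩ := Submodule.mem_sup.1 (hsup ▸ Submodule.mem_top : z ∈ K ⊔ Submodule.span F {a})
      obtain ⟨r, rfl⟩ := Submodule.mem_span_singleton.1 ht
      rw [dotProduct_add, h1 k hk', dotProduct_smul, h2, zero_add, smul_eq_mul, mul_one] at hz
      rw [hz, zero_smul, add_zero]
      exact hk'
  refine ⟨φ, M *ᵥ a - a, fun h => by rw [h, zero_dotProduct] at hφa; exact zero_ne_one hφa, ?_⟩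
  refine Matrix.ext_iff_mulVec.2 fun z => ?_
  have hz := hK (z - (φ ⬝ᵥ z) • a) (hφK _ (by rw [dotProduct_sub, dotProduct_smul, hφa, smul_eq_mul, mul_one, sub_self]))
  rw [Matrix.mulVec_sub, Matrix.mulVec_smul] at hz
  rw [Matrix.add_mulVec, Matrix.one_mulVec, vmv, smul_sub]
  rw [sub_eq_iff_eq_add] at hz
  rw [hz]
  abel

/-- Not scalar modulo a subspace. -/
def NSMod (M : Matrix (Fin n) (Fin n) F) (K : Submodule F (Fin n → F)) : Prop :=
  ∃ v, v ∉ K ∧ M *ᵥ v ∉ K ⊔ Submodule.span F {v}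

omit [Fintype F] in
theorem exists_step {δ : F} (hδ : δ ≠ 0) {M : Matrix (Fin n) (Fin n) F} {w ψ : Fin n → F} (hw : w ≠ 0)
    (hψ : ψ ≠ 0) (hψw : ψ ⬝ᵥ w = δ⁻¹ - 1) :
    RO δ (1 + vecMulVec ((-δ) • w) ψ) ∧
      (1 + vecMulVec ((-δ) • w) ψ) * ((1 + vecMulVec w ψ) * M) = M := by
  refine ⟨⟨_, ψ, smul_ne_zero (neg_ne_zero.2 hδ) hw, hψ, ?_, rfl⟩, ?_⟩
  · rw [dotProduct_smul, hψw, smul_eq_mul]
    field_simp
    ring
  · rw [← Matrix.mul_assoc, ro_mul, hψw, smul_smul]
    have : (-δ) • w + w + ((δ⁻¹ - 1) * -δ) • w = (0 : F) • w := by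
      conv_lhs => rw [show w = (1 : F) • w from (one_smul F w).symm, smul_smul, smul_smul, ← add_smul, ← add_smul]
      congr 1
      field_simp
      ring
    rw [this, zero_smul, zero_vecMulVec, add_zero, Matrix.one_mul]

theorem rp_core (h4 : 4 ≤ Fintype.card F) (hn : 2 ≤ n) {δ : F} (hδ : δ ≠ 0) :
    ∀ (j : ℕ) (M : Matrix (Fin n) (Fin n) F) (K : Submodule F (Fin n → F)), 1 ≤ j → (∀ z ∈ K, M *ᵥ z = z) →
      M.det = δ ^ j → (j = 1 → M ≠ 1) → n ≤ finrank F K + j →
      (finrank F K + j = n → 2 ≤ j → NSMod M K) → RP δ j M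
  | 0, _, _, hj, _, _, _, _, _ => absurd hj (by omega)
  | j + 1, M, K, _, hK, hdet, h1, hk, hns => by
    classical
    by_cases hax : ∃ φ c : Fin n → F, φ ≠ 0 ∧ M = 1 + vecMulVec c φ
    · obtain ⟨φ, c, hφ, rfl⟩ := hax
      rw [det_one_add] at hdet
      refine rp_of_axis h4 hn hδ hφ c (Nat.succ_pos j) (by linear_combination hdet) fun hj hc => h1 hj ?_
      rw [hc, zero_vecMulVec, add_zero]
    have hcod : finrank F K + 2 ≤ n := by
      by_contra hlt
      exact hax (exists_axis (by omega) hK (by omega))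
    have hj : 1 ≤ j := by omega
    have hMd : M.det ≠ 0 := hdet ▸ pow_ne_zero _ hδ
    have hMinj : Function.Injective M.mulVec :=
      Matrix.mulVec_injective_iff_isUnit.2 ((Matrix.isUnit_iff_isUnit_det M).2 (isUnit_iff_ne_zero.2 hMd))
    have hMK : ∀ z, M *ᵥ z ∈ K → z ∈ K := fun z hz => by
      rw [hMinj (hK _ hz)] at hz
      exact hz
    -- the remaining factor
    have hrest : ∀ w ψ : Fin n → F, w ≠ 0 → ψ ≠ 0 → ψ ⬝ᵥ w = δ⁻¹ - 1 →
        ∀ K' : Submodule F (Fin n → F), (∀ z ∈ K', ((1 + vecMulVec w ψ) * M) *ᵥ z = z) → n ≤ finrank F K' + j →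
        (finrank F K' + j = n → 2 ≤ j → NSMod ((1 + vecMulVec w ψ) * M) K') → RP δ (j + 1) M := by
      intro w ψ hw hψ hψw K' hK' hk' hns'
      obtain ⟨hy, he⟩ := exists_step hδ (M := M) hw hψ hψw
      refine ⟨_, _, hy, rp_core h4 hn hδ j _ K' hj hK' ?_ (fun _ h => hax ⟨ψ, (-δ) • w, hψ, ?_⟩) hk' hns', he.symm⟩
      · rw [det_mul, det_one_add, hψw, hdet, pow_succ]
        field_simp
        ring
      · rw [h, Matrix.mul_one] at he
        exact he.symm
    by_cases hnsm : NSMod M K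
    · obtain ⟨v, hvK, hv⟩ := hnsm
      have hMv : M *ᵥ v ∉ K := fun h => hv (Submodule.mem_sup_left h)
      have hvM : v ∉ K ⊔ Submodule.span F {M *ᵥ v} := fun h => hv (exchange hvK h)
      obtain ⟨f₁, hf₁, hf₁v⟩ := exists_dot_of_notMem hvM
      obtain ⟨f₂, hf₂, hf₂v⟩ := exists_dot_of_notMem hv
      set w : Fin n → F := δ⁻¹ • (v - M *ᵥ v) with hw
      have hw0 : w ≠ 0 := smul_ne_zero (inv_ne_zero hδ) fun h => hv (by
        rw [← sub_eq_zero.1 h]; exact Submodule.mem_sup_right (Submodule.mem_span_singleton_self v))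
      have hgood : ∀ η : Fin n → F, (∀ z ∈ K, η ⬝ᵥ z = 0) → η ⬝ᵥ v = 0 → η ⬝ᵥ (M *ᵥ v) = 0 →
          ∀ ψ, ψ = f₁ + δ • f₂ + η → ψ ≠ 0 ∧ ψ ⬝ᵥ w = δ⁻¹ - 1 ∧
            ∀ z ∈ K ⊔ Submodule.span F {v}, ((1 + vecMulVec w ψ) * M) *ᵥ z = z := by
        intro η hη hηv hηM ψ hψ
        have e1 : ψ ⬝ᵥ v = 1 := by
          rw [hψ, add_dotProduct, add_dotProduct, smul_dotProduct, hf₁v, hηv,
            hf₂ v (Submodule.mem_sup_right (Submodule.mem_span_singleton_self v))]
          simp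
        have e2 : ψ ⬝ᵥ (M *ᵥ v) = δ := by
          rw [hψ, add_dotProduct, add_dotProduct, smul_dotProduct, hf₂v, hηM,
            hf₁ _ (Submodule.mem_sup_right (Submodule.mem_span_singleton_self _))]
          simp
        have e3 : ∀ z ∈ K, ψ ⬝ᵥ z = 0 := fun z hz => by
          rw [hψ, add_dotProduct, add_dotProduct, smul_dotProduct, hη z hz, hf₁ z (Submodule.mem_sup_left hz),
            hf₂ z (Submodule.mem_sup_left hz)]
          simp
        refine ⟨fun h => by rw [h, zero_dotProduct] at e1; exact zero_ne_one e1, ?_, fun z hz => ?_⟩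
        · rw [hw, dotProduct_smul, dotProduct_sub, e1, e2, smul_eq_mul]
          field_simp
        · obtain ⟨k, hk', t, ht, rfl⟩ := Submodule.mem_sup.1 hz
          obtain ⟨r, rfl⟩ := Submodule.mem_span_singleton.1 ht
          rw [← Matrix.mulVec_mulVec, Matrix.mulVec_add, Matrix.mulVec_smul, hK k hk', Matrix.add_mulVec,
            Matrix.one_mulVec, vmv, dotProduct_add, dotProduct_smul, e3 k hk', e2, hw, smul_smul]
          have : (0 + r • δ) * δ⁻¹ = r := by rw [smul_eq_mul]; field_simp; ring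
          rw [this, smul_sub]
          abel
      obtain ⟨a1, a2, a3⟩ := hgood 0 (by simp) (by simp) (by simp) _ rfl
      set K' := K ⊔ Submodule.span F {v} with hK'
      have hfr : finrank F K' = finrank F K + 1 := finrank_sup_single hvK
      rcases Classical.em (finrank F K + (j + 1) = n ∧ 2 ≤ j) with htight | htight
      swap
      · refine hrest w _ hw0 a1 a2 K' a3 (by omega) fun h h' => absurd ⟨?_, h'⟩ htight
        omega
      obtain ⟨htight, hj2⟩ := htight
      -- a second functional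
      have hvw : M *ᵥ v ∉ K' := hv
      have hne : K' ⊔ Submodule.span F {M *ᵥ v} ≠ ⊤ := ne_top_of_finrank (by rw [finrank_sup_single hvw]; omega)
      obtain ⟨z₀, hz₀⟩ : ∃ z, z ∉ K' ⊔ Submodule.span F {M *ᵥ v} := by
        by_contra h; push Not at h; exact hne (Submodule.eq_top_iff'.2 h)
      obtain ⟨η, hη, hη1⟩ := exists_dot_of_notMem hz₀
      obtain ⟨b1, b2, b3⟩ := hgood η (fun z hz => hη z (Submodule.mem_sup_left (Submodule.mem_sup_left hz)))
        (hη v (Submodule.mem_sup_left (Submodule.mem_sup_right (Submodule.mem_span_singleton_self v))))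
        (hη _ (Submodule.mem_sup_right (Submodule.mem_span_singleton_self _))) _ rfl
      by_cases hA : NSMod ((1 + vecMulVec w (f₁ + δ • f₂ + 0)) * M) K'
      · exact hrest w _ hw0 a1 a2 K' a3 (by omega) fun _ _ => hA
      refine hrest w _ hw0 b1 b2 K' b3 (by omega) fun _ _ => ?_
      by_contra hB
      simp only [NSMod, not_exists, not_and, not_not] at hA hB
      have hwK : w ∉ K' := by
        intro h
        refine hvw ?_
        have hvK' : v ∈ K' := Submodule.mem_sup_right (Submodule.mem_span_singleton_self v)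
        have := sub_mem hvK' (Submodule.smul_mem _ δ h)
        rwa [hw, smul_smul, mul_inv_cancel₀ hδ, one_smul, sub_sub_cancel] at this
      -- a vector where the two choices differ
      let T : Submodule F (Fin n → F) :=
        { carrier := {z | η ⬝ᵥ (M *ᵥ z) = 0}
          add_mem' := fun {a b} ha hb => by
            simp only [Set.mem_setOf_eq] at ha hb ⊢
            rw [Matrix.mulVec_add, dotProduct_add, ha, hb, add_zero]
          zero_mem' := by simp
          smul_mem' := fun c a ha => by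
            simp only [Set.mem_setOf_eq] at ha ⊢
            rw [Matrix.mulVec_smul, dotProduct_smul, ha, smul_zero] }
      have hT : T ≠ ⊤ := by
        intro h
        obtain ⟨z, hz⟩ := Matrix.mulVec_surjective_iff_isUnit.2
          ((Matrix.isUnit_iff_isUnit_det M).2 (isUnit_iff_ne_zero.2 hMd)) z₀
        have hzT : z ∈ T := h ▸ Submodule.mem_top
        change η ⬝ᵥ (M *ᵥ z) = 0 at hzT
        rw [hz, hη1] at hzT
        exact one_ne_zero hzT
      obtain ⟨z, hzT, hzw⟩ := exists_not_mem_both hT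
        (ne_top_of_finrank (K := K' ⊔ Submodule.span F {w}) (by rw [finrank_sup_single hwK]; omega))
      have hzK' : z ∉ K' := fun h => hzw (Submodule.mem_sup_left h)
      have hd := sub_mem (hB z hzK') (hA z hzK')
      rw [← Matrix.sub_mulVec, ← Matrix.sub_mul, add_sub_add_left_eq_sub, ← vecMulVec_sub, ← Matrix.mulVec_mulVec,
        vmv, add_zero, add_sub_cancel_left] at hd
      have hη0 : η ⬝ᵥ (M *ᵥ z) ≠ 0 := hzT
      have := Submodule.smul_mem _ (η ⬝ᵥ (M *ᵥ z))⁻¹ hd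
      rw [smul_smul, inv_mul_cancel₀ hη0, one_smul] at this
      exact hzw (exchange hwK this)
    · -- scalar modulo `K`: spoil it
      have hlt : n < finrank F K + (j + 1) := by
        rcases Nat.lt_or_eq_of_le hk with h | h
        · exact h
        · exact absurd (hns h.symm (by omega)) hnsm
      simp only [NSMod, not_exists, not_and, not_not] at hnsm
      have hKtop : K ≠ ⊤ := ne_top_of_finrank (by omega)
      obtain ⟨a, ha⟩ : ∃ a, a ∉ K := by
        by_contra h; push Not at h; exact hKtop (Submodule.eq_top_iff'.2 h)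
      obtain ⟨b, hb⟩ : ∃ b, b ∉ K ⊔ Submodule.span F {a} := by
        by_contra h; push Not at h
        exact ne_top_of_finrank (K := K ⊔ Submodule.span F {a}) (by rw [finrank_sup_single ha]; omega)
          (Submodule.eq_top_iff'.2 h)
      have hbK : b ∉ K := fun h => hb (Submodule.mem_sup_left h)
      obtain ⟨ψ, hψK, hψa⟩ := exists_dot_of_notMem (S := K ⊔ Submodule.span F {b}) (a := a)
        (fun h => hb (exchange ha h))
      set w : Fin n → F := (δ⁻¹ - 1) • a + b with hw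
      have hψw : ψ ⬝ᵥ w = δ⁻¹ - 1 := by
        rw [hw, dotProduct_add, dotProduct_smul, hψa, hψK b (Submodule.mem_sup_right (Submodule.mem_span_singleton_self b))]
        simp
      have hψK' : ∀ z ∈ K, ψ ⬝ᵥ z = 0 := fun z hz => hψK z (Submodule.mem_sup_left hz)
      have hwa : w ∉ K ⊔ Submodule.span F {a} := fun h => hb (by
        have := sub_mem h (Submodule.smul_mem _ (δ⁻¹ - 1) (Submodule.mem_sup_right (Submodule.mem_span_singleton_self a)))
        rwa [hw, add_sub_cancel_left] at this)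
      have hψ0 : ψ ≠ 0 := fun h => by rw [h, zero_dotProduct] at hψa; exact zero_ne_one hψa
      refine hrest w ψ (fun h => hwa (h ▸ Submodule.zero_mem _)) hψ0 hψw K (fun z hz => ?_) (by omega) fun _ _ =>
        ⟨a, ha, fun hmem => hwa ?_⟩
      · rw [← Matrix.mulVec_mulVec, hK z hz, Matrix.add_mulVec, Matrix.one_mulVec, vmv, hψK' z hz, zero_smul, add_zero]
      · rw [← Matrix.mulVec_mulVec, Matrix.add_mulVec, Matrix.one_mulVec, vmv] at hmem
        have h2 := sub_mem hmem (hnsm a ha)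
        rw [add_sub_cancel_left] at h2
        have hMa : ψ ⬝ᵥ (M *ᵥ a) ≠ 0 := by
          obtain ⟨k, hk', t, ht, he⟩ := Submodule.mem_sup.1 (hnsm a ha)
          obtain ⟨r, rfl⟩ := Submodule.mem_span_singleton.1 ht
          have hr : r ≠ 0 := by
            rintro rfl
            rw [zero_smul, add_zero] at he
            exact ha (hMK a (he ▸ hk'))
          rw [← he, dotProduct_add, hψK' k hk', dotProduct_smul, hψa]
          simpa using hr
        have := Submodule.smul_mem _ (ψ ⬝ᵥ (M *ᵥ a))⁻¹ h2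
        rwa [smul_smul, inv_mul_cancel₀ hMa, one_smul] at this

omit [Fintype F] in
theorem exists_dot_both {a b : Fin n → F} (ha : a ≠ 0) (hb : b ≠ 0) : ∃ z, z ⬝ᵥ a = 1 ∧ z ⬝ᵥ b ≠ 0 := by
  classical
  obtain ⟨i, hi⟩ : ∃ i, a i ≠ 0 := Function.ne_iff.1 ha
  obtain ⟨j, hj⟩ : ∃ j, b j ≠ 0 := Function.ne_iff.1 hb
  obtain ⟨z, hza, hzb⟩ : ∃ z : Fin n → F, z ⬝ᵥ a ≠ 0 ∧ z ⬝ᵥ b ≠ 0 := by
    by_cases h1 : b i = 0
    · by_cases h2 : a j = 0
      · exact ⟨Pi.single i 1 + Pi.single j 1, by simp [add_dotProduct, h2, hi], by simp [add_dotProduct, h1, hj]⟩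
      · exact ⟨Pi.single j 1, by simpa using h2, by simpa using hj⟩
    · exact ⟨Pi.single i 1, by simpa using hi, by simpa using h1⟩
  exact ⟨(z ⬝ᵥ a)⁻¹ • z, by simp [smul_dotProduct, hza], by simp [smul_dotProduct, hza, hzb]⟩

omit [Fintype F] in
theorem ro_sim {δ : F} {y y' : Matrix (Fin n) (Fin n) F} (h : RO δ y) (h' : RO δ y') : Sim y' y := by
  obtain ⟨u, φ, hu, hφ, hφu, rfl⟩ := h
  obtain ⟨u', φ', hu', hφ', hφu', rfl⟩ := h'
  -- move the centre, then the axis
  obtain ⟨θ, hθu, hθu'⟩ := exists_dot_both hu hu'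
  set G := 1 + vecMulVec (u' - u) θ with hG
  have hGd : IsUnit G.det := by
    rw [hG, det_one_add, dotProduct_sub, hθu, show 1 + (θ ⬝ᵥ u' - 1) = θ ⬝ᵥ u' by ring]
    exact isUnit_iff_ne_zero.2 hθu'
  have hGu : G *ᵥ u = u' := by rw [hG, Matrix.add_mulVec, Matrix.one_mulVec, vmv, hθu, one_smul, add_sub_cancel]
  set φ₁ := φ ᵥ* G⁻¹ with hφ₁
  have hGG : G * G⁻¹ = 1 := mul_nonsing_inv G hGd
  have h1 : φ₁ ⬝ᵥ u' = φ' ⬝ᵥ u' := by
    rw [hφu', ← hφu, hφ₁, ← hGu, ← Matrix.dotProduct_mulVec, Matrix.mulVec_mulVec, nonsing_inv_mul G hGd,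
      Matrix.one_mulVec]
  have hφ₁0 : φ₁ ≠ 0 := by
    intro h0
    refine hφ ?_
    have := congrArg (· ᵥ* G) h0
    simpa [hφ₁, Matrix.vecMul_vecMul, nonsing_inv_mul G hGd] using this
  obtain ⟨a, ha', ha⟩ := exists_dot_both hφ' hφ₁0
  rw [dotProduct_comm] at ha' ha
  set P := 1 + vecMulVec a (φ₁ - φ') with hP
  have hPd : IsUnit P.det := by
    rw [hP, det_one_add, sub_dotProduct, ha', show 1 + (φ₁ ⬝ᵥ a - 1) = φ₁ ⬝ᵥ a by ring]
    exact isUnit_iff_ne_zero.2 ha
  have hPu : P *ᵥ u' = u' := by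
    rw [hP, Matrix.add_mulVec, Matrix.one_mulVec, vmv, sub_dotProduct, h1, sub_self, zero_smul, add_zero]
  have hφP : φ' ᵥ* P = φ₁ := by
    rw [hP, Matrix.vecMul_add, Matrix.vecMul_one, Matrix.vecMul_vecMulVec, ha', one_smul, add_sub_cancel]
  refine Sim.trans (h := 1 + vecMulVec u' φ₁) ?_ ?_
  · refine ⟨P, P⁻¹, mul_nonsing_inv P hPd, nonsing_inv_mul P hPd, ?_⟩
    rw [Matrix.mul_add, Matrix.add_mul, Matrix.mul_one, mul_nonsing_inv P hPd, Matrix.mul_vecMulVec, hPu,
      Matrix.vecMulVec_mul, ← hφP, Matrix.vecMul_vecMul, mul_nonsing_inv P hPd, Matrix.vecMul_one]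
  · refine ⟨G, G⁻¹, hGG, nonsing_inv_mul G hGd, ?_⟩
    rw [Matrix.mul_add, Matrix.add_mul, Matrix.mul_one, hGG, Matrix.mul_vecMulVec, hGu, Matrix.vecMulVec_mul, hφ₁]

omit [Fintype F] in
theorem rp_gpr {δ μ : F} {y₀ : Matrix (Fin n) (Fin n) F} (h₀ : RO δ y₀) :
    ∀ {j : ℕ} {M : Matrix (Fin n) (Fin n) F}, RP δ j M → GPr (μ • y₀) j (μ ^ j • M)
  | 0, M, h => ⟨[], rfl, by rw [show M = 1 from h, pow_zero, one_smul]; rfl⟩
  | j + 1, M, ⟨y, N, hy, hN, he⟩ => by
    obtain ⟨U, V, h1, h2, hU⟩ := ro_sim h₀ hy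
    obtain ⟨l, hl, hP⟩ := rp_gpr h₀ hN
    refine ⟨U.det :: l, by simp [hl], μ • y, _, ⟨U, V, h1, rfl, ?_⟩, hP, ?_⟩
    · rw [Matrix.mul_smul, Matrix.smul_mul, ← hU]
    · rw [he, Matrix.smul_mul, Matrix.mul_smul, smul_smul, pow_succ']

/-- The coordinate homologies multiply to a scalar. -/
theorem rp_prod_diag {δ : F} (hδ : δ ≠ 1) : ∀ {j : ℕ} (s : Finset (Fin n)), s.card = j →
    RP δ j (diagonal fun i => if i ∈ s then δ else 1)
  | 0, s, hs => by
    rw [Finset.card_eq_zero.1 hs]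
    simp [RP]
  | j + 1, s, hs => by
    obtain ⟨a, t, hat, rfl, ht⟩ := Finset.card_eq_succ.1 hs
    refine ⟨1 + vecMulVec (Pi.single a (δ - 1)) (Pi.single a 1), _,
      ⟨_, _, by simpa [Pi.single_eq_zero_iff, sub_eq_zero] using hδ, by simp, by simp, rfl⟩, rp_prod_diag hδ t ht, ?_⟩
    ext i k
    simp only [Matrix.mul_diagonal, Matrix.add_apply, Matrix.one_apply, vecMulVec_apply, diagonal_apply,
      Finset.mem_insert, Pi.single_apply]
    rcases eq_or_ne i k with rfl | hik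
    · rcases eq_or_ne i a with rfl | hia
      · simp [hat]
      · simp [hia]
    · rcases eq_or_ne i a with rfl | hia
      · simp [hik, Ne.symm hik]
      · simp [hik, hia]

/-- Scalar plus rank one. -/
theorem cover_rankOne (h4 : 4 ≤ Fintype.card F) (hn : 3 ≤ n) {x : Matrix (Fin n) (Fin n) F} (hxd : x.det ≠ 0)
    {σ : Type*} [Fintype σ] [DecidableEq σ] [Nonempty σ] {μ ν : F}
    (hs : Sim x (fromBlocks (!![μ, 0; 1, ν] : Matrix (Fin 2) (Fin 2) F) 0 0 (μ • (1 : Matrix σ σ F)))) : Cover x := by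
  have hflex : Flex x := Flex.of_sim (hs.trans (sim_blocks_comm _ _)) ((flex_scalar μ).blocks_left _)
  have hdx := hs.det_eq
  rw [det_fromBlocks_zero₁₂, det_fin_two, det_smul, det_one, mul_one] at hdx
  simp only [Matrix.of_apply, Matrix.cons_val', Matrix.cons_val_zero, Matrix.cons_val_one, Matrix.empty_val',
    mul_one, zero_mul, sub_zero] at hdx
  have hcard := card_eq_of_sim hs
  rw [Fintype.card_fin, Fintype.card_sum, Fintype.card_fin] at hcard
  have hμ : μ ≠ 0 := fun h => hxd (by rw [hdx, h, zero_mul, zero_mul])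
  have hν : ν ≠ 0 := fun h => hxd (by rw [hdx, h, mul_zero, zero_mul])
  set δ := ν / μ with hδ'
  have hδ : δ ≠ 0 := div_ne_zero hν hμ
  obtain ⟨U, V, hUV, hVU, hU⟩ := hs
  obtain ⟨y₀, hy₀, hxy⟩ : ∃ y₀, RO δ y₀ ∧ x = μ • y₀ := by
    let e : Fin 2 ⊕ σ → F := Sum.elim (Pi.single 1 1) 0
    let f : Fin 2 ⊕ σ → F := Sum.elim ![1, ν - μ] 0
    have hblk : fromBlocks (!![μ, 0; 1, ν] : Matrix (Fin 2) (Fin 2) F) 0 0 (μ • (1 : Matrix σ σ F)) =
        μ • 1 + vecMulVec e f := by
      ext i j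
      rcases i with i | i <;> rcases j with j | j
      · fin_cases i <;> fin_cases j <;> simp [e, f, vecMulVec_apply]
      · simp [e, f, vecMulVec_apply]
      · simp [e, f, vecMulVec_apply]
      · simp [e, f, vecMulVec_apply, Matrix.one_apply]
    refine ⟨1 + vecMulVec (μ⁻¹ • (U *ᵥ e)) (f ᵥ* V), ⟨_, _, smul_ne_zero (inv_ne_zero hμ) ?_, ?_, ?_, rfl⟩, ?_⟩
    · intro h
      have := congrArg (V *ᵥ ·) h
      simp only [Matrix.mulVec_mulVec, hVU, Matrix.one_mulVec, Matrix.mulVec_zero] at this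
      have h2 := congrFun this (Sum.inl 1)
      simp [e] at h2
    · intro h
      have := congrArg (· ᵥ* U) h
      simp only [Matrix.vecMul_vecMul, hVU, Matrix.vecMul_one, Matrix.zero_vecMul] at this
      have h2 := congrFun this (Sum.inl 0)
      simp [f] at h2
    · rw [dotProduct_smul, Matrix.dotProduct_mulVec, Matrix.vecMul_vecMul, hVU, Matrix.vecMul_one]
      simp [e, f, dotProduct, Fintype.sum_sum_type, Fin.sum_univ_two, hδ']
      field_simp
    · rw [hU, hblk, Matrix.mul_add, Matrix.add_mul, Matrix.mul_smul, Matrix.smul_mul, Matrix.mul_one, hUV,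
        Matrix.mul_vecMulVec, Matrix.vecMulVec_mul, smul_add, ← smul_vecMulVec, smul_smul, mul_inv_cancel₀ hμ, one_smul]
  have hxdet : x.det = μ ^ n * δ := by
    rw [hxy, det_smul, Fintype.card_fin]
    obtain ⟨u, φ, -, -, hφu, rfl⟩ := hy₀
    rw [det_one_add, hφu]
    ring
  have hmain : ∀ M : Matrix (Fin n) (Fin n) F, RP δ n M → Pr x (List.replicate n 1) (μ ^ n • M) := fun M h =>
    hflex.replicate (hxy ▸ rp_gpr hy₀ h)
  have hback : ∀ M : Matrix (Fin n) (Fin n) F, μ ^ n • ((μ ^ n)⁻¹ • M) = M := fun M => by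
    rw [smul_smul, mul_inv_cancel₀ (pow_ne_zero _ hμ), one_smul]
  refine ⟨fun M hM hdet => ?_, fun hdx1 => ?_⟩
  · rw [← hback M]
    refine hmain _ (rp_core h4 (by omega) hδ n _ ⊥ (by omega) (fun z hz => ?_) ?_ (by omega) (by simp) fun _ _ => ?_)
    · rw [(Submodule.mem_bot F).1 hz, Matrix.mulVec_zero]
    · rw [det_smul, hdet, hxdet, Fintype.card_fin, mul_pow, inv_pow, ← mul_assoc, ← pow_mul,
        inv_mul_cancel₀ (pow_ne_zero _ hμ), one_mul]
    · -- a vector that is not an eigenvector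
      by_contra hcon
      simp only [NSMod, not_exists, not_and, not_not, bot_sup_eq, Submodule.mem_bot] at hcon
      have heig : ∀ v : Fin n → F, ∃ c : F, M *ᵥ v = c • v := by
        intro v
        by_cases hv : v = 0
        · exact ⟨0, by simp [hv]⟩
        obtain ⟨c, hc⟩ := Submodule.mem_span_singleton.1 (hcon v hv)
        refine ⟨μ ^ n * c, ?_⟩
        rw [mul_smul, hc, Matrix.smul_mulVec, smul_smul, mul_inv_cancel₀ (pow_ne_zero _ hμ), one_smul]
      choose c hc using heig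
      let i₀ : Fin n := ⟨0, by omega⟩
      refine hM (c (Pi.single i₀ 1)) ?_
      have key : ∀ i, c (Pi.single i 1) = c (Pi.single i₀ 1) := by
        intro i
        rcases eq_or_ne i i₀ with rfl | hi
        · rfl
        have h := hc (Pi.single i 1 + Pi.single i₀ 1)
        rw [Matrix.mulVec_add, hc, hc] at h
        have h1 := congrFun h i
        have h2 := congrFun h i₀
        simp [hi, Ne.symm hi] at h1 h2
        rw [h1, h2]
      ext i j
      have := congrFun (hc (Pi.single j 1)) i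
      rw [Matrix.mulVec_single_one] at this
      rw [show M i j = _ from this, key]
      simp [Matrix.one_apply, Pi.single_apply]
  · have hμn : δ = (μ ^ n)⁻¹ := by
      rw [hxdet] at hdx1
      exact eq_inv_of_mul_eq_one_right hdx1
    by_cases hδ1 : δ = 1
    · have h1 : μ ^ n = 1 := by rw [← inv_eq_one, ← hμn, hδ1]
      have h := hmain 1 (rp_core h4 (by omega) hδ n 1 ⊤ (by omega) (fun z _ => Matrix.one_mulVec z)
        (by rw [det_one, hδ1, one_pow]) (by omega) (by simp) fun h => by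
          rw [finrank_top, Module.finrank_fin_fun] at h; omega)
      rwa [h1, one_smul] at h
    · have h := hmain _ (rp_prod_diag hδ1 Finset.univ (by simp))
      rw [← Matrix.diagonal_smul] at h
      rw [show (1 : Matrix (Fin n) (Fin n) F) = diagonal (μ ^ n • fun i => if i ∈ (Finset.univ : Finset (Fin n)) then δ else 1) by
        rw [← diagonal_one]
        congr 1
        funext i
        simp [hμn, pow_ne_zero _ hμ]]
      exact h

end CfsgLib.GLClass.Cover
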