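import Mathlib
import Cfsg.Agent.Lib.GLClass.Cover.Pieces

/-!
Cyclic matrices in dimension three.
-/

set_option autoImplicit false

namespace CfsgLib.GLClass.Cover

open Polynomial Matrix Module
open CfsgLib.GLClass.CommSL

variable {F : Type*} [Field F]

theorem pow_three_of_cyc {M : Matrix (Fin 3) (Fin 3) F} (h : Cyc (X ^ 3 - Polynomial.C 1) M) :
    M * M * M = 1 ∧ M.det = 1 := by
  refine ⟨?_, ?_⟩
  · have h1 := aeval_self_charpoly M
    rw [h.charpoly_eq, map_sub, map_pow, aeval_X, aeval_C, map_one, sub_eq_zero] at h1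
    rwa [pow_succ, sq] at h1
  · rw [cyc_det_eq h, Fintype.card_fin]
    simp [coeff_one]
    norm_num

theorem pr_one_of_order_three {x P : Matrix (Fin 3) (Fin 3) F} (hP : P * P * P = 1) (hPd : P.det = 1)
    (hPx : P * x * (P * x) * (P * x) = 1) : Pr x (List.replicate 3 1) 1 := by
  have h1 : P * (P * P) = 1 := by rwa [← Matrix.mul_assoc]
  refine ⟨P * x * (P * P), P * P * x * P * x, ⟨P, P * P, h1, hPd, rfl⟩,
    ⟨P * P * x * P, x, ⟨P * P, P, hP, by rw [det_mul, hPd, one_mul], rfl⟩, pr_singleton_self x, rfl⟩, ?_⟩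
  symm
  calc P * x * (P * P) * (P * P * x * P * x) = P * x * (P * (P * P * P) * x) * (P * x) := by simp only [Matrix.mul_assoc]
    _ = 1 := by rw [hP, Matrix.mul_one]; exact hPx

theorem exists_order_three [Fintype F] (h4 : 4 ≤ Fintype.card F) {x : Matrix (Fin 3) (Fin 3) F} {f : F[X]}
    (hx : Cyc f x) (hd : x.det = 1) : Pr x (List.replicate 3 1) 1 := by
  by_cases h3 : (3 : F) = 0
  · -- characteristic three
    have hf0 : f.coeff 0 = -1 := by
      have h := cyc_det_eq hx
      rw [hd, Fintype.card_fin] at h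
      linear_combination h
    set s := f.coeff 1 with hs
    set t := -f.coeff 2 with ht
    set A : Matrix (Fin 3) (Fin 3) F := !![0, 0, 1; 1, 0, -s; 0, 1, t] with hA
    have hfd : f.natDegree = 3 := by rw [hx.2.1, Fintype.card_fin]
    have hfs : f = X ^ 3 + Polynomial.C (f.coeff 2) * X ^ 2 + Polynomial.C (f.coeff 1) * X + Polynomial.C (f.coeff 0) := by
      conv_lhs => rw [hx.1.as_sum, hfd, Finset.sum_range_succ, Finset.sum_range_succ, Finset.sum_range_one]
      simp only [pow_zero, pow_one, mul_one]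
      ring
    have hAc : Cyc f A := by
      refine cyc_of_indep (v := Pi.single 0 1) hx.1 hx.2.1 ?_ fun p hp hz => ?_
      · rw [hfs, hf0]
        simp only [map_add, map_mul, map_pow, aeval_X, aeval_C, Algebra.algebraMap_eq_smul_one, pow_succ, pow_zero,
          Matrix.one_mul, Matrix.smul_mul, Matrix.add_mulVec, Matrix.smul_mulVec, Matrix.one_mulVec,
          ← Matrix.mulVec_mulVec]
        funext i
        fin_cases i <;> simp [hA, hs, ht, Matrix.mulVec, dotProduct, Fin.sum_univ_three, Matrix.vecHead, Matrix.vecTail]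
      · rw [hfd] at hp
        rw [aeval_eq_sum_range' hp, Finset.sum_range_succ, Finset.sum_range_succ, Finset.sum_range_one] at hz
        simp only [pow_succ, pow_zero, Matrix.one_mul, Matrix.add_mulVec, Matrix.smul_mulVec, Matrix.one_mulVec,
          ← Matrix.mulVec_mulVec] at hz
        ext i
        rcases Nat.lt_or_ge i 3 with hi | hi
        · have h0 := congrFun hz ⟨i, hi⟩
          interval_cases i <;> simpa [hA, Matrix.mulVec, dotProduct, Fin.sum_univ_three] using h0
        · rw [coeff_zero, coeff_eq_zero_of_natDegree_lt (by omega)]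
    obtain ⟨U, V, hUV, hVU, hU⟩ := hx.sim hAc
    have hP : Pr A (List.replicate 3 1) 1 := by
      refine pr_one_of_order_three (P := !![1, -t, s - t ^ 2; 0, 1, 0; 0, 0, 1]) ?_ ?_ ?_
      · ext i j
        fin_cases i <;> fin_cases j <;>
          simp [Matrix.mul_apply, Fin.sum_univ_three] <;>
          first
            | linear_combination (-t) * h3
            | linear_combination (s - t ^ 2) * h3
      · rw [det_fin_three]
        simp
      · rw [hA]
        ext i j
        fin_cases i <;> fin_cases j <;> simp [Matrix.mul_apply, Fin.sum_univ_three] <;> ring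
    have := hP.transport hUV hVU
    rwa [Matrix.mul_one, hUV, ← hU] at this
  · -- a regular element of order three
    have hm : (X ^ 3 - Polynomial.C (1 : F)).Monic := monic_X_pow_sub_C _ (by omega)
    obtain ⟨S, hS⟩ := exists_cyc (ι := Fin 3) hm (by rw [natDegree_X_pow_sub_C, Fintype.card_fin])
    have hsr : SimpleRoot (X ^ 3 - Polynomial.C (1 : F)) := by
      refine ⟨1, X ^ 2 + (X + Polynomial.C 1), monic_X_pow_add (lt_of_le_of_lt ?_ (show ((1 : ℕ) : WithBot ℕ) < (2 : ℕ) from Nat.cast_lt.2 (by omega))), ?_, ?_⟩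
      · exact le_of_eq (degree_X_add_C 1)
      · simp only [eval_add, eval_pow, eval_X, eval_C]
        norm_num
        exact h3
      · rw [map_one]; ring
    obtain ⟨y, z, ε, ⟨U, V, hUV, -, hy⟩, ⟨P, Q, hPQ, -, hz⟩, hxyz, -⟩ := two_class (n := 3) (by omega)
      (M := x) (fun c => Cyc.ne_scalar' hx (by simp) c) hS hS hsr
      (by rw [hd, (pow_three_of_cyc hS).2, mul_one]) (by rw [hd]; exact one_ne_zero) (one_ne_zero (α := F)) (one_ne_zero (α := F))
    obtain ⟨hy3, hyd⟩ := pow_three_of_cyc (Cyc.of_sim ⟨U, V, hUV, mul_eq_one_comm.1 hUV, hy⟩ hS)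
    obtain ⟨hz3, -⟩ := pow_three_of_cyc (Cyc.of_sim ⟨P, Q, hPQ, mul_eq_one_comm.1 hPQ, hz⟩ hS)
    refine pr_one_of_order_three (P := y * y) ?_ (by rw [det_mul, hyd, one_mul]) ?_
    · calc y * y * (y * y) * (y * y) = y * y * y * (y * y * y) := by simp only [Matrix.mul_assoc]
        _ = 1 := by rw [hy3, Matrix.one_mul]
    · have hyx : y * y * x = z := by rw [hxyz, ← Matrix.mul_assoc, hy3, Matrix.one_mul]
      rw [hyx, hz3]

theorem cover_three [Fintype F] (h4 : 4 ≤ Fintype.card F) {x : Matrix (Fin 3) (Fin 3) F} {f : F[X]}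
    (hx : Cyc f x) (hd : x.det ≠ 0) : Cover x := by
  have hne : ∀ c : F, x ≠ c • 1 := fun c => Cyc.ne_scalar' hx (by simp) c
  have hc : CycS x 1 := ⟨x, f, hx, pr_singleton_self x⟩
  refine ⟨fun M hM hdet => ?_, fun h1 => exists_order_three h4 hx h1⟩
  obtain ⟨S, g, hS, hg, hSd⟩ := exists_sr_mat (ι := Fin 3) h4 (by simp) (pow_ne_zero 2 hd)
  exact cover_nonscalar (a := 1) (b := 2) le_rfl hd rfl hc ⟨S, g, hS, hg, allS_succ le_rfl hne hd hc hS hg hSd⟩ hM hdet

end CfsgLib.GLClass.Cover
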