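import Mathlib
import Cfsg.Agent.Lib.GLClass.Cover.Pieces

/-!
Two equal quadratic blocks in dimension four.
-/

set_option autoImplicit false

namespace CfsgLib.GLClass.Cover

open Polynomial Matrix Module
open CfsgLib.GLClass.CommSL

variable {F : Type*} [Field F]

theorem cyc_of_det_two {M : Matrix (Fin 2) (Fin 2) F} {v : Fin 2 → F}
    (h : v 0 * (M *ᵥ v) 1 - (M *ᵥ v) 0 * v 1 ≠ 0) : Cyc M.charpoly M := by
  refine (cyc_of_kry (v := v) ?_).1
  rw [det_fin_two]
  simpa [kry, mul_comm] using h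

/-- The second of the two conjugates. -/
def quadConj (τ δ s p : F) : Matrix (Fin 2) (Fin 2) F :=
  !![p, (p * τ - p * p - δ) / s; s, τ - p]

theorem conjD_quadConj {τ δ s : F} (hs : s ≠ 0) (p : F) :
    ConjD s !![0, -δ; 1, τ] (quadConj τ δ s p) := by
  refine ⟨!![1, p; 0, s], !![1, -p / s; 0, 1 / s], ?_, by simp [det_fin_two], ?_⟩
  · ext i j; fin_cases i <;> fin_cases j <;> simp [Matrix.mul_apply, Fin.sum_univ_two, hs]
    · field_simp
      ring
  · ext i j; fin_cases i <;> fin_cases j <;> simp [quadConj, Matrix.mul_apply, Fin.sum_univ_two] <;> field_simp <;> ring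

variable [Fintype F]

/-- Two products of two conjugates, with coprime polynomials, one of them split. -/
theorem exists_two_quad (h4 : 4 ≤ Fintype.card F) {τ δ : F} (hδ : δ ≠ 0) :
    ∃ (η : F) (R₁ R₂ : Matrix (Fin 2) (Fin 2) F), η ≠ 0 ∧ Cyc R₁.charpoly R₁ ∧ Cyc R₂.charpoly R₂ ∧
      SimpleRoot (R₁.charpoly * R₂.charpoly) ∧ IsCoprime R₁.charpoly R₂.charpoly ∧
      Pr !![0, -δ; 1, τ] [1, η] R₁ ∧ Pr !![0, -δ; 1, τ] [1, η] R₂ := by
  classical
  obtain ⟨η, hη, hη2⟩ : ∃ η : F, η ≠ 0 ∧ η ^ 2 ≠ 1 := by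
    obtain ⟨d, -, hd⟩ := Finset.exists_mem_notMem_of_card_lt_card (s := ({0, 1, -1} : Finset F)) (t := Finset.univ)
      (lt_of_le_of_lt Finset.card_le_three (by rw [Finset.card_univ]; omega))
    simp only [Finset.mem_insert, Finset.mem_singleton, not_or] at hd
    exact ⟨d, hd.1, fun h => (sq_eq_one_iff.1 h).elim hd.2.1 hd.2.2⟩
  obtain ⟨p, -, hp⟩ := Finset.exists_mem_notMem_of_card_lt_card (s := ({τ, -η * τ} : Finset F)) (t := Finset.univ)
    (lt_of_le_of_lt Finset.card_le_two (by rw [Finset.card_univ]; omega))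
  simp only [Finset.mem_insert, Finset.mem_singleton, not_or] at hp
  set C : Matrix (Fin 2) (Fin 2) F := !![0, -δ; 1, τ] with hC
  set R₁ := C * quadConj τ δ η τ with hR₁
  set R₂ := C * quadConj τ δ η p with hR₂
  have hP : ∀ p, Pr C [1, η] (C * quadConj τ δ η p) := fun p =>
    ⟨C, _, ConjD.refl C, pr_singleton (conjD_quadConj hη p), rfl⟩
  have e1 : R₁ = !![-δ * η, 0; τ + τ * η, -δ / η] := by
    rw [hR₁, hC, quadConj]
    ext i j; fin_cases i <;> fin_cases j <;> simp [Matrix.mul_apply, Fin.sum_univ_two] <;> field_simp <;> ring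
  have e2 : R₂ = !![-δ * η, -δ * (τ - p); p + τ * η, (p * τ - p * p - δ) / η + τ * (τ - p)] := by
    rw [hR₂, hC, quadConj]
    ext i j; fin_cases i <;> fin_cases j <;> simp [Matrix.mul_apply, Fin.sum_univ_two] <;> field_simp <;> ring
  have hd1 : R₁.det = δ ^ 2 := by rw [(hP τ).det_eq, hC, det_fin_two]; simp
  have hd2 : R₂.det = δ ^ 2 := by rw [(hP p).det_eq, hC, det_fin_two]; simp
  have hab : -δ * η ≠ -δ / η := by
    intro h
    field_simp at h
    exact hη2 (by linear_combination -h)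
  have hc1 : R₁.charpoly = (X - Polynomial.C (-δ * η)) * (X - Polynomial.C (-δ / η)) := by
    rw [charpoly_fin_two, hd1, e1, trace_fin_two]
    simp only [Matrix.of_apply, Matrix.cons_val', Matrix.cons_val_zero, Matrix.cons_val_one, Matrix.empty_val']
    rw [show δ ^ 2 = (-δ * η) * (-δ / η) by field_simp]
    simp only [map_add, map_mul]
    ring
  have hT : R₂.trace ≠ R₁.trace := by
    rw [e1, e2, trace_fin_two, trace_fin_two]
    simp only [Matrix.of_apply, Matrix.cons_val', Matrix.cons_val_zero, Matrix.cons_val_one, Matrix.empty_val']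
    intro h
    have h' : (τ - p) * (p + η * τ) = 0 := by
      field_simp at h
      linear_combination h
    rcases mul_eq_zero.1 h' with h | h
    · exact hp.1 (sub_eq_zero.1 h).symm
    · exact hp.2 (by linear_combination h)
  have hev : ∀ r, R₁.charpoly.eval r = 0 → R₂.charpoly.eval r ≠ 0 := by
    intro r h1 h2
    rw [charpoly_fin_two, hd1, eval_add, eval_sub, eval_pow, eval_mul, eval_X, eval_C, eval_C] at h1
    rw [charpoly_fin_two, hd2, eval_add, eval_sub, eval_pow, eval_mul, eval_X, eval_C, eval_C] at h2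
    have h3 : (R₂.trace - R₁.trace) * r = 0 := by linear_combination h1 - h2
    rw [(mul_eq_zero.1 h3).resolve_left (sub_ne_zero.2 hT)] at h1
    exact pow_ne_zero 2 hδ (by linear_combination h1)
  have ha := hev (-δ * η) (by rw [hc1]; simp)
  have hb := hev (-δ / η) (by rw [hc1]; simp)
  refine ⟨η, R₁, R₂, hη, ?_, cyc_two R₂ ?_, ?_, ?_, hP τ, hP p⟩
  · by_cases hc : τ + τ * η = 0
    · refine cyc_of_det_two (v := fun _ => 1) ?_
      rw [e1]
      simp [Matrix.mulVec, dotProduct, Fin.sum_univ_two, hc]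
      intro h
      exact hab (by linear_combination -h)
    · refine cyc_of_det_two (v := Pi.single 0 1) ?_
      rw [e1]
      simpa [Matrix.mulVec, dotProduct, Fin.sum_univ_two] using hc
  · rw [e2]
    simp [sub_eq_zero, hδ, Ne.symm hp.1]
  · refine ⟨-δ * η, (X - Polynomial.C (-δ / η)) * R₂.charpoly, (monic_X_sub_C _).mul (charpoly_monic _), ?_,
      by rw [hc1, mul_assoc]⟩
    rw [eval_mul]
    exact mul_ne_zero (by simpa [sub_eq_zero] using hab) ha
  · rw [hc1]
    exact IsCoprime.mul_left (coprime_lin ha) (coprime_lin hb)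

theorem sim_inv_two {R : Matrix (Fin 2) (Fin 2) F} (hR : Cyc R.charpoly R) (hd : R.det = 1) : Sim R⁻¹ R := by
  have h := cyc_inv hR (mul_nonsing_inv R (by rw [hd]; exact isUnit_one))
  have he : R⁻¹.charpoly = R.charpoly := by
    rw [charpoly_fin_two, charpoly_fin_two, det_nonsing_inv, hd, Ring.inverse_one, Matrix.inv_def, hd,
      Ring.inverse_one, one_smul, adjugate_fin_two, trace_fin_two, trace_fin_two]
    simp [add_comm]
  rw [he] at h
  exact h.sim hR

/-- Two equal quadratic blocks. -/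
theorem cover_two_quad (h4 : 4 ≤ Fintype.card F) {x : Matrix (Fin 4) (Fin 4) F} {f : F[X]} (hf : f.Monic)
    (hd : f.natDegree = 2) (hs : Sim x (CM [f, f])) (hxd : x.det ≠ 0) : Cover x := by
  set δ := f.coeff 0 with hδ'
  set τ := -f.coeff 1 with hτ
  set C : Matrix (Fin 2) (Fin 2) F := !![0, -δ; 1, τ] with hC
  have hCd : C.det = δ := by rw [hC, det_fin_two]; simp
  have hCf : C.charpoly = f := by
    rw [charpoly_fin_two, hCd, trace_fin_two]
    conv_rhs => rw [hf.as_sum, hd, Finset.sum_range_succ, Finset.sum_range_one]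
    simp [hC, hτ, hδ', map_neg]
    ring
  have hCc : Cyc f C := by
    rw [← hCf]
    refine cyc_of_det_two (v := Pi.single 0 1) ?_
    simp [hC, Matrix.mulVec, dotProduct, Fin.sum_univ_two]
  have hsx : Sim x (fromBlocks C 0 0 C) :=
    hs.trans ((cm_cons f [f]).trans (((cyc_comp hf).sim hCc).blocks ((cm_singleton f).trans ((cyc_comp hf).sim hCc))))
  have hδ : δ ≠ 0 := by
    intro h
    rw [hsx.det_eq, det_fromBlocks_zero₁₂, hCd, h, zero_mul] at hxd
    exact hxd rfl
  obtain ⟨η, R₁, R₂, hη, hR₁, hR₂, hsr, hco, hP₁, hP₂⟩ := exists_two_quad (τ := τ) h4 hδ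
  set S := fromBlocks R₁ 0 0 R₂ with hS
  have hSc : Cyc (R₁.charpoly * R₂.charpoly) S := cyc_blocks hco hR₁ hR₂
  have hcen : ConjD (η⁻¹ * η⁻¹) (fromBlocks C 0 0 C) (fromBlocks C 0 0 C) := by
    refine ⟨fromBlocks (η⁻¹ • 1) 0 0 1, fromBlocks (η • 1) 0 0 1, ?_, ?_, ?_⟩
    · simp [fromBlocks_multiply, smul_smul, hη]
    · rw [det_fromBlocks_zero₁₂, det_smul, det_one, Fintype.card_fin, mul_one, sq]
      simp
    · simp [fromBlocks_multiply, smul_smul, hη]
  have hPS : Pr (fromBlocks C 0 0 C) [1, 1] S := by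
    obtain ⟨y, N, hy, ⟨z, N', hz, hN', rfl⟩, he⟩ :=
      (show Pr (fromBlocks C 0 0 C) [1 * 1, η * η] S from hP₁.blocks hP₂ rfl)
    rw [one_mul] at hy
    have hz' := hcen.trans hz
    rw [show η * η * (η⁻¹ * η⁻¹) = 1 by field_simp] at hz'
    exact ⟨y, _, hy, ⟨z, N', hz', hN', rfl⟩, he⟩
  have hSR : SRS x 2 := SRS.of_sim hsx ⟨S, _, hSc, hsr, hPS⟩
  refine ⟨fun M hM hdet => cover_nonscalar (a := 2) (b := 2) (by omega) hxd rfl hSR.cycS hSR hM hdet, fun hdx => ?_⟩
  have hδ2 : δ * δ = 1 := by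
    rw [hsx.det_eq, det_fromBlocks_zero₁₂, hCd] at hdx
    exact hdx
  have hd1 : R₁.det = 1 := by
    rw [hP₁.det_eq, show (!![0, -δ; 1, τ] : Matrix (Fin 2) (Fin 2) F).det = δ from hCd]; simpa [sq] using hδ2
  have hd2 : R₂.det = 1 := by
    rw [hP₂.det_eq, show (!![0, -δ; 1, τ] : Matrix (Fin 2) (Fin 2) F).det = δ from hCd]; simpa [sq] using hδ2
  have hSinv : S * fromBlocks R₁⁻¹ 0 0 R₂⁻¹ = 1 := by
    rw [hS, fromBlocks_multiply]
    simp [mul_nonsing_inv _ (show IsUnit R₁.det by rw [hd1]; exact isUnit_one),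
      mul_nonsing_inv _ (show IsUnit R₂.det by rw [hd2]; exact isUnit_one)]
  obtain ⟨ε, hε⟩ := exists_conjD_of_sim ((sim_inv_two hR₁ hd1).blocks (sim_inv_two hR₂ hd2))
  obtain ⟨U, V, hUV, hUd, hU⟩ := (flex_of_simpleRoot hSc hsr).conjD hε (one_ne_zero (α := F))
  have h2 := hPS.conj hUV
  rw [← hU, hUd] at h2
  have h3 := hPS.append h2
  rw [hSinv] at h3
  obtain ⟨P, Q, hPQ, hQP, rfl⟩ := hsx
  have h5 := h3.transport hPQ hQP
  rw [Matrix.mul_one, hPQ] at h5
  simpa using h5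

end CfsgLib.GLClass.Cover
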