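import Mathlib
import Cfsg.Agent.Lib.GLClass.Cover.Forms
import Cfsg.Agent.Lib.GLClass.Cover.TwoDim
import Cfsg.Agent.Lib.GLClass.Cover.RankOne
import Cfsg.Agent.Lib.GLClass.Cover.Three

/-!
Over a field with at least four elements every matrix of the right determinant is a product of `n` conjugates
of a given non-scalar invertible matrix, the identity included.
-/

set_option autoImplicit false

namespace CfsgLib.GLClass.Cover

open Polynomial Matrix Module
open CfsgLib.GLClass.CommSL

variable {F : Type*} [Field F] {ι κ σ : Type*} [Fintype ι] [DecidableEq ι] [Fintype κ] [DecidableEq κ]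
  [Fintype σ] [DecidableEq σ]

section Lists

variable (μ : F) (s k : ℕ) (f : F[X]) (B : List F[X])

theorem card_blockList :
    Fintype.card (Idx (blockList μ s k f B)) = s + Fintype.card (Idx (B ++ List.replicate k f)) := by
  rw [card_idx, card_idx, blockList, List.map_append, List.sum_append, List.map_replicate, List.sum_replicate,
    natDegree_X_sub_C, smul_eq_mul, mul_one]

theorem length_blockList : (blockList μ s k f B).length = s + (B.length + k) := by
  simp [blockList]

theorem sim_blockList_rest :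
    Sim (CM (blockList μ s k f B))
      (fromBlocks (CM (B ++ List.replicate k f)) 0 0 (μ • (1 : Matrix (Fin s) (Fin s) F))) :=
  (cm_append _ _).trans ((sim_blocks_comm _ _).trans ((Sim.refl _).blocks (sim_cm_scalar μ s)))

theorem sim_blockList_add (j : ℕ) :
    Sim (CM (blockList μ (s + j) k f B))
      (fromBlocks (CM (blockList μ s k f B)) 0 0 (μ • (1 : Matrix (Fin j) (Fin j) F))) := by
  have h : blockList μ (s + j) k f B = List.replicate j (X - Polynomial.C μ) ++ blockList μ s k f B := by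
    rw [blockList, blockList, Nat.add_comm, List.replicate_add, List.append_assoc]
  rw [h]
  exact (cm_append _ _).trans ((sim_blocks_comm _ _).trans ((Sim.refl _).blocks (sim_cm_scalar μ j)))

end Lists

/-- The shapes other than scalar plus rank one. -/
structure Shape (k : ℕ) (f : F[X]) (B : List F[X]) : Prop where
  big : ∀ b ∈ B, b.Monic ∧ 3 ≤ b.natDegree
  quad : 0 < k → f.Monic ∧ f.natDegree = 2
  two : B ≠ [] ∨ 2 ≤ k

variable {μ : F} {k : ℕ} {f : F[X]} {B : List F[X]}

theorem Shape.card_ge [Fintype F] (h : Shape k f B) : 3 * B.length + 2 * k ≤ Fintype.card (Idx (B ++ List.replicate k f)) :=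
  card_big h.big k h.quad

theorem Shape.bound [Fintype F] (h : Shape k f B) :
    B.length + k + 2 ≤ Fintype.card (Idx (B ++ List.replicate k f)) ∧
      3 ≤ Fintype.card (Idx (B ++ List.replicate k f)) := by
  have h1 := h.card_ge
  rcases h.two with hB | hk
  · have h2 := List.length_pos_iff.2 hB
    omega
  · omega

theorem Shape.monic (h : Shape k f B) (s : ℕ) : ∀ φ ∈ blockList μ s k f B, φ.Monic := by
  intro φ hφ
  rcases List.mem_append.1 hφ with h1 | h1
  · exact List.eq_of_mem_replicate h1 ▸ monic_X_sub_C μ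
  · rcases List.mem_append.1 h1 with h2 | h2
    · exact (h.big φ h2).1
    · obtain ⟨hk, rfl⟩ := List.mem_replicate.1 h2
      exact (h.quad (Nat.pos_of_ne_zero hk)).1

theorem Shape.ne_scalar_rest (h : Shape k f B) (c : F) : CM (B ++ List.replicate k f) ≠ c • 1 := by
  rcases h.two with hB | hk
  · obtain ⟨φ, hφ⟩ := List.exists_mem_of_ne_nil _ hB
    have := (h.big φ hφ).2
    exact ne_scalar_cm (List.mem_append_left _ hφ) (h.big φ hφ).1 (by omega) c
  · exact ne_scalar_cm (List.mem_append_right _ (List.mem_replicate.2 ⟨by omega, rfl⟩)) (h.quad (by omega)).1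
      (h.quad (by omega)).2.ge c

theorem Shape.ne_scalar (h : Shape k f B) (s : ℕ) (c : F) : CM (blockList μ s k f B) ≠ c • 1 :=
  sim_ne_scalar (sim_blockList_rest μ s k f B) (ne_scalar_blocks _ h.ne_scalar_rest) c

theorem Shape.card_even_of_nil (h : Shape k f B) (hB : B = []) :
    Fintype.card (Idx (B ++ List.replicate k f)) = 2 * k := by
  subst hB
  have hk := h.two.resolve_left fun h => h rfl
  rw [List.nil_append, card_idx, List.map_replicate, List.sum_replicate, (h.quad (by omega)).2, smul_eq_mul, mul_comm]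

variable [Fintype F]

theorem det_parts {x : Matrix ι ι F} {x₀ : Matrix κ κ F} {z : Matrix σ σ F} (hs : Sim x (fromBlocks x₀ 0 0 z))
    (hd : x.det ≠ 0) : x₀.det ≠ 0 ∧ z.det ≠ 0 := by
  rw [hs.det_eq, det_fromBlocks_zero₁₂, mul_ne_zero_iff] at hd
  exact hd

theorem srIn_one (h4 : 4 ≤ Fintype.card F) (h : Shape k f B)
    (hodd : Fintype.card (Idx (blockList μ 1 k f B)) % 2 = 1) (hd : (CM (blockList μ 1 k f B)).det ≠ 0) :
    SRIn (CM (blockList μ 1 k f B)) ((Fintype.card (Idx (blockList μ 1 k f B)) - 1) / 2) := by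
  have hs := sim_blockList_rest μ 1 k f B
  have hcn := card_blockList μ 1 k f B
  have hb := h.bound
  have hcg := h.card_ge
  have hd0 := (det_parts hs hd).1
  obtain ⟨a, ha, hsr⟩ : ∃ a, 2 * a + 1 ≤ Fintype.card (Idx (blockList μ 1 k f B)) ∧
      SRIn (CM (blockList μ 1 k f B)) a := by
    by_cases hB : B = []
    · have hk := h.two.resolve_left fun h => h hB
      have hq := h.quad (by omega)
      have hsq : Sim (CM (B ++ List.replicate k f)) (QX (Fin k) (-f.coeff 1) (f.coeff 0)) := by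
        rw [hB, List.nil_append]
        exact sim_cm_replicate hq.1 hq.2 k
      refine ⟨2, by have := h.card_even_of_nil hB; omega,
        (qx_single_srIn (μ := μ) h4 (by rw [Fintype.card_fin]; exact hk) fun h0 => hd0 ?_).of_sim
          (hs.trans (hsq.blocks (Sim.refl _)))⟩
      rw [hsq.det_eq, det_qx, h0, zero_pow (by rw [Fintype.card_fin]; omega)]
    · have hBl := List.length_pos_iff.2 hB
      refine ⟨B.length + min k 2 + 1, ?_, (sum_single h4 hb.2 hd0
        (allSR_succ h.ne_scalar_rest hd0 (by omega) (cycIn_big h4 h.big h.quad (Or.inl hB) hd0))).of_sim hs⟩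
      omega
  rcases Nat.eq_or_lt_of_le (show a ≤ (Fintype.card (Idx (blockList μ 1 k f B)) - 1) / 2 by omega) with he | hlt
  · exact he ▸ hsr
  · exact (allSR_of_le h4 (h.ne_scalar 1) hd (by omega) hsr.cycIn hlt).srIn h4 hd (by omega)

theorem cycIn_odd (h4 : 4 ≤ Fintype.card F) (h : Shape k f B) : ∀ (s : ℕ),
    Fintype.card (Idx (blockList μ s k f B)) % 2 = 1 → (CM (blockList μ s k f B)).det ≠ 0 →
      CycIn (CM (blockList μ s k f B)) ((Fintype.card (Idx (blockList μ s k f B)) - 1) / 2)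
  | 0, hodd, hd => by
    have hcn := card_blockList μ 0 k f B
    have hb := h.bound
    have hcg := h.card_ge
    have hB : B ≠ [] := fun hB => by have := h.card_even_of_nil hB; omega
    have hBl := List.length_pos_iff.2 hB
    have hbl : blockList μ 0 k f B = B ++ List.replicate k f := by rw [blockList, List.replicate_zero, List.nil_append]
    rw [hbl] at hd ⊢
    exact cycIn_le h4 h.ne_scalar_rest hd (by omega) (cycIn_big h4 h.big h.quad (Or.inl hB) hd) (by omega)
  | 1, hodd, hd => (srIn_one h4 h hodd hd).cycIn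
  | s + 2, hodd, hd => by
    have hs := sim_blockList_add μ s k f B 2
    have hcn := card_blockList μ (s + 2) k f B
    have hcn' := card_blockList μ s k f B
    have hb := h.bound
    have hlen := length_blockList μ (s + 2) k f B
    have ih := cycIn_odd h4 h s (by omega) (det_parts hs hd).1
    have := step_cyc hs (gen_cm (h.monic (s + 2))) (by omega) hd ih
    rwa [show (Fintype.card (Idx (blockList μ s k f B)) - 1) / 2 + 1 =
      (Fintype.card (Idx (blockList μ (s + 2) k f B)) - 1) / 2 by omega] at this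

section Peel

theorem exists_rootless_mat (h4 : 4 ≤ Fintype.card F) (hκ : 2 ≤ Fintype.card κ) {c : F} (hc : c ≠ 0) :
    ∃ (G : Matrix κ κ F) (g : F[X]), Cyc g G ∧ (∀ r, g.eval r ≠ 0) ∧ G.det = c := by
  obtain ⟨g, h1, h2, h3, h5⟩ := exists_rootless' h4 hκ (c := (-1) ^ Fintype.card κ * c)
    (mul_ne_zero (pow_ne_zero _ (neg_ne_zero.2 one_ne_zero)) hc)
  obtain ⟨G, hG⟩ := exists_cyc (ι := κ) h1 h2
  exact ⟨G, g, hG, h5, det_of_cyc hG h3⟩

omit [Fintype F] in
theorem rootless_inv {G T : Matrix ι ι F} {g : F[X]} (hG : Cyc g G) (hg : ∀ r, g.eval r ≠ 0) (hGT : G * T = 1)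
    (r : F) : T.charpoly.eval r ≠ 0 := by
  have key : ∀ s : F, (s • 1 - G).det ≠ 0 := fun s => by
    have := Matrix.eval_charpoly G s
    rw [hG.charpoly_eq, Matrix.scalar_apply, ← Matrix.smul_one_eq_diagonal] at this
    exact this ▸ hg s
  rw [Matrix.eval_charpoly, Matrix.scalar_apply, ← Matrix.smul_one_eq_diagonal]
  rcases eq_or_ne r 0 with rfl | hr
  · rw [zero_smul, zero_sub, det_neg]
    exact mul_ne_zero (pow_ne_zero _ (neg_ne_zero.2 one_ne_zero)) (det_ne_zero_of_left_inverse hGT)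
  intro h0
  have h1 : (r • 1 - T) * G = (-r) • (r⁻¹ • (1 : Matrix ι ι F) - G) := by
    rw [Matrix.sub_mul, Matrix.smul_mul, Matrix.one_mul, mul_eq_one_comm.1 hGT, smul_sub, smul_smul, neg_mul,
      mul_inv_cancel₀ hr, neg_smul, neg_smul, one_smul, sub_neg_eq_add, neg_add_eq_sub]
  have h2 := congrArg Matrix.det h1
  rw [det_mul, h0, zero_mul, det_smul] at h2
  exact mul_ne_zero (pow_ne_zero _ (neg_ne_zero.2 hr)) (key _) h2.symm

/-- The model of the classes used below. -/
def tri {ρ : Type*} [Fintype ρ] [DecidableEq ρ] (G : Matrix ρ ρ F) (d c : F) :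
    Matrix ((ρ ⊕ Unit) ⊕ Unit) ((ρ ⊕ Unit) ⊕ Unit) F :=
  fromBlocks (fromBlocks G 0 0 (d • 1)) 0 0 (c • 1)

/-- A block of size at least three next to a single one. -/
theorem peel {x₀ : Matrix κ κ F} {a : ℕ} (H : AllSR x₀ a) [Unique σ] {m : ℕ} (hm : m + 1 = Fintype.card κ)
    {G : Matrix (Fin m) (Fin m) F} {g : F[X]} (hG : Cyc g G) (hg : ∀ r, g.eval r ≠ 0) {d μ : F} (hd : d ≠ μ ^ a)
    (hdet : G.det * d = x₀.det ^ a) :
    ∃ P : Matrix (κ ⊕ σ) (κ ⊕ σ) F, Cyc ((X - Polynomial.C d) * (g * (X - Polynomial.C (μ ^ a)))) P ∧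
      Sim P (tri G d (μ ^ a)) ∧ GPr (fromBlocks x₀ 0 0 (μ • (1 : Matrix σ σ F))) a P := by
  have hco : IsCoprime g (X - Polynomial.C d) := (coprime_lin (hg d)).symm
  have hB := cyc_blocks hco hG (cyc_unit d)
  obtain ⟨A, hA⟩ := exists_cyc (ι := κ) (hG.1.mul (monic_X_sub_C d)) (by
    rw [hG.1.natDegree_mul (monic_X_sub_C d), hG.2.1, natDegree_X_sub_C, Fintype.card_fin, hm])
  have hAd : A.det = x₀.det ^ a := by
    rw [(hA.sim hB).det_eq, det_fromBlocks_zero₁₂, det_smul, det_one, mul_one, Fintype.card_unit, pow_one, hdet]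
  have hγ : Cyc (X - Polynomial.C (μ ^ a)) ((μ ^ a) • (1 : Matrix σ σ F)) :=
    Cyc.of_sim (sim_scalar _ (by simp)) (cyc_unit (μ ^ a))
  have hc : IsCoprime (g * (X - Polynomial.C d)) (X - Polynomial.C (μ ^ a)) :=
    IsCoprime.mul_left (coprime_lin (hg _)).symm (coprime_lin (by simp [sub_eq_zero, hd.symm])).symm
  refine ⟨_, ?_, (hA.sim hB).blocks (sim_scalar _ (by simp)),
    (H A _ hA ⟨d, g, hG.1, hg d, mul_comm _ _⟩ hAd).blocks (gpr_scalar μ a)⟩
  have := cyc_blocks hc hA hγ
  rwa [show g * (X - Polynomial.C d) * (X - Polynomial.C (μ ^ a)) =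
    (X - Polynomial.C d) * (g * (X - Polynomial.C (μ ^ a))) by ring] at this

end Peel

variable {n : ℕ}

theorem cover_even (h4 : 4 ≤ Fintype.card F) (h : Shape k f B) {s : ℕ} {x : Matrix (Fin n) (Fin n) F}
    (hs : Sim x (CM (blockList μ (s + 1) k f B))) (hn : n % 2 = 0) (hxd : x.det ≠ 0) : Cover x := by
  have hsx : Sim x (fromBlocks (CM (blockList μ s k f B)) 0 0 (μ • (1 : Matrix (Fin 1) (Fin 1) F))) :=
    hs.trans (sim_blockList_add μ s k f B 1)
  obtain ⟨hd', hμ1⟩ := det_parts hsx hxd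
  have hμ : μ ≠ 0 := fun h0 => hμ1 (by rw [h0, zero_smul, det_zero])
  have hcard : Fintype.card (Idx (blockList μ s k f B)) + 1 = n := by
    have := card_eq_of_sim hsx
    rw [Fintype.card_fin, Fintype.card_sum, Fintype.card_fin] at this
    exact this.symm
  have hb := h.bound
  have hcn := card_blockList μ s k f B
  have hflex : Flex x := Flex.of_sim (hsx.trans (sim_blocks_comm _ _)) ((flex_scalar μ).blocks_left _)
  obtain ⟨a, rfl⟩ : ∃ a, n = a + a := ⟨n / 2, by omega⟩
  have H : AllSR (CM (blockList μ s k f B)) a := by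
    have := allSR_succ (h.ne_scalar s) hd' (by omega) (cycIn_odd h4 h s (by omega) hd')
    rwa [show (Fintype.card (Idx (blockList μ s k f B)) - 1) / 2 + 1 = a by omega] at this
  have hsr : SRS x a := hflex.srS ((sum_single h4 (by omega) hd' H).of_sim hsx)
  refine ⟨fun M hM hdet => cover_nonscalar (by omega) hxd rfl hsr.cycS hsr hM hdet, fun hdx => ?_⟩
  set c := μ ^ a with hc
  have hc0 : c ≠ 0 := pow_ne_zero _ hμ
  have hx'd : (CM (blockList μ s k f B)).det ^ a = c⁻¹ := by
    rw [hsx.det_eq, det_fromBlocks_zero₁₂, det_smul, det_one, mul_one, Fintype.card_fin, pow_one] at hdx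
    rw [eq_inv_of_mul_eq_one_left hdx, inv_pow]
  obtain ⟨d, d', hd0, hdc, hd'c, hdd⟩ : ∃ d d' : F, d ≠ 0 ∧ d ≠ c ∧ d' ≠ c ∧
      ((d' = d⁻¹ ∧ c * c = 1) ∨ (d = c⁻¹ ∧ d' = c⁻¹)) := by
    by_cases hcc : c * c = 1
    · classical
      obtain ⟨d, -, hd⟩ := Finset.exists_mem_notMem_of_card_lt_card (s := ({0, c} : Finset F)) (t := Finset.univ)
        (lt_of_le_of_lt Finset.card_le_two (by rw [Finset.card_univ]; omega))
      simp only [Finset.mem_insert, Finset.mem_singleton, not_or] at hd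
      refine ⟨d, d⁻¹, hd.1, hd.2, fun he => hd.2 ?_, Or.inl ⟨rfl, hcc⟩⟩
      rw [← inv_inv d, he]
      exact inv_eq_of_mul_eq_one_right hcc
    · have hne : c⁻¹ ≠ c := fun he => hcc (by nth_rw 1 [← he]; exact inv_mul_cancel₀ hc0)
      exact ⟨c⁻¹, c⁻¹, inv_ne_zero hc0, hne, hne, Or.inr ⟨rfl, rfl⟩⟩
  obtain ⟨m, hm⟩ : ∃ m, m + 1 = Fintype.card (Idx (blockList μ s k f B)) :=
    ⟨Fintype.card (Idx (blockList μ s k f B)) - 1, by omega⟩
  obtain ⟨G, g, hG, hg, hGd⟩ := exists_rootless_mat (κ := Fin m) h4 (by rw [Fintype.card_fin]; omega)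
    (c := c⁻¹ / d) (div_ne_zero (inv_ne_zero hc0) hd0)
  have hGd0 : G.det ≠ 0 := hGd ▸ div_ne_zero (inv_ne_zero hc0) hd0
  set T := G⁻¹ with hT
  have hGT : G * T = 1 := mul_nonsing_inv _ (isUnit_iff_ne_zero.2 hGd0)
  obtain ⟨P, hPc, hPs, hPg⟩ := peel (σ := Fin 1) H hm hG hg (μ := μ) hdc (by rw [hx'd, hGd]; field_simp)
  obtain ⟨P', -, hP's, hP'g⟩ := peel (σ := Fin 1) H hm (cyc_inv hG hGT) (rootless_inv hG hg hGT) (μ := μ) hd'c (by
    rw [hx'd, hT, det_nonsing_inv, Ring.inverse_eq_inv', hGd, inv_div, div_inv_eq_mul]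
    rcases hdd with ⟨rfl, hcc⟩ | ⟨rfl, rfl⟩
    · rw [mul_comm d c, mul_assoc, mul_inv_cancel₀ hd0, mul_one]
      exact (inv_eq_of_mul_eq_one_right hcc).symm
    · rw [inv_mul_cancel₀ hc0, one_mul])
  obtain ⟨S, hS, hSg⟩ := hPg.of_sim_left hsx
  obtain ⟨S', hS', hS'g⟩ := hP'g.of_sim_left hsx
  have hSd : S.det = 1 := by rw [hSg.det_eq, hdx, one_pow]
  have hSS : S * S⁻¹ = 1 := mul_nonsing_inv _ (by rw [hSd]; exact isUnit_one)
  have hinv : Sim S⁻¹ (tri T d' c) := by
    obtain ⟨U, V, h1, h2, hU⟩ := hS.trans hPs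
    have hmul : S * (U * tri T d⁻¹ c⁻¹ * V) = 1 := by
      rw [hU]
      calc U * tri G d c * V * (U * tri T d⁻¹ c⁻¹ * V) = U * (tri G d c * (V * U) * tri T d⁻¹ c⁻¹) * V := by
            simp only [Matrix.mul_assoc]
        _ = 1 := by
            rw [h2, Matrix.mul_one, show tri G d c * tri T d⁻¹ c⁻¹ = 1 from ?_, Matrix.mul_one, h1]
            simp [tri, fromBlocks_multiply, hGT, smul_smul, mul_inv_cancel₀ hd0, mul_inv_cancel₀ hc0,
              inv_mul_cancel₀ hd0, inv_mul_cancel₀ hc0]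
    refine Sim.trans ⟨U, V, h1, h2, inv_eq_right_inv hmul⟩ ?_
    rcases hdd with ⟨rfl, hcc⟩ | ⟨rfl, rfl⟩
    · rw [show c⁻¹ = c from inv_eq_of_mul_eq_one_right hcc]
      exact Sim.refl _
    · rw [inv_inv]
      exact (sim_blocks_assoc _ _ _).trans (((Sim.refl T).blocks (sim_blocks_comm _ _)).trans (sim_blocks_assoc _ _ _).symm)
  have hP := hSg.append (hS'g.of_sim_right (hinv.trans (hS'.trans hP's).symm))
  rw [hSS] at hP
  exact hflex.replicate hP

theorem cover_odd (h4 : 4 ≤ Fintype.card F) (h : Shape k f B) {s : ℕ} {x : Matrix (Fin n) (Fin n) F}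
    (hs : Sim x (CM (blockList μ (s + 2) k f B))) (hn : n % 2 = 1) (hxd : x.det ≠ 0) : Cover x := by
  have hcard : Fintype.card (Idx (blockList μ (s + 2) k f B)) = n := by
    rw [← card_eq_of_sim hs, Fintype.card_fin]
  have hb := h.bound
  have hc2 := card_blockList μ (s + 2) k f B
  have hc1 := card_blockList μ (s + 1) k f B
  have hc0' := card_blockList μ s k f B
  have hflex : Flex x := Flex.of_sim ((hs.trans (sim_blockList_add μ (s + 1) k f B 1)).trans (sim_blocks_comm _ _))
    ((flex_scalar μ).blocks_left _)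
  obtain ⟨a, rfl⟩ : ∃ a, n = 2 * a + 1 := ⟨n / 2, by omega⟩
  have hdc : (CM (blockList μ (s + 2) k f B)).det ≠ 0 := hs.det_eq ▸ hxd
  have hC : CycS x a := by
    refine hflex.cycS (CycIn.of_sim hs ?_)
    have := cycIn_odd h4 h (s + 2) (by omega) hdc
    rwa [show (Fintype.card (Idx (blockList μ (s + 2) k f B)) - 1) / 2 = a by omega] at this
  have hs1 : Sim x (fromBlocks (CM (blockList μ (s + 1) k f B)) 0 0 (μ • (1 : Matrix (Fin 1) (Fin 1) F))) :=
    hs.trans (sim_blockList_add μ (s + 1) k f B 1)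
  obtain ⟨hd1, hμ1⟩ := det_parts hs1 hxd
  have hμ : μ ≠ 0 := fun h0 => hμ1 (by rw [h0, zero_smul, det_zero])
  have hs0 := sim_blockList_add μ s k f B 1
  obtain ⟨hd0, -⟩ := det_parts hs0 hd1
  have H : AllSR (CM (blockList μ s k f B)) a := by
    have := allSR_succ (h.ne_scalar s) hd0 (by omega) (cycIn_odd h4 h s (by omega) hd0)
    rwa [show (Fintype.card (Idx (blockList μ s k f B)) - 1) / 2 + 1 = a by omega] at this
  classical
  obtain ⟨d, -, hd⟩ := Finset.exists_mem_notMem_of_card_lt_card (s := ({0, μ ^ a} : Finset F)) (t := Finset.univ)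
    (lt_of_le_of_lt Finset.card_le_two (by rw [Finset.card_univ]; omega))
  simp only [Finset.mem_insert, Finset.mem_singleton, not_or] at hd
  obtain ⟨m, hm⟩ : ∃ m, m + 1 = Fintype.card (Idx (blockList μ s k f B)) :=
    ⟨Fintype.card (Idx (blockList μ s k f B)) - 1, by omega⟩
  obtain ⟨G, g, hG, hg, hGd⟩ := exists_rootless_mat (κ := Fin m) h4 (by rw [Fintype.card_fin]; omega)
    (c := (CM (blockList μ s k f B)).det ^ a / d) (div_ne_zero (pow_ne_zero _ hd0) hd.1)
  obtain ⟨P, hPc, -, hPg⟩ := peel (σ := Fin 1) H hm hG hg (μ := μ) hd.2 (by rw [hGd, div_mul_cancel₀ _ hd.1])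
  obtain ⟨P₀, hP₀, hP₀g⟩ := hPg.of_sim_left hs0
  have hlen := length_blockList μ (s + 2) k f B
  have every : ∀ {S : Matrix (Fin (2 * a + 1)) (Fin (2 * a + 1)) F} {φ : F[X]}, Cyc φ S → S.det = x.det ^ (a + 1) →
      GPr x (a + 1) S := fun hS hdet =>
    step_every hs1 (gen_of_sim hs (gen_cm (h.monic (s + 2)))) (by omega) hxd (hG.1.mul (monic_X_sub_C (μ ^ a)))
      (by rw [eval_mul]; exact mul_ne_zero (hg d) (by simp [sub_eq_zero, hd.2]))
      (Cyc.of_sim hP₀ hPc) hP₀g (Ne.symm hd.2) hS hdet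
  refine ⟨fun M hM hdet => ?_, fun hdx => ?_⟩
  · obtain ⟨S, φ, hS, hφ, hSd⟩ := exists_sr_mat (ι := Fin (2 * a + 1)) h4 (by rw [Fintype.card_fin]; omega)
      (pow_ne_zero (a + 1) hxd)
    exact cover_nonscalar (by omega) hxd (show a + (a + 1) = 2 * a + 1 by omega) hC
      ⟨S, φ, hS, hφ, hflex.replicate (every hS hSd)⟩ hM hdet
  · obtain ⟨A, φ, hA, hP⟩ := hC
    have hAd : A.det = 1 := by rw [hP.det_eq, hdx, one_pow]
    have hAA : A * A⁻¹ = 1 := mul_nonsing_inv _ (by rw [hAd]; exact isUnit_one)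
    have := hP.append (hflex.replicate (every (cyc_inv hA hAA)
      (by rw [det_nonsing_inv, hAd, Ring.inverse_one, hdx, one_pow])))
    rw [hAA, ← List.replicate_add, show a + (a + 1) = 2 * a + 1 by omega] at this
    exact this

omit [Fintype F] in
theorem sim_scalar_eq {x : Matrix ι ι F} {c : F} (hs : Sim x (c • (1 : Matrix κ κ F))) : x = c • 1 := by
  obtain ⟨U, V, h1, -, hU⟩ := hs
  rw [hU, Matrix.mul_smul, Matrix.smul_mul, Matrix.mul_one, h1]

/-- Every matrix of the right determinant is a product of `n` conjugates. -/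
theorem cover_of_nonscalar (h4 : 4 ≤ Fintype.card F) (hn : 3 ≤ n) {x : Matrix (Fin n) (Fin n) F}
    (hx : ∀ c : F, x ≠ c • 1) (hxd : x.det ≠ 0) : Cover x := by
  obtain ⟨μ, s, k, f, B, hB, hf, hμf, hs⟩ := exists_form x
  have hcard : Fintype.card (Idx (blockList μ s k f B)) = n := by rw [← card_eq_of_sim hs, Fintype.card_fin]
  rw [card_blockList] at hcard
  by_cases hshape : B ≠ [] ∨ 2 ≤ k
  swap
  · -- scalar plus rank one
    push Not at hshape
    obtain ⟨rfl, hk⟩ := hshape
    have hr := hs.trans (sim_blockList_rest μ s k f [])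
    rcases Nat.eq_zero_or_pos k with rfl | hk0
    · haveI : IsEmpty (Idx ([] ++ List.replicate 0 f : List F[X])) := inferInstanceAs (IsEmpty (Fin 0))
      exact absurd (sim_scalar_eq (hr.trans ((sim_blocks_comm _ _).trans (sim_blocks_empty _ _)))) (hx μ)
    obtain rfl : k = 1 := by omega
    obtain ⟨hfm, hfd⟩ := hf hk0
    have hs1 : 0 < s := by
      rw [List.nil_append, card_idx, List.map_replicate, List.sum_replicate, hfd, smul_eq_mul] at hcard
      omega
    obtain ⟨q, rfl⟩ := dvd_iff_isRoot.2 (show f.IsRoot μ from hμf hs1 hk0)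
    have hqm := (monic_X_sub_C μ).of_mul_monic_left hfm
    rw [(monic_X_sub_C μ).natDegree_mul hqm, natDegree_X_sub_C] at hfd
    set ν := -q.coeff 0
    have hq : q = X - Polynomial.C ν := by rw [map_neg, sub_neg_eq_add, ← hqm.eq_X_add_C (by omega)]
    set C₁ : Matrix (Fin 2) (Fin 2) F := !![μ, 0; 1, ν] with hC₁
    have hC : Cyc ((X - Polynomial.C μ) * q) C₁ := by
      have hch : C₁.charpoly = (X - Polynomial.C μ) * q := by
        rw [hq, charpoly_fin_two, trace_fin_two, det_fin_two]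
        simp [hC₁, map_add, map_mul]
        ring
      rw [← hch]
      refine cyc_of_det_two (v := Pi.single 0 1) ?_
      simp [hC₁, Matrix.mulVec, dotProduct, Fin.sum_univ_two]
    haveI : Nonempty (Fin s) := ⟨⟨0, hs1⟩⟩
    refine cover_rankOne h4 hn hxd (μ := μ) (ν := ν) (σ := Fin s) (hr.trans (Sim.blocks ?_ (Sim.refl _)))
    exact (cm_singleton _).trans ((cyc_comp hfm).sim hC)
  have h : Shape k f B := ⟨hB, hf, hshape⟩
  have hb := h.bound
  have hcg := h.card_ge
  have hd := hs.det_eq ▸ hxd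
  match s, hs, hd, hcard with
  | 0, hs, hd, hcard =>
    have hbl : blockList μ 0 k f B = B ++ List.replicate k f := by rw [blockList, List.replicate_zero, List.nil_append]
    rw [hbl] at hs hd
    match B, hB, hcard, hs, hd, hcg, hshape with
    | [], _, hcard, hs, hd, hcg, hshape =>
      have hk := hshape.resolve_left fun h => h rfl
      obtain ⟨hfm, hfd⟩ := hf (by omega)
      rw [List.nil_append] at hs hd hcard
      rw [card_idx, List.map_replicate, List.sum_replicate, hfd, smul_eq_mul] at hcard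
      have hq := hs.trans (sim_cm_replicate hfm hfd k)
      rcases Nat.lt_or_ge k 3 with hk3 | hk3
      · obtain rfl : k = 2 := by omega
        obtain rfl : n = 4 := by omega
        exact cover_two_quad h4 hfm hfd hs hxd
      · refine cover_of_cycS (a := 2) h4 hn hx hxd ((qx_cycS h4 (by rw [Fintype.card_fin]; omega) fun h0 => hxd ?_).of_sim hq)
          (by omega) (Or.inl (by omega))
        rw [hq.det_eq, det_qx, h0, zero_pow (by rw [Fintype.card_fin]; omega)]
    | b :: B', hB, hcard, hs, hd, hcg, _ =>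
      have hbm := (hB b (by simp)).1
      simp only [List.length_cons] at hcg
      by_cases hone : B' = [] ∧ k = 0
      · obtain ⟨rfl, rfl⟩ := hone
        have hc : Cyc b x := Cyc.of_sim (hs.trans (cm_singleton b)) (cyc_comp hbm)
        rcases Nat.lt_or_ge n 4 with h3 | h3
        · obtain rfl : n = 3 := by omega
          exact cover_three h4 hc hxd
        · exact cover_of_cycS (a := 1) h4 hn hx hxd ⟨x, b, hc, pr_singleton_self x⟩ (by omega) (Or.inl (by omega))
      · have hsr := (srS_big h4 hB hf (by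
          by_contra hno
          push Not at hno
          exact hone ⟨hno.1, by omega⟩) hd).of_sim hs
        have h1 : 1 ≤ B'.length + k := by
          by_contra hno
          exact hone ⟨List.length_eq_zero_iff.1 (by omega), by omega⟩
        exact cover_of_cycS h4 hn hx hxd hsr.cycS (by omega) (Or.inr hsr)
  | s + 1, hs, hd, hcard =>
    rcases Nat.mod_two_eq_zero_or_one n with hev | hodd
    · exact cover_even h4 h hs hev hxd
    rcases s with _ | s
    · have hc1 := card_blockList μ 1 k f B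
      have hflex : Flex x := Flex.of_sim ((hs.trans (sim_blockList_rest μ 1 k f B)).trans (sim_blocks_comm _ _))
        ((flex_scalar μ).blocks_left _)
      have hsr := hflex.srS ((srIn_one h4 h (by omega) hd).of_sim hs)
      exact cover_of_cycS h4 hn hx hxd hsr.cycS (by omega) (Or.inr hsr)
    · exact cover_odd h4 h hs hodd hxd

end CfsgLib.GLClass.Cover
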