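import Mathlib
import Cfsg.Agent.Lib.GLClass.Cover.Main

/-!
The covering number of `PSL(n, q)`.
-/

set_option autoImplicit false

namespace CfsgLib.GLClass.Cover

open Polynomial Matrix Module
open CfsgLib.GLClass.CommSL

variable {F : Type*} [Field F] {n : ℕ}

/-- From conjugates of determinant one to conjugates in the special linear group. -/
theorem exists_conjugators (X : Matrix.SpecialLinearGroup (Fin n) F) :
    ∀ (k : ℕ) {M : Matrix (Fin n) (Fin n) F}, Pr (X : Matrix (Fin n) (Fin n) F) (List.replicate k 1) M →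
      ∃ f : Fin k → Matrix.SpecialLinearGroup (Fin n) F,
        M = ((List.ofFn fun i => f i * X * (f i)⁻¹).prod : Matrix.SpecialLinearGroup (Fin n) F)
  | 0, M, h => ⟨Fin.elim0, by rw [show M = 1 from h]; simp⟩
  | k + 1, M, h => by
    obtain ⟨y, N, ⟨U, V, hUV, hUd, rfl⟩, hN, rfl⟩ := (show Pr _ (1 :: List.replicate k 1) M from h)
    obtain ⟨f, rfl⟩ := exists_conjugators X k hN
    obtain ⟨W, hW⟩ : ∃ W : Matrix.SpecialLinearGroup (Fin n) F, (W : Matrix (Fin n) (Fin n) F) = U := ⟨⟨U, hUd⟩, rfl⟩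
    refine ⟨Fin.cons W f, ?_⟩
    have hVd : V.det = 1 := by
      have := congrArg Matrix.det hUV
      rwa [det_mul, hUd, one_mul, det_one] at this
    obtain ⟨W', hW'⟩ : ∃ W' : Matrix.SpecialLinearGroup (Fin n) F, (W' : Matrix (Fin n) (Fin n) F) = V := ⟨⟨V, hVd⟩, rfl⟩
    have hWW : W * W' = 1 := Subtype.ext (by rw [Matrix.SpecialLinearGroup.coe_mul, hW, hW', hUV]; rfl)
    have hV : ((W⁻¹ : Matrix.SpecialLinearGroup (Fin n) F) : Matrix (Fin n) (Fin n) F) = V := by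
      rw [inv_eq_of_mul_eq_one_right hWW, hW']
    rw [List.ofFn_succ, List.prod_cons]
    simp only [Fin.cons_zero, Fin.cons_succ]
    rw [Matrix.SpecialLinearGroup.coe_mul, Matrix.SpecialLinearGroup.coe_mul, Matrix.SpecialLinearGroup.coe_mul, hV, hW]

theorem mk_ne_one_iff (h : 1 ≤ n) {X : Matrix.SpecialLinearGroup (Fin n) F} :
    (QuotientGroup.mk X : Matrix.ProjectiveSpecialLinearGroup (Fin n) F) = 1 ↔
      ∃ c : F, (X : Matrix (Fin n) (Fin n) F) = c • 1 := by
  rw [QuotientGroup.eq_one_iff, Matrix.SpecialLinearGroup.mem_center_iff]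
  constructor
  · rintro ⟨r, -, hr⟩
    exact ⟨r, by rw [← hr, Matrix.scalar_apply, Matrix.smul_one_eq_diagonal]⟩
  · rintro ⟨c, hc⟩
    refine ⟨c, ?_, by rw [hc, Matrix.scalar_apply, Matrix.smul_one_eq_diagonal]⟩
    have := X.property
    rwa [hc, det_smul, det_one, mul_one] at this

theorem psl_cover [Fintype F] (h4 : 4 ≤ Fintype.card F) (hn : 3 ≤ n)
    (x : Matrix.ProjectiveSpecialLinearGroup (Fin n) F) (hx : x ≠ 1)
    (g : Matrix.ProjectiveSpecialLinearGroup (Fin n) F) :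
    ∃ f : Fin n → Matrix.ProjectiveSpecialLinearGroup (Fin n) F, g = (List.ofFn fun i => f i * x * (f i)⁻¹).prod := by
  obtain ⟨X, rfl⟩ := QuotientGroup.mk_surjective x
  obtain ⟨G, rfl⟩ := QuotientGroup.mk_surjective g
  have hX : ∀ c : F, (X : Matrix (Fin n) (Fin n) F) ≠ c • 1 := fun c hc =>
    hx ((mk_ne_one_iff (by omega)).2 ⟨c, hc⟩)
  obtain ⟨hC1, hC2⟩ := cover_of_nonscalar h4 hn hX (by rw [X.property]; exact one_ne_zero)
  obtain ⟨G', hG', hP⟩ : ∃ G' : Matrix.SpecialLinearGroup (Fin n) F,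
      (QuotientGroup.mk G : Matrix.ProjectiveSpecialLinearGroup (Fin n) F) = QuotientGroup.mk G' ∧
      Pr (X : Matrix (Fin n) (Fin n) F) (List.replicate n 1) (G' : Matrix (Fin n) (Fin n) F) := by
    by_cases hG : ∃ c : F, (G : Matrix (Fin n) (Fin n) F) = c • 1
    · exact ⟨1, (mk_ne_one_iff (by omega)).2 hG, by simpa using hC2 X.property⟩
    · push Not at hG
      exact ⟨G, rfl, hC1 _ hG (by rw [G.property, X.property, one_pow])⟩
  obtain ⟨f, hf⟩ := exists_conjugators X n hP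
  refine ⟨fun i => QuotientGroup.mk (f i), ?_⟩
  rw [hG', Subtype.ext hf]
  change QuotientGroup.mk' _ (List.ofFn fun i => f i * X * (f i)⁻¹).prod = _
  rw [map_list_prod, List.map_ofFn]
  rfl

theorem psl_sharp [Fintype F] (h4 : 4 ≤ Fintype.card F) (hn : 3 ≤ n) :
    ∃ x : Matrix.ProjectiveSpecialLinearGroup (Fin n) F, x ≠ 1 ∧
      ∃ g : Matrix.ProjectiveSpecialLinearGroup (Fin n) F,
        ∀ f : Fin (n - 1) → Matrix.ProjectiveSpecialLinearGroup (Fin n) F,
          g ≠ (List.ofFn fun i => f i * x * (f i)⁻¹).prod := by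
  classical
  let a : Fin n := ⟨0, by omega⟩
  let b : Fin n := ⟨1, by omega⟩
  have hab : a ≠ b := fun h => by simp [a, b, Fin.ext_iff] at h
  set t : Matrix (Fin n) (Fin n) F := 1 + vecMulVec (Pi.single a 1) (Pi.single b 1) with ht
  have htd : t.det = 1 := by
    rw [ht, Matrix.vecMulVec_eq Unit, Matrix.det_one_add_replicateCol_mul_replicateRow]
    simp [hab.symm]
  let T : Matrix.SpecialLinearGroup (Fin n) F := ⟨t, htd⟩
  obtain ⟨g, hg1, hg2, hg0, hg⟩ := exists_rootless' h4 (show 2 ≤ n by omega)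
    (c := (-1) ^ n) (pow_ne_zero _ (neg_ne_zero.2 one_ne_zero))
  obtain ⟨G₀, hG₀⟩ := exists_cyc (ι := Fin n) hg1 (by rw [hg2, Fintype.card_fin])
  let G : Matrix.SpecialLinearGroup (Fin n) F :=
    ⟨G₀, det_of_cyc hG₀ (by rw [hg0, Fintype.card_fin, mul_one])⟩
  refine ⟨QuotientGroup.mk T, fun h => ?_, QuotientGroup.mk G, fun f hf => ?_⟩
  · obtain ⟨c, hc⟩ := (mk_ne_one_iff (by omega)).1 h
    have := congrFun (congrFun hc a) b
    simp [T, t, vecMulVec_apply, Matrix.one_apply, hab] at this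
  choose f' hf' using fun i => QuotientGroup.mk_surjective (f i)
  set P := (List.ofFn fun i => f' i * T * (f' i)⁻¹).prod with hP
  have hGP : (QuotientGroup.mk (G⁻¹ * P) : Matrix.ProjectiveSpecialLinearGroup (Fin n) F) = 1 := by
    rw [QuotientGroup.mk_mul, QuotientGroup.mk_inv, inv_mul_eq_one, hf, hP]
    change _ = QuotientGroup.mk' _ _
    rw [map_list_prod, List.map_ofFn]
    congr 2
    funext i
    rw [← hf' i]
    rfl
  obtain ⟨c, hc⟩ := (mk_ne_one_iff (by omega)).1 hGP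
  -- the product fixes a vector
  let R : Matrix (Fin (n - 1)) (Fin n) F :=
    Matrix.of fun i => Pi.single b 1 ᵥ* ((f' i)⁻¹ : Matrix.SpecialLinearGroup (Fin n) F).1
  obtain ⟨v, hv0, hv⟩ : ∃ v : Fin n → F, v ≠ 0 ∧ R *ᵥ v = 0 := by
    have hker := LinearMap.ker_ne_bot_of_finrank_lt (f := R.mulVecLin)
      (by rw [Module.finrank_fin_fun, Module.finrank_fin_fun]; omega)
    obtain ⟨v, hv, hv0⟩ := Submodule.exists_mem_ne_zero_of_ne_bot hker
    exact ⟨v, hv0, hv⟩
  have hfix : ∀ i, ((f' i * T * (f' i)⁻¹ : Matrix.SpecialLinearGroup (Fin n) F) : Matrix (Fin n) (Fin n) F) *ᵥ v = v := by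
    intro i
    have h1 : ((f' i)⁻¹ : Matrix.SpecialLinearGroup (Fin n) F).1 *ᵥ v =
        ((f' i)⁻¹ : Matrix.SpecialLinearGroup (Fin n) F).1 *ᵥ v := rfl
    have h2 : Pi.single b 1 ⬝ᵥ (((f' i)⁻¹ : Matrix.SpecialLinearGroup (Fin n) F).1 *ᵥ v) = 0 := by
      rw [Matrix.dotProduct_mulVec]
      exact congrFun hv i
    rw [Matrix.SpecialLinearGroup.coe_mul, Matrix.SpecialLinearGroup.coe_mul, Matrix.mul_assoc,
      ← Matrix.mulVec_mulVec, ← Matrix.mulVec_mulVec]
    show _ *ᵥ (t *ᵥ _) = v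
    rw [ht, Matrix.add_mulVec, Matrix.one_mulVec, vmv, h2, zero_smul, add_zero, Matrix.mulVec_mulVec,
      ← Matrix.SpecialLinearGroup.coe_mul, mul_inv_cancel, Matrix.SpecialLinearGroup.coe_one, Matrix.one_mulVec]
  have hPv : (P : Matrix (Fin n) (Fin n) F) *ᵥ v = v := by
    rw [hP]
    have : ∀ l : List (Matrix.SpecialLinearGroup (Fin n) F),
        (∀ y ∈ l, (y : Matrix (Fin n) (Fin n) F) *ᵥ v = v) → ((l.prod : Matrix.SpecialLinearGroup (Fin n) F) : Matrix (Fin n) (Fin n) F) *ᵥ v = v := by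
      intro l
      induction l with
      | nil => simp
      | cons y l ih =>
        intro hl
        rw [List.prod_cons, Matrix.SpecialLinearGroup.coe_mul, ← Matrix.mulVec_mulVec,
          ih fun z hz => hl z (List.mem_cons_of_mem _ hz), hl y (by simp)]
    refine this _ fun y hy => ?_
    obtain ⟨i, rfl⟩ := (List.mem_ofFn' _ _).1 hy
    exact hfix i
  have hPG : (P : Matrix (Fin n) (Fin n) F) = c • G₀ := by
    have h1 : P = G * (G⁻¹ * P) := (mul_inv_cancel_left G P).symm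
    rw [h1, Matrix.SpecialLinearGroup.coe_mul, hc, Matrix.mul_smul, Matrix.mul_one]
  rw [hPG, Matrix.smul_mulVec] at hPv
  have hc0 : c ≠ 0 := by
    rintro rfl
    rw [zero_smul] at hPv
    exact hv0 hPv.symm
  refine hg c⁻¹ ?_
  rw [← hG₀.charpoly_eq, Matrix.eval_charpoly]
  refine Matrix.exists_mulVec_eq_zero_iff.1 ⟨v, hv0, ?_⟩
  rw [Matrix.scalar_apply, ← Matrix.smul_one_eq_diagonal, Matrix.sub_mulVec, Matrix.smul_mulVec, Matrix.one_mulVec,
    sub_eq_zero]
  calc c⁻¹ • v = c⁻¹ • (c • G₀ *ᵥ v) := by rw [hPv]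
    _ = _ := by rw [smul_smul, inv_mul_cancel₀ hc0, one_smul]

end CfsgLib.GLClass.Cover
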